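import Cfsg.Agent.Lib.FTCons.DirectSylow
import Cfsg.Agent.Lib.PGroup.Basic

/-!
# Automorphisms centralising a Sylow 2-subgroup

For a group with trivial odd core the Sylow 2-subgroups of this automorphism group are abelian
and have normal complements; it is solvable, given that groups of odd order are.
-/

set_option autoImplicit false
set_option linter.style.haveILetI false

namespace Cfsg.Lib.FTCons

open Subgroup SemidirectProduct

universe u

/-- Groups of odd order are solvable. -/
def OddSolvable : Prop :=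
  ∀ (H : Type u) [Group H] [Finite H], Odd (Nat.card H) → Group.IsSolvable H

variable {G : Type u} [Group G] [Finite G]

theorem finite_mulAut : Finite (MulAut G) :=
  Finite.of_injective (fun a : MulAut G => (a : G → G)) DFunLike.coe_injective

/-- A 2-group of automorphisms fixing a Sylow 2-subgroup, and what is killed in it. -/
theorem kill (hO : ∀ N : Subgroup G, N.Normal → Odd (Nat.card N) → N = ⊥) (S : Sylow 2 G)
    (T : Subgroup (MulAut G)) (hT : IsPGroup 2 T) (hfix : ∀ a ∈ T, ∀ s ∈ S, a s = s)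
    (u : T) (hu : orderOf u = 2) (hcu : ∀ t : T, Commute t u)
    (hcase : u ∈ commutator T ∨ ∃ b ∈ normalizer (T : Set (MulAut G)),
      (∀ s ∈ S, b s = s) ∧ (u : MulAut G) ∈ closure ((fun t => t⁻¹ * (b * t * b⁻¹)) '' (T : Set (MulAut G)))) :
    False := by
  haveI : Fact (Nat.Prime 2) := ⟨Nat.prime_two⟩
  haveI := finite_mulAut (G := G)
  let φ : T →* MulAut G := T.subtype
  haveI : Finite (G ⋊[φ] T) := Finite.of_equiv _ SemidirectProduct.equivProd.symm
  set Gx : Subgroup (G ⋊[φ] T) := (inl : G →* G ⋊[φ] T).range with hGx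
  set Sx : Subgroup (G ⋊[φ] T) := (S : Subgroup G).map inl with hSx
  set Tx : Subgroup (G ⋊[φ] T) := (inr : T →* G ⋊[φ] T).range with hTx
  have hker : Gx = (rightHom : G ⋊[φ] T →* T).ker := range_inl_eq_ker_rightHom
  have hcomm : ∀ s ∈ Sx, ∀ t ∈ Tx, Commute s t := by
    rintro _ ⟨s, hs, rfl⟩ _ ⟨t, rfl⟩
    show inl s * inr t = inr t * inl s
    have h := inl_aut (φ := φ) t s
    rw [show φ t s = s from hfix t t.2 s hs, map_inv, eq_mul_inv_iff_mul_eq] at h
    exact h
  have h2 : IsPGroup 2 ↥(Sx ⊔ Tx) := by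
    have hTx2 : IsPGroup 2 Tx := hT.of_equiv (MonoidHom.ofInjective inr_injective)
    refine (S.2.map inl).to_sup_of_normal_left' hTx2 ?_
    intro t ht
    refine mem_normalizer_iff.2 fun s => ⟨fun hs => ?_, fun hs => ?_⟩
    · rw [← (hcomm s hs t ht).eq, mul_inv_cancel_right]; exact hs
    · have e := hcomm _ hs t ht
      have : s = t * s * t⁻¹ := by
        have e' : t * s * t⁻¹ * t = t * (t * s * t⁻¹) := e.eq
        rw [inv_mul_cancel_right] at e'
        exact mul_left_cancel e'
      rw [this]; exact hs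
  obtain ⟨P, hP⟩ := h2.exists_le_sylow
  have hSG : (P : Subgroup (G ⋊[φ] T)).comap inl = S :=
    S.is_maximal' (P.2.comap_of_injective inl inl_injective) fun s hs =>
      hP (mem_sup_left ⟨s, hs, rfl⟩)
  have hPeq : (P : Subgroup (G ⋊[φ] T)) = Sx ⊔ Tx := by
    refine le_antisymm (fun x hx => ?_) hP
    rw [← inl_left_mul_inr_right x] at hx
    rw [← inl_left_mul_inr_right x]
    have h1 : inr x.right ∈ (P : Subgroup (G ⋊[φ] T)) := hP (mem_sup_right ⟨_, rfl⟩)
    have h3 : x.left ∈ (P : Subgroup (G ⋊[φ] T)).comap inl := by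
      have h4 := mul_mem hx (inv_mem h1)
      rw [mul_inv_cancel_right] at h4
      exact h4
    rw [hSG] at h3
    exact mul_mem (mem_sup_left ⟨_, h3, rfl⟩) (mem_sup_right ⟨_, rfl⟩)
  have D : Direct Gx Sx Tx P :=
    { norm := hker ▸ MonoidHom.normal_ker _
      le := map_le_range _ _
      disj := by
        refine eq_bot_iff.2 ?_
        rintro _ ⟨⟨g, rfl⟩, ⟨t, ht⟩⟩
        have := congrArg SemidirectProduct.right ht
        simp only [right_inr, right_inl] at this
        subst this
        rw [map_one] at ht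
        exact ht.symm
      top := by
        refine eq_top_iff.2 fun x _ => ?_
        rw [← inl_left_mul_inr_right x]
        exact mul_mem (mem_sup_left ⟨_, rfl⟩) (mem_sup_right ⟨_, rfl⟩)
      sup := hPeq
      comm := hcomm }
  have hcu' : ∀ t ∈ Tx, Commute t (inr u : G ⋊[φ] T) := by
    rintro _ ⟨t, rfl⟩; exact (hcu t).map inr
  have hiso : ∀ x : G ⋊[φ] T, x * inr u * x⁻¹ ∈ (P : Subgroup (G ⋊[φ] T)) →
      x * inr u * x⁻¹ = inr u := by
    intro x hx
    rcases hcase with hd | ⟨b, hb, hbS, hbu⟩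
    · refine D.conj_eq_of_derived hcu' ?_ x hx
      have : (commutator T).map (inr : T →* G ⋊[φ] T) = ⁅Tx, Tx⁆ := by
        rw [_root_.commutator_def, map_commutator, hTx, MonoidHom.range_eq_map]
      exact this ▸ mem_map_of_mem _ hd
    · have hbT : ∀ t : MulAut G, t ∈ T ↔ b * t * b⁻¹ ∈ T := fun t => mem_normalizer_iff.1 hb t
      let fg : T ≃* T :=
        { toFun := fun t => ⟨b * t * b⁻¹, (hbT t).1 t.2⟩
          invFun := fun t => ⟨b⁻¹ * t * b, (hbT _).2 (by
            rw [show b * (b⁻¹ * (t : MulAut G) * b) * b⁻¹ = t by group]; exact t.2)⟩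
          left_inv := fun t => Subtype.ext (by
            show b⁻¹ * (b * (t : MulAut G) * b⁻¹) * b = t
            group)
          right_inv := fun t => Subtype.ext (by
            show b * (b⁻¹ * (t : MulAut G) * b) * b⁻¹ = t
            group)
          map_mul' := fun s t => Subtype.ext (by
            show b * ((s : MulAut G) * t) * b⁻¹ = b * s * b⁻¹ * (b * t * b⁻¹)
            group) }
      let β : MulAut (G ⋊[φ] T) := SemidirectProduct.congr b fg fun t => by
        ext g
        show b ((t : MulAut G) g) = (b * (t : MulAut G) * b⁻¹) (b g)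
        simp
      have hβr : ∀ t : T, β (inr t) = inr (fg t) := fun t => by
        apply SemidirectProduct.ext <;> simp [β]
      have hβl : ∀ g : G, β (inl g) = inl (b g) := fun g => by
        apply SemidirectProduct.ext <;> simp [β]
      refine D.conj_eq_of_aut ⟨u, rfl⟩ hcu' β ?_ ?_ ?_ ?_ x hx
      · rintro _ ⟨g, rfl⟩; exact ⟨b g, (hβl g).symm⟩
      · rintro _ ⟨g, hg, rfl⟩; rw [hβl, hbS g hg]
      · rintro _ ⟨t, rfl⟩; exact ⟨fg t, (hβr t).symm⟩
      · have key : ∀ v ∈ closure ((fun t => t⁻¹ * (b * t * b⁻¹)) '' (T : Set (MulAut G))),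
            ∃ hv : v ∈ T, (inr ⟨v, hv⟩ : G ⋊[φ] T) ∈
              closure ((fun t => t⁻¹ * β t) '' (Tx : Set (G ⋊[φ] T))) := by
          intro v hv
          induction hv using closure_induction with
          | mem v hv =>
            obtain ⟨t, ht, rfl⟩ := hv
            refine ⟨mul_mem (inv_mem ht) ((hbT t).1 ht), subset_closure ⟨inr ⟨t, ht⟩, ⟨_, rfl⟩, ?_⟩⟩
            show (inr (⟨t, ht⟩ : T))⁻¹ * β (inr ⟨t, ht⟩) = _
            rw [hβr, ← map_inv, ← map_mul]
            rfl
          | one => exact ⟨one_mem _, by rw [show (⟨1, one_mem T⟩ : T) = 1 from rfl, map_one]; exact one_mem _⟩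
          | mul a c _ _ ha hc =>
            obtain ⟨ha, ha'⟩ := ha
            obtain ⟨hc, hc'⟩ := hc
            refine ⟨mul_mem ha hc, ?_⟩
            rw [show (⟨a * c, mul_mem ha hc⟩ : T) = ⟨a, ha⟩ * ⟨c, hc⟩ from rfl, map_mul]
            exact mul_mem ha' hc'
          | inv a _ ha =>
            obtain ⟨ha, ha'⟩ := ha
            refine ⟨inv_mem ha, ?_⟩
            rw [show (⟨a⁻¹, inv_mem ha⟩ : T) = ⟨a, ha⟩⁻¹ from rfl, map_inv]
            exact inv_mem ha'
        obtain ⟨hv, h⟩ := key u hbu
        exact h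
  have hO' : oddCore (G ⋊[φ] T) = ⊥ := by
    set N := oddCore (G ⋊[φ] T) with hN
    have hle : N ≤ Gx := by
      rw [hker]
      intro x hx
      obtain ⟨k, hk⟩ := hT (rightHom x)
      have h1 : orderOf (rightHom x : T) ∣ Nat.gcd (2 ^ k) (orderOf x) :=
        Nat.dvd_gcd (orderOf_dvd_of_pow_eq_one hk) (orderOf_map_dvd _ x)
      rw [((Nat.coprime_two_left.2 (ZStar.odd_orderOf_oddCore hx)).pow_left k).gcd_eq_one,
        Nat.dvd_one, orderOf_eq_one_iff] at h1
      exact h1
    have hmap : (N.comap inl).map inl = N := by rw [map_comap_eq, inf_eq_right.2 hle]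
    have hb : N.comap inl = ⊥ := hO _ inferInstance (by
      rw [← card_map_of_injective (f := (inl : G →* G ⋊[φ] T)) inl_injective, hmap]
      exact ZStar.odd_card_oddCore)
    rw [← hmap, hb, Subgroup.map_bot]
  have hz := ZStar.mem_center_of_isolated hO' (Invol.isolated_of_sylow P
    (by rw [orderOf_injective _ inr_injective, hu]) fun x hx => hiso x hx)
  have h1 : (u : MulAut G) = 1 := by
    ext g
    have h := inl_aut (φ := φ) u g
    rw [map_inv, ← mem_center_iff.1 hz (inl g), mul_inv_cancel_right] at h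
    exact inl_injective h
  have h3 : u = 1 := Subtype.ext h1
  rw [h3, orderOf_one] at hu
  exact absurd hu (by norm_num)

theorem exists_central_involution {T : Type*} [Group T] [Finite T] (hT : IsPGroup 2 T)
    {N : Subgroup T} [N.Normal] (hne : N ≠ ⊥) : ∃ u ∈ N, orderOf u = 2 ∧ ∀ t : T, Commute t u := by
  haveI : Fact (Nat.Prime 2) := ⟨Nat.prime_two⟩
  set M := N ⊓ center T
  haveI : Nontrivial M := (nontrivial_iff_ne_bot M).2 (PGroup.inf_center_ne_bot hT hne)
  obtain ⟨k, hk0, hk⟩ := ((hT.to_subgroup M).nontrivial_iff_card).1 inferInstance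
  obtain ⟨u, hu⟩ := exists_prime_orderOf_dvd_card' (G := M) 2 (hk ▸ dvd_pow_self 2 hk0.ne')
  exact ⟨u, u.2.1, (orderOf_coe u).trans hu, fun t => mem_center_iff.1 u.2.2 t⟩

/-- The theorem, given that groups of odd order are solvable. -/
theorem automorphisms_centralizing_sylow (hFT : OddSolvable.{u})
    (hO : ∀ N : Subgroup G, N.Normal → Odd (Nat.card N) → N = ⊥) (S : Sylow 2 G)
    (C : Subgroup (MulAut G)) (hC : ∀ φ : MulAut G, φ ∈ C ↔ ∀ s : G, s ∈ S → φ s = s) :
    (∀ T : Sylow 2 ↥C, (∀ a b : ↥T, a * b = b * a) ∧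
      ∃ N : Subgroup ↥C, N.Normal ∧ Subgroup.IsComplement' N (T : Subgroup ↥C)) ∧
      Group.IsSolvable ↥C := by
  haveI : Fact (Nat.Prime 2) := ⟨Nat.prime_two⟩
  haveI := finite_mulAut (G := G)
  have hmain : ∀ T : Sylow 2 ↥C, (∀ a b : ↥T, a * b = b * a) ∧
      normalizer ((T : Subgroup C) : Set C) ≤ centralizer ((T : Subgroup C) : Set C) := by
    intro T
    set T' : Subgroup (MulAut G) := (T : Subgroup C).map C.subtype
    have hT' : IsPGroup 2 T' := T.2.map _
    have hfix : ∀ a ∈ T', ∀ s ∈ S, a s = s := by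
      rintro _ ⟨a, -, rfl⟩ s hs; exact (hC _).1 a.2 s hs
    have hab : ∀ a b : ↥T', a * b = b * a := by
      by_contra hn
      have hne : commutator T' ≠ ⊥ := fun h => hn fun a b => commutatorElement_eq_one_iff_mul_comm.1 (by
        have := Subgroup.commutator_mem_commutator (mem_top a) (mem_top b)
        rwa [← _root_.commutator_def, h, mem_bot] at this)
      obtain ⟨u, huN, hu, hcu⟩ := exists_central_involution hT' hne
      exact kill hO S T' hT' hfix u hu hcu (Or.inl huN)
    refine ⟨fun a b => ?_, fun b hb => ?_⟩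
    · have h := congrArg Subtype.val (hab ⟨_, mem_map_of_mem _ a.2⟩ ⟨_, mem_map_of_mem _ b.2⟩)
      exact Subtype.ext (Subtype.ext h)
    · by_contra hn
      have hbN : (b : MulAut G) ∈ normalizer (T' : Set (MulAut G)) := le_normalizer_map C.subtype (mem_map_of_mem _ hb)
      set A := (fun t => t⁻¹ * ((b : MulAut G) * t * (b : MulAut G)⁻¹)) '' (T' : Set (MulAut G))
      set N := (closure A).subgroupOf T'
      haveI : N.Normal := ⟨fun n hn g => by rwa [hab g n, mul_inv_cancel_right]⟩
      have hne : N ≠ ⊥ := fun h => hn (mem_centralizer_iff.2 fun t ht => by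
        have hm := mul_mem (inv_mem (mem_map_of_mem C.subtype ht : (t : MulAut G) ∈ T'))
          ((mem_normalizer_iff.1 hbN _).1 (mem_map_of_mem C.subtype ht))
        have hmem : (⟨_, hm⟩ : T') ∈ N :=
          mem_subgroupOf.2 (subset_closure ⟨(t : MulAut G), mem_map_of_mem _ ht, rfl⟩)
        rw [h, mem_bot] at hmem
        have he := congrArg Subtype.val hmem
        rw [OneMemClass.coe_one, inv_mul_eq_one, eq_mul_inv_iff_mul_eq] at he
        exact Subtype.ext he)
      obtain ⟨u, huN, hu, hcu⟩ := exists_central_involution hT' hne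
      exact kill hO S T' hT' hfix u hu hcu
        (Or.inr ⟨b, hbN, fun s hs => (hC _).1 b.2 s hs, mem_subgroupOf.1 huN⟩)
  refine ⟨fun T => ⟨(hmain T).1, _, MonoidHom.normal_ker _,
    MonoidHom.ker_transferSylow_isComplement' T (hmain T).2⟩, ?_⟩
  obtain ⟨T⟩ : Nonempty (Sylow 2 C) := inferInstance
  have hc := MonoidHom.ker_transferSylow_isComplement' T (hmain T).2
  set N := (MonoidHom.transferSylow T (hmain T).2).ker
  haveI : Group.IsSolvable N := hFT N (by
    rw [← hc.index_eq_card, ← Nat.not_even_iff_odd, even_iff_two_dvd]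
    exact T.not_dvd_index)
  haveI : Group.IsSolvable (C ⧸ N) := by
    haveI : Group.IsSolvable (T : Subgroup C) := Group.isSolvable_of_comm (hmain T).1
    exact Group.isSolvable_of_surjective (f := (QuotientGroup.mk' N).comp (T : Subgroup C).subtype) (by
      intro x
      obtain ⟨c, rfl⟩ := QuotientGroup.mk'_surjective N x
      obtain ⟨⟨n, t⟩, e, -⟩ := hc.existsUnique c
      refine ⟨t, ?_⟩
      have e' : (n : C) * (t : C) = c := e
      rw [← e', map_mul, (QuotientGroup.eq_one_iff _).2 n.2 |> fun h => (show QuotientGroup.mk' N (n : C) = 1 from h), one_mul]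
      rfl)
  exact Group.isSolvable_of_ker_le_range N.subtype (QuotientGroup.mk' N) (by simp)

end Cfsg.Lib.FTCons
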