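import Cfsg.Agent.Lib.FTCons.AutSylow
import Cfsg.Agent.Lib.Sig.PConstrained
import Cfsg.Agent.Lib.Sig.SSFT.Apply

/-!
# The subgroup generated by the cores of involution centralizers

If the 2-locals are 2-constrained then `b ↦ O(C(b))` is balanced; with a self-centralizing normal abelian
subgroup of rank three in a Sylow 2-subgroup `S` the cores of the centralizers of the nontrivial elements of
any noncyclic-rank subgroup of `S` generate one subgroup of odd order, given that groups of odd order are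
solvable.
-/

set_option autoImplicit false
set_option linter.style.haveILetI false
set_option linter.unusedSectionVars false

namespace Cfsg.Lib.FTCons

open Subgroup
open Cfsg.Lib.Sig

universe u

variable {G : Type u} [Group G] [Finite G]

theorem involution_zpowers {b : G} (hb : b * b = 1) : IsPGroup 2 ↥(zpowers b) := by
  intro x
  obtain ⟨k, hk⟩ := mem_zpowers_iff.1 x.2
  refine ⟨1, Subtype.ext ?_⟩
  show (x : G) ^ (2 ^ 1) = 1
  rw [← hk, pow_one, pow_two, ← (Commute.refl b).mul_zpow, hb, one_zpow]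

theorem normalizer_zpowers_involution {b : G} (hb : b * b = 1) :
    normalizer ((zpowers b : Subgroup G) : Set G) = centralizer ({b} : Set G) := by
  refine le_antisymm (fun n hn => mem_centralizer_singleton_iff.2 ?_) ?_
  · have h1 := (mem_normalizer_iff.1 hn b).1 (mem_zpowers b)
    obtain ⟨k, hk⟩ := mem_zpowers_iff.1 h1
    rcases Int.even_or_odd k with ⟨t, rfl⟩ | ⟨t, rfl⟩
    · rw [← two_mul, zpow_mul, zpow_two, hb, one_zpow, eq_comm, conj_eq_one_iff] at hk
      rw [hk, mul_one, one_mul]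
    · rw [zpow_add, zpow_one, zpow_mul, zpow_two, hb, one_zpow, one_mul] at hk
      calc n * b = n * b * n⁻¹ * n := by group
        _ = b * n := by rw [← hk]
  · rw [← Local.FreeAction.centralizer_zpowers_eq]
    exact centralizer_le_normalizer _

/-- Conjugation maps cores of centralizers to cores of centralizers. -/
theorem centralizerPPrimeCore_map_conj (p : ℕ) (g a : G) :
    (Cfsg.centralizerPPrimeCore p a).map (MulAut.conj g).toMonoidHom ≤
      Cfsg.centralizerPPrimeCore p (g * a * g⁻¹) := by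
  have e : (centralizer ({a} : Set G)).map (MulAut.conj g).toMonoidHom = centralizer ({g * a * g⁻¹} : Set G) := by
    ext x
    simp only [mem_map, mem_centralizer_singleton_iff, MulEquiv.coe_toMonoidHom, MulAut.conj_apply]
    constructor
    · rintro ⟨y, hy, rfl⟩
      calc g * y * g⁻¹ * (g * a * g⁻¹) = g * (y * a) * g⁻¹ := by group
        _ = _ := by rw [hy]; group
    · intro hx
      refine ⟨g⁻¹ * x * g, ?_, by group⟩
      calc g⁻¹ * x * g * a = g⁻¹ * (x * (g * a * g⁻¹)) * g := by group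
        _ = _ := by rw [hx]; group
  set f := ((MulAut.conj g).subgroupMap (centralizer ({a} : Set G))).trans (MulEquiv.subgroupCongr e) with hf
  rintro _ ⟨_, ⟨y, hy, rfl⟩, rfl⟩
  refine ⟨f y, ?_, ?_⟩
  · rw [← Cfsg.Lib.Core.map_pPrimeCore_equiv f]
    exact mem_map_of_mem _ hy
  · simp [hf]
    rfl

variable (h2c : ∀ T : Subgroup G, IsPGroup 2 T → T ≠ ⊥ →
  Cfsg.IsPConstrained 2 ↥(normalizer (T : Set G)))
include h2c

theorem constrained_centralizer {b : G} (hb : b * b = 1) (hb1 : b ≠ 1) :
    Cfsg.IsPConstrained 2 ↥(centralizer ({b} : Set G)) := by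
  have h := h2c (zpowers b) (involution_zpowers hb) fun e => hb1 (mem_bot.1 (e ▸ mem_zpowers b))
  rwa [normalizer_zpowers_involution hb] at h

/-- Balance at an involution. -/
theorem core_inf_le {a b : G} (ha : IsPGroup 2 ↥(zpowers a)) (hab : a * b = b * a) (hb : b * b = 1)
    (hb1 : b ≠ 1) :
    Cfsg.centralizerPPrimeCore 2 a ⊓ centralizer ({b} : Set G) ≤ Cfsg.centralizerPPrimeCore 2 b :=
  centralizerPPrimeCore_inf_le ha hab (constrained_centralizer h2c hb hb1)

/-- The core of the centralizer of a 2-element lies in that of the involution it generates. -/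
theorem exists_involution_core {b : G} (hb : IsPGroup 2 ↥(zpowers b)) (hb1 : b ≠ 1) :
    ∃ t ∈ zpowers b, t * t = 1 ∧ t ≠ 1 ∧
      Cfsg.centralizerPPrimeCore 2 b ≤ Cfsg.centralizerPPrimeCore 2 t := by
  obtain ⟨k, hk⟩ := hb ⟨b, mem_zpowers b⟩
  have hbk : b ^ (2 ^ k) = 1 := congrArg Subtype.val hk
  classical
  have hex : ∃ m, b ^ (2 ^ m) = 1 := ⟨k, hbk⟩
  set m := Nat.find hex
  have hm : m ≠ 0 := fun e => hb1 (by
    have := Nat.find_spec hex
    rwa [show Nat.find hex = 0 from e, pow_zero, pow_one] at this)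
  refine ⟨b ^ (2 ^ (m - 1)), npow_mem_zpowers b _, ?_, Nat.find_min hex (Nat.sub_lt (Nat.pos_of_ne_zero hm) one_pos), ?_⟩
  · rw [← pow_two, ← pow_mul, ← pow_succ, Nat.sub_add_cancel (Nat.pos_of_ne_zero hm)]
    exact Nat.find_spec hex
  · set t := b ^ (2 ^ (m - 1))
    have hbt : b * t = t * b := (Commute.self_pow b _).eq
    have htt : t * t = 1 := by
      rw [← pow_two, ← pow_mul, ← pow_succ, Nat.sub_add_cancel (Nat.pos_of_ne_zero hm)]
      exact Nat.find_spec hex
    refine (le_inf le_rfl ?_).trans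
      (core_inf_le h2c hb hbt htt (Nat.find_min hex (Nat.sub_lt (Nat.pos_of_ne_zero hm) one_pos)))
    refine (map_subtype_le _).trans fun x hx => mem_centralizer_singleton_iff.2 ?_
    exact ((Commute.pow_right (show Commute x b from mem_centralizer_singleton_iff.1 hx) _)).eq

variable (hFT : OddSolvable.{u})
include hFT

/-- The functor on an elementary abelian subgroup of order at least eight. -/
theorem core_setup {E : Subgroup G} (hE : Cfsg.IsElementaryAbelian 2 E) (hE3 : 2 ^ 3 ≤ Nat.card E) :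
    SSFT.Setup 2 E (Cfsg.centralizerPPrimeCore 2) := by
  haveI := hE.1
  haveI : Fact (Nat.Prime 2) := ⟨Nat.prime_two⟩
  have hodd : ∀ a : G, ¬ 2 ∣ Nat.card ↥(Cfsg.centralizerPPrimeCore 2 a) := fun a hd =>
    Nat.prime_two.coprime_iff_not_dvd.1 (Cfsg.Lib.Core.pPrimeCore_coprime 2 _).symm
      (hd.trans (card_map_dvd _ _))
  refine ⟨hE, hE3, ⟨fun a _ _ => map_subtype_le _, fun a _ _ => hodd a, fun a ha _ b hb x hx => ?_,
    fun a ha ha1 b hb hb1 => core_inf_le h2c (involution_zpowers (by rw [← pow_two]; exact hE.2 a ha))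
      (setLike_mul_comm ha hb) (by rw [← pow_two]; exact hE.2 b hb) hb1⟩, fun a _ _ => ?_⟩
  · have h1 := centralizerPPrimeCore_map_conj 2 b a (mem_map_of_mem _ hx)
    rw [setLike_mul_comm hb ha, mul_inv_cancel_right] at h1
    simpa using h1
  · exact hFT _ (Nat.not_even_iff_odd.1 fun he => hodd a he.two_dvd)

/-- The cores generate one subgroup of odd order on a 2-group normalizing a rank three elementary subgroup. -/
theorem core_closure {S E : Subgroup G} (hS : IsPGroup 2 S) (hES : E ≤ S) (hSE : S ≤ normalizer (E : Set G))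
    (hE : Cfsg.IsElementaryAbelian 2 E) (hE3 : 2 ^ 3 ≤ Nat.card E) :
    Odd (Nat.card ↥(⨆ a : {a : G // a ∈ E ∧ a ≠ 1}, Cfsg.centralizerPPrimeCore 2 (a : G))) ∧
      ∀ B : Subgroup G, B ≤ S → ¬ Cfsg.PRankLE 2 1 ↥B →
        (⨆ a : {a : G // a ∈ E ∧ a ≠ 1}, Cfsg.centralizerPPrimeCore 2 (a : G)) =
            (⨆ b : {b : G // b ∈ B ∧ b ≠ 1}, Cfsg.centralizerPPrimeCore 2 (b : G)) ∧
          normalizer (B : Set G) ≤ normalizer
            ((⨆ a : {a : G // a ∈ E ∧ a ≠ 1}, Cfsg.centralizerPPrimeCore 2 (a : G) : Subgroup G) : Set G) := by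
  haveI : Fact (Nat.Prime 2) := ⟨Nat.prime_two⟩
  haveI := hE.1
  set θ := Cfsg.centralizerPPrimeCore 2 (G := G)
  set W := ⨆ a : {a : G // a ∈ E ∧ a ≠ 1}, θ (a : G) with hW
  have hSet := core_setup h2c hFT hE hE3
  -- involutions of `S`
  have hinv : ∀ b ∈ S, b * b = 1 → b ≠ 1 → W ⊓ centralizer ({b} : Set G) = θ b := by
    intro b hbS hb hb1
    by_cases hbE : b ∈ E
    · exact hSet.closure_inf_centralizer hbE hb1
    set K := E ⊓ centralizer ({b} : Set G) with hK
    -- half of the rank is centralized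
    have hbinv : b⁻¹ = b := inv_eq_of_mul_eq_one_right hb
    have hconj : ∀ e ∈ E, b * e * b ∈ E := fun e he => by
      have := (mem_normalizer_iff.1 (hSE hbS) e).1 he
      rwa [hbinv] at this
    let φ : E →* E :=
      { toFun := fun e => ⟨(e : G) * (b * e * b), mul_mem e.2 (hconj e e.2)⟩
        map_one' := Subtype.ext (by simp [hb])
        map_mul' := fun x y => Subtype.ext (by
          show (x : G) * y * (b * (x * y) * b) = (x : G) * (b * x * b) * ((y : G) * (b * y * b))
          calc (x : G) * y * (b * (x * y) * b)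
              = (x : G) * y * ((b * x * b) * (b * y * b)) := by
                rw [show (b * x * b) * (b * y * b) = b * x * (b * b) * y * b by group, hb]
                group
            _ = (x : G) * ((y : G) * (b * x * b)) * (b * y * b) := by group
            _ = _ := by rw [setLike_mul_comm y.2 (hconj x x.2)]; group) }
    have hker : φ.ker.map E.subtype ≤ K := by
      rintro _ ⟨e, he, rfl⟩
      refine ⟨e.2, mem_centralizer_singleton_iff.2 ?_⟩
      have h1 : (e : G) * (b * e * b) = 1 := congrArg Subtype.val he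
      have h2 : b * e * b = e := by
        rw [← inv_eq_of_mul_eq_one_right h1]
        exact inv_eq_of_mul_eq_one_right (by rw [← pow_two]; exact hE.2 e e.2)
      show (e : G) * b = b * e
      calc (e : G) * b = b * e * b * b := by rw [h2]
        _ = b * e := by rw [mul_assoc (b * (e : G)), hb, mul_one]
    have hrange : φ.range.map E.subtype ≤ K := by
      rintro _ ⟨_, ⟨e, rfl⟩, rfl⟩
      refine ⟨(φ e).2, mem_centralizer_singleton_iff.2 ?_⟩
      show (e : G) * (b * e * b) * b = b * ((e : G) * (b * e * b))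
      calc (e : G) * (b * e * b) * b = (e : G) * b * e := by
            rw [show (e : G) * (b * e * b) * b = (e : G) * b * e * (b * b) by group, hb, mul_one]
        _ = b * ((b * e * b) * e) := by
            rw [show b * ((b * (e : G) * b) * e) = (b * b) * e * b * e by group, hb, one_mul]
        _ = _ := by rw [setLike_mul_comm (hconj e e.2) e.2]
    have hcard : Nat.card E ≤ Nat.card K * Nat.card K := by
      rw [← φ.ker.card_mul_index, Subgroup.index_ker]
      refine Nat.mul_le_mul ?_ ?_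
      · rw [← card_map_of_injective (K := φ.ker) E.subtype_injective]
        exact Nat.le_of_dvd Nat.card_pos (card_dvd_of_le hker)
      · show Nat.card φ.range ≤ _
        rw [← card_map_of_injective (K := φ.range) E.subtype_injective]
        exact Nat.le_of_dvd Nat.card_pos (card_dvd_of_le hrange)
    have hKE : K ≤ E := inf_le_left
    have hK2 : 2 ^ 2 ≤ Nat.card K := by
      obtain ⟨n, hn⟩ := IsPGroup.iff_card.1 (hS.to_le (hKE.trans hES))
      rw [hn] at hcard ⊢
      by_contra hlt
      have hn1 : n ≤ 1 := by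
        by_contra h
        exact hlt (Nat.pow_le_pow_right (by norm_num) (by omega))
      have := Nat.mul_le_mul (Nat.pow_le_pow_right (show 1 ≤ 2 by norm_num) hn1)
        (Nat.pow_le_pow_right (show 1 ≤ 2 by norm_num) hn1)
      omega
    have hcb : ∀ x ∈ K, x * b = b * x := fun x hx => mem_centralizer_singleton_iff.1 hx.2
    -- `K` and `b`
    let F : Subgroup G :=
      { carrier := {x | x ∈ K ∨ b * x ∈ K}
        one_mem' := Or.inl (one_mem K)
        mul_mem' := by
          rintro x y (hx | hx) (hy | hy)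
          · exact Or.inl (mul_mem hx hy)
          · refine Or.inr ?_
            rw [show b * (x * y) = x * (b * y) by rw [← mul_assoc, ← hcb x hx, mul_assoc]]
            exact mul_mem hx hy
          · refine Or.inr ?_
            rw [← mul_assoc]
            exact mul_mem hx hy
          · refine Or.inl ?_
            have hxb : b * x * b = x := by
              calc b * x * b = b * (b * x) := hcb _ hx
                _ = x := by rw [← mul_assoc, hb, one_mul]
            rw [show x * y = b * x * (b * y) by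
              conv_lhs => rw [← hxb]
              group]
            exact mul_mem hx hy
        inv_mem' := by
          rintro x (hx | hx)
          · exact Or.inl (inv_mem hx)
          · refine Or.inr ?_
            have h1 : b * x⁻¹ = (b * x)⁻¹ := by
              rw [mul_inv_rev, hbinv]
              have h2 := hcb _ hx
              calc b * x⁻¹ = x⁻¹ * (x * b) * x⁻¹ := by group
                _ = x⁻¹ * (b * ((b * x) * b)) * x⁻¹ := by
                  rw [show b * ((b * x) * b) = (b * b) * (x * b) by group, hb, one_mul]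
                _ = x⁻¹ * (b * (b * (b * x))) * x⁻¹ := by rw [h2]
                _ = x⁻¹ * (b * x) * x⁻¹ := by rw [← mul_assoc b b, hb, one_mul]
                _ = x⁻¹ * b := by group
            rw [h1]
            exact inv_mem hx }
    have hKF : K ≤ F := fun x hx => Or.inl hx
    have hbF : b ∈ F := Or.inr (by rw [hb]; exact one_mem K)
    have hFmem : ∀ x ∈ F, ∃ k ∈ K, x = k ∨ x = b * k := by
      rintro x (hx | hx)
      · exact ⟨x, hx, Or.inl rfl⟩
      · exact ⟨b * x, hx, Or.inr (by rw [← mul_assoc, hb, one_mul])⟩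
    have hFe : Cfsg.IsElementaryAbelian 2 F := by
      have hkk : ∀ x ∈ K, ∀ y ∈ K, x * y = y * x := fun x hx y hy => setLike_mul_comm (hKE hx) (hKE hy)
      have hk2 : ∀ x ∈ K, x * x = 1 := fun x hx => by rw [← pow_two]; exact hE.2 x (hKE hx)
      refine ⟨⟨⟨fun x y => Subtype.ext ?_⟩⟩, fun x hx => ?_⟩
      · obtain ⟨c, hc, e1⟩ := hFmem x x.2
        obtain ⟨d, hd, e2⟩ := hFmem y y.2
        show (x : G) * y = y * x
        have hcb' : Commute c b := hcb c hc
        have hdb' : Commute d b := hcb d hd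
        have hcd : Commute c d := hkk c hc d hd
        rcases e1 with e1 | e1 <;> rcases e2 with e2 | e2 <;> rw [e1, e2]
        · exact hcd.eq
        · exact (hcb'.mul_right hcd).eq
        · exact (hdb'.mul_right hcd.symm).symm.eq
        · exact (((Commute.refl b).mul_right hdb'.symm).mul_left (hcb'.mul_right hcd)).eq
      · obtain ⟨c, hc, e1 | e1⟩ := hFmem x hx <;> rw [e1, pow_two]
        · exact hk2 c hc
        · rw [show b * c * (b * c) = b * (c * b) * c by group, hcb c hc,
            show b * (b * c) * c = (b * b) * (c * c) by group, hb, hk2 c hc, one_mul]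
    have hF3 : 2 ^ 3 ≤ Nat.card F := by
      obtain ⟨c, hc⟩ := card_dvd_of_le hKF
      have hne : Nat.card F ≠ Nat.card K := fun e => hbE (hKE (by
        rw [eq_of_le_of_card_ge hKF e.le]
        exact hbF))
      have hpos : 0 < Nat.card F := Nat.card_pos
      rw [hc] at hne hpos ⊢
      have h1 : 2 ≤ c := by
        by_contra h
        interval_cases c <;> omega
      calc 2 ^ 3 = 2 ^ 2 * 2 := by norm_num
        _ ≤ Nat.card K * c := Nat.mul_le_mul hK2 h1
    have hSF := core_setup h2c hFT hFe hF3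
    have e1 : (⨆ a : {a : G // a ∈ K ∧ a ≠ 1}, θ (a : G)) = W := hSet.closure_eq hKE hK2
    have e2 := hSF.closure_eq hKF hK2
    rw [← e1, e2]
    exact hSF.closure_inf_centralizer hbF hb1
  -- any nontrivial element of `S`
  have hle : ∀ b ∈ S, b ≠ 1 → θ b ≤ W := by
    intro b hbS hb1
    obtain ⟨t, ht, htt, ht1, hbt⟩ := exists_involution_core h2c (hS.to_le (zpowers_le.2 hbS)) hb1
    exact hbt.trans ((hinv t ((zpowers_le.2 hbS) ht) htt ht1).ge.trans inf_le_left)
  have hSW : S ≤ normalizer (W : Set G) := by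
    refine SSFT.le_normalizer_of_iSup le_rfl fun g hg a x hx => ?_
    have hmem : g * (a : G) * g⁻¹ ∈ E ∧ g * (a : G) * g⁻¹ ≠ 1 :=
      ⟨(mem_normalizer_iff.1 (hSE hg) _).1 a.2.1, fun e => a.2.2 (conj_eq_one_iff.1 e)⟩
    exact le_iSup_of_le (f := fun a : {a : G // a ∈ E ∧ a ≠ 1} => θ (a : G)) ⟨_, hmem⟩ le_rfl
      (centralizerPPrimeCore_map_conj 2 g a (mem_map_of_mem _ hx))
  have hWp : ¬ 2 ∣ Nat.card W := hSet.closure_mem.2.1
  refine ⟨Nat.not_even_iff_odd.1 fun he => hWp he.two_dvd, fun B hB hrk => ?_⟩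
  have heq : W = ⨆ b : {b : G // b ∈ B ∧ b ≠ 1}, θ (b : G) := by
    refine le_antisymm ?_ (iSup_le fun b => hle b (hB b.2.1) b.2.2)
    simp only [Cfsg.PRankLE, not_forall, not_le] at hrk
    obtain ⟨D₀, hD₀c, hD₀2, hD₀⟩ := hrk
    haveI := hD₀c
    set D := D₀.map B.subtype with hD
    have hDB : D ≤ B := map_subtype_le _
    haveI : IsMulCommutative D := by
      refine ⟨⟨?_⟩⟩
      rintro ⟨_, x, hx, rfl⟩ ⟨_, y, hy, rfl⟩
      exact Subtype.ext (congrArg (Subtype.val : B → G) (setLike_mul_comm (s := D₀) hx hy))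
    have hDexp : ∀ a ∈ D, a ^ 2 = 1 := by
      rintro _ ⟨x, hx, rfl⟩
      rw [← map_pow, hD₀2 x hx, map_one]
    have hD2 : 2 ^ 2 ≤ Nat.card D := by
      rw [hD, card_map_of_injective B.subtype_injective]
      obtain ⟨n, hn⟩ := IsPGroup.iff_card.1 ((hS.to_le hB).to_subgroup D₀)
      rw [hn] at hD₀ ⊢
      exact Nat.pow_le_pow_right (by norm_num) ((Nat.pow_lt_pow_iff_right (by norm_num)).1 hD₀)
    have hcop : (Nat.card D).Coprime (Nat.card W) := by
      obtain ⟨n, hn⟩ := IsPGroup.iff_card.1 (hS.to_le (hDB.trans hB))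
      rw [hn]
      exact (Nat.prime_two.coprime_iff_not_dvd.2 hWp).pow_left _
    refine (Coprime.le_iSup_centralizer_cocyclic (A := D) W ((hDB.trans hB).trans hSW) hcop).trans
      (iSup₂_le fun C hC => ?_)
    obtain ⟨b, hb, hb1⟩ := C.bot_or_exists_ne_one.resolve_left (SSFT.cocyclic_ne_bot hDexp hD2 hC)
    have hbD : b ∈ D := hC.1 hb
    refine le_trans ?_ (le_iSup_of_le (f := fun b : {b : G // b ∈ B ∧ b ≠ 1} => θ (b : G))
      ⟨b, hDB hbD, hb1⟩ le_rfl)
    exact (inf_le_inf_left _ (centralizer_le (Set.singleton_subset_iff.2 hb))).trans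
      (hinv b (hB (hDB hbD)) (by rw [← pow_two]; exact hDexp b hbD) hb1).le
  refine ⟨heq, SSFT.le_normalizer_of_iSup heq.le fun g hg b x hx => ?_⟩
  have hmem : g * (b : G) * g⁻¹ ∈ B ∧ g * (b : G) * g⁻¹ ≠ 1 :=
    ⟨(mem_normalizer_iff.1 hg _).1 b.2.1, fun e => b.2.2 (conj_eq_one_iff.1 e)⟩
  rw [heq]
  exact le_iSup_of_le (f := fun b : {b : G // b ∈ B ∧ b ≠ 1} => θ (b : G)) ⟨_, hmem⟩ le_rfl
    (centralizerPPrimeCore_map_conj 2 g b (mem_map_of_mem _ hx))

/-- Statement S3110, given solvability of groups of odd order. -/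
theorem cores_generate_odd (A₀ : Sylow 2 G) (A : Subgroup ↥(A₀ : Subgroup G)) (hAn : A.Normal)
    (hAab : IsMulCommutative ↥A) (hA3 : ¬ Cfsg.PRankLE 2 2 ↥A) (S' : Sylow 2 G) :
    ∃ W : Subgroup G, Odd (Nat.card ↥W) ∧
      ∀ B : Subgroup G, B ≤ (S' : Subgroup G) → ¬ Cfsg.PRankLE 2 1 ↥B →
        W = (⨆ b : {b : G // b ∈ B ∧ b ≠ 1}, Cfsg.centralizerPPrimeCore 2 (b : G)) ∧
        normalizer (B : Set G) ≤ normalizer (W : Set G) := by
  haveI : Fact (Nat.Prime 2) := ⟨Nat.prime_two⟩
  haveI := hAab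
  let E₀ : Subgroup G :=
    { carrier := {x | ∃ a : ↥(A₀ : Subgroup G), a ∈ A ∧ a ^ 2 = 1 ∧ (a : G) = x}
      one_mem' := ⟨1, one_mem A, one_pow 2, rfl⟩
      mul_mem' := by
        rintro _ _ ⟨a, ha, ha2, rfl⟩ ⟨b, hb, hb2, rfl⟩
        exact ⟨a * b, mul_mem ha hb, by
          rw [(show Commute a b from setLike_mul_comm (s := A) ha hb).mul_pow, ha2, hb2, one_mul], rfl⟩
      inv_mem' := by
        rintro _ ⟨a, ha, ha2, rfl⟩
        exact ⟨a⁻¹, inv_mem ha, by rw [inv_pow, ha2, inv_one], rfl⟩ }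
  have hE₀S : E₀ ≤ (A₀ : Subgroup G) := by rintro _ ⟨a, -, -, rfl⟩; exact a.2
  have hSE₀ : (A₀ : Subgroup G) ≤ normalizer (E₀ : Set G) := by
    refine Sig.le_normalizer_of_invariant fun g hg x hx => ?_
    obtain ⟨a, ha, ha2, rfl⟩ := hx
    exact ⟨⟨g, hg⟩ * a * ⟨g, hg⟩⁻¹, hAn.conj_mem a ha _, by rw [conj_pow, ha2, mul_one, mul_inv_cancel], rfl⟩
  have hE₀ : Cfsg.IsElementaryAbelian 2 E₀ := by
    refine ⟨⟨⟨?_⟩⟩, ?_⟩
    · rintro ⟨_, a, ha, -, rfl⟩ ⟨_, b, hb, -, rfl⟩
      exact Subtype.ext (congrArg (Subtype.val : ↥(A₀ : Subgroup G) → G) (setLike_mul_comm (s := A) ha hb))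
    · rintro _ ⟨a, -, ha2, rfl⟩
      exact congrArg Subtype.val ha2
  have hE₀3 : 2 ^ 3 ≤ Nat.card E₀ := by
    simp only [Cfsg.PRankLE, not_forall, not_le] at hA3
    obtain ⟨B, -, hB2, hB⟩ := hA3
    have h1 : Nat.card B ≤ Nat.card E₀ := by
      refine Nat.card_le_card_of_injective (fun x : B => (⟨_, ((x : A) : ↥(A₀ : Subgroup G)), (x : A).2,
        congrArg Subtype.val (hB2 x x.2), rfl⟩ : E₀)) fun x y e => ?_
      exact Subtype.ext (Subtype.ext (Subtype.ext (congrArg (fun z : E₀ => (z : G)) e)))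
    obtain ⟨n, hn⟩ := IsPGroup.iff_card.1 (A₀.2.to_le hE₀S)
    rw [hn] at h1 ⊢
    exact Nat.pow_le_pow_right (by norm_num) ((Nat.pow_lt_pow_iff_right (by norm_num)).1 (hB.trans_le h1))
  obtain ⟨g, hg⟩ := MulAction.exists_smul_eq G A₀ S'
  have hS' : (S' : Subgroup G) = (A₀ : Subgroup G).map (MulAut.conj g).toMonoidHom := by
    rw [← hg, Sylow.coe_subgroup_smul]
    rfl
  set E := E₀.map (MulAut.conj g).toMonoidHom
  have hinj : Function.Injective (MulAut.conj g).toMonoidHom := (MulAut.conj g).injective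
  have hSE : (S' : Subgroup G) ≤ normalizer (E : Set G) := by
    rw [hS']
    exact (map_mono hSE₀).trans (le_normalizer_map _)
  haveI := hE₀.1
  obtain ⟨h1, h2⟩ := core_closure h2c hFT (S := (S' : Subgroup G)) (E := E) S'.2
    (by rw [hS']; exact map_mono hE₀S) hSE
    ⟨inferInstance, by rintro _ ⟨x, hx, rfl⟩; rw [← map_pow, hE₀.2 x hx, map_one]⟩
    (by rw [card_map_of_injective hinj]; exact hE₀3)
  exact ⟨_, h1, h2⟩

end Cfsg.Lib.FTCons
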