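import Cfsg.Agent.S5212
import Cfsg.Agent.S0949
import Cfsg.Agent.Lib.Core.Cores
import Cfsg.Agent.Lib.Fusion.Alperin
import Cfsg.Agent.Lib.FusionSys.OfGroup
import Cfsg.Agent.Lib.FusionSys.MetacyclicType

/-!
# Metacyclic Sylow 2-subgroups with a cyclic quotient of order greater than two

Such a group is solvable, given that groups of odd order are: either the Sylow subgroup is
homocyclic and Brauer's theorem applies, or its fusion is inner and Frobenius gives a normal
complement of odd order.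
-/

set_option autoImplicit false
set_option linter.style.haveILetI false

namespace Cfsg.Lib.FTCons.MetacyclicSylow

open Subgroup

universe u

variable {G : Type u} [Group G] [Finite G]

/-- A cyclic group all of whose elements square to one has at most two elements. -/
theorem small_of_sq {Y : Type*} [Group Y] [Finite Y] [IsCyclic Y] (h : ∀ y : Y, y ^ 2 = 1) :
    Nat.card Y ≤ 2 :=
  Cfsg.Lib.FusionSys.MetacyclicType.card_le_of_exponent two_pos h

theorem zmod_two_cases : ∀ c : ZMod 2, c = 0 ∨ c = ((1 : ℤ) : ZMod 2) := by decide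

/-- Images of a dihedral group in a commutative group have exponent two. -/
theorem dihedral_sq {Y : Type*} [CommGroup Y] {m : ℕ} (f : DihedralGroup m →* Y) (x : DihedralGroup m) :
    f x ^ 2 = 1 := by
  have hs : ∀ i : ZMod m, f (DihedralGroup.sr i) ^ 2 = 1 := fun i => by
    rw [← map_pow, sq, DihedralGroup.sr_mul_self, map_one]
  rcases x with i | i
  · have e : DihedralGroup.r i = DihedralGroup.sr 0 * DihedralGroup.sr i := by simp
    rw [e, map_mul, mul_pow, hs, hs, one_mul]
  · exact hs i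

/-- Images of `QuaternionGroup m`, `m` even, in a commutative group have exponent two. -/
theorem quaternion_sq {Y : Type*} [CommGroup Y] {m : ℕ} (hm : Even m) (f : QuaternionGroup m →* Y)
    (x : QuaternionGroup m) : f x ^ 2 = 1 := by
  obtain ⟨t, rfl⟩ := hm
  have hs : ∀ i : ZMod (2 * (t + t)),
      f (QuaternionGroup.xa i) ^ 2 = f (QuaternionGroup.a (((t + t : ℕ) : ZMod (2 * (t + t))))) := fun i => by
    rw [← map_pow, QuaternionGroup.xa_sq]
  have ha : ∀ i : ZMod (2 * (t + t)), f (QuaternionGroup.a i) ^ 2 = 1 := fun i => by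
    have e : QuaternionGroup.xa 0 * QuaternionGroup.a i = QuaternionGroup.xa i := by simp
    have h1 := congrArg (fun z => f z ^ 2) e
    simp only [map_mul, mul_pow, hs] at h1
    exact mul_left_cancel (h1.trans (mul_one _).symm)
  rcases x with i | i
  · exact ha i
  · rw [hs, ← ha ((t : ℕ) : ZMod (2 * (t + t))), ← map_pow, sq, QuaternionGroup.a_mul_a,
      Nat.cast_add]

/-- Images of a semidihedral group in a commutative group have exponent two. -/
theorem quasiDihedral_sq {X Y : Type*} [Group X] [Finite X] [CommGroup Y] (h : Cfsg.IsQuasiDihedral X)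
    (f : X →* Y) (z : X) : f z ^ 2 = 1 := by
  obtain ⟨n, hn, hX, x, y, hx, hy, hxy⟩ := h
  obtain ⟨k, rfl⟩ : ∃ k, n = k + 3 := ⟨n - 3, by omega⟩
  have h4 : (4 : ℕ) ∣ 2 ^ (k + 3 - 1) := ⟨2 ^ k, by
    rw [show k + 3 - 1 = k + 2 by omega, pow_add]; ring⟩
  obtain ⟨c, hc⟩ := h4
  have hc0 : 0 < c := by
    rcases Nat.eq_zero_or_pos c with rfl | h
    · simp at hc
    · exact h
  have hfx' : f x ^ (2 ^ (k + 3 - 1) - 2) = 1 := by
    have h1 := congrArg f hxy
    rw [map_mul, map_mul, map_inv, mul_inv_cancel_comm, map_pow] at h1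
    have e : 2 ^ (k + 3 - 1) - 1 = (2 ^ (k + 3 - 1) - 2) + 1 := by omega
    rw [e, pow_succ] at h1
    exact right_eq_mul.mp h1 |>.trans rfl
  have hfx : f x ^ 2 = 1 := by
    have h2 : f x ^ (2 ^ (k + 3)) = 1 := by rw [← map_pow, ← hx, pow_orderOf_eq_one, map_one]
    have hg := pow_gcd_eq_one.mpr ⟨hfx', h2⟩
    have hcop : Nat.Coprime (2 * c - 1) (2 ^ (k + 2)) :=
      (Nat.coprime_two_right.mpr ⟨c - 1, by omega⟩).pow_right _
    have hg2 : Nat.gcd (2 ^ (k + 3 - 1) - 2) (2 ^ (k + 3)) = 2 := by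
      rw [hc, show 4 * c - 2 = 2 * (2 * c - 1) by omega, show 2 ^ (k + 3) = 2 * 2 ^ (k + 2) by ring,
        Nat.gcd_mul_left, hcop, mul_one]
    rwa [hg2] at hg
  have hfy : f y ^ 2 = 1 := by rw [← map_pow, ← hy, pow_orderOf_eq_one, map_one]
  have hynx : y ∉ zpowers x := by
    rintro ⟨j, rfl⟩
    have h1 : x ^ 1 = x ^ (2 ^ (k + 3 - 1) - 1) := by
      rw [← hxy, pow_one, ((Commute.refl x).zpow_left j).eq, mul_inv_cancel_right]
    have h2 := pow_inj_mod.mp h1
    rw [hx] at h2
    have hlt : 2 ^ (k + 3 - 1) < 2 ^ (k + 3) := Nat.pow_lt_pow_right (by norm_num) (by omega)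
    rw [Nat.mod_eq_of_lt (Nat.one_lt_two_pow (by omega)), Nat.mod_eq_of_lt (by omega)] at h2
    omega
  let W : Subgroup X :=
    { carrier := {w | f w ^ 2 = 1}
      one_mem' := by simp
      mul_mem' := fun {a b} (ha : f a ^ 2 = 1) (hb : f b ^ 2 = 1) => by
        show f (a * b) ^ 2 = 1
        rw [map_mul, mul_pow, ha, hb, one_mul]
      inv_mem' := fun {a} (ha : f a ^ 2 = 1) => by
        show f a⁻¹ ^ 2 = 1
        rw [map_inv, inv_pow, ha, inv_one] }
  have hle : zpowers x < W := lt_of_le_of_ne (zpowers_le.mpr hfx) fun e => hynx (e ▸ hfy)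
  have hcard : Nat.card (zpowers x) = 2 ^ (k + 3) := by rw [Nat.card_zpowers, hx]
  have h1 := Subgroup.card_dvd_of_le hle.le
  obtain ⟨j, hj, hW⟩ := (Nat.dvd_prime_pow Nat.prime_two).mp (hX ▸ W.card_subgroup_dvd_card)
  rw [hcard, hW, Nat.pow_dvd_pow_iff_le_right (by norm_num)] at h1
  have hne : j ≠ k + 3 := fun e => hle.ne (Subgroup.eq_of_le_of_card_ge hle.le (by rw [hW, hcard, e]))
  have htop : W = ⊤ := W.eq_top_of_card_eq (by rw [hW, hX, show j = k + 3 + 1 by omega])
  exact (htop.symm ▸ Subgroup.mem_top z : z ∈ W)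

/-- A group with a normal Hall complement of odd order and a solvable quotient is solvable. -/
theorem solvable_of_complement (hFT : ∀ (H : Type u) [Group H] [Finite H], Odd (Nat.card H) → Group.IsSolvable H)
    (h : Cfsg.HasNormalPComplement 2 G) : Group.IsSolvable G := by
  obtain ⟨P, N, hN, hc⟩ := h
  haveI := hN
  haveI : Fact (Nat.Prime 2) := ⟨Nat.prime_two⟩
  have hi : N.index = Nat.card (P : Subgroup G) := hc.symm.index_eq_card
  obtain ⟨j, hj⟩ := (IsPGroup.iff_card).mp P.isPGroup'
  have hodd : Odd (Nat.card N) := by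
    rw [← hc.index_eq_card, Nat.odd_iff, ← Nat.two_dvd_ne_zero]
    exact P.not_dvd_index
  haveI := hFT N hodd
  haveI : Group.IsSolvable (G ⧸ N) := by
    haveI := (IsPGroup.of_card (p := 2) (G := G ⧸ N) (by
      rw [← Subgroup.index_eq_card, hi, hj])).isNilpotent
    infer_instance
  exact Group.isSolvable_of_ker_le_range N.subtype (QuotientGroup.mk' N) (by simp)

/-- Inner fusion gives a normal 2-complement. -/
theorem complement_of_inner [Fact (Nat.Prime 2)] (S : Sylow 2 G)
    (h : ∀ P : Subgroup G, (Cfsg.groupFusionSystem (S : Subgroup G)).Hom P =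
      (Cfsg.innerFusionSystem (S : Subgroup G)).Hom P) : Cfsg.HasNormalPComplement 2 G := by
  refine (Cfsg.Lib.Fusion.frobenius S).mpr fun Q hQ g hg hco => ?_
  have hmem : (MulAut.conj g).toMonoidHom.comp Q.subtype ∈
      (Cfsg.groupFusionSystem (S : Subgroup G)).Hom Q :=
    ⟨hQ, fun x => hQ ((mem_normalizer_iff.mp hg x).mp x.2), g, fun x => rfl⟩
  rw [h Q] at hmem
  obtain ⟨-, s, hs, hse⟩ := hmem
  have hse' : ∀ x ∈ Q, g * x * g⁻¹ = s * x * s⁻¹ := fun x hx => hse ⟨x, hx⟩
  have hsN : s ∈ normalizer (Q : Set G) := by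
    refine mem_normalizer_fintype fun x hx => ?_
    rw [← hse' x hx]
    exact (mem_normalizer_iff.mp hg x).mp hx
  have heq : Q.normalizerMonoidHom ⟨g, hg⟩ = Q.normalizerMonoidHom ⟨s, hsN⟩ :=
    MulEquiv.ext fun x => Subtype.ext (hse' x x.2)
  have h1 : orderOf (Q.normalizerMonoidHom ⟨g, hg⟩) ∣ orderOf g :=
    (orderOf_map_dvd _ _).trans (dvd_of_eq (Subgroup.orderOf_mk g hg))
  have h2 : orderOf (Q.normalizerMonoidHom ⟨g, hg⟩) ∣ orderOf s := by
    rw [heq]
    exact (orderOf_map_dvd _ _).trans (dvd_of_eq (Subgroup.orderOf_mk s hsN))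
  obtain ⟨j, hj⟩ := S.isPGroup' ⟨s, hs⟩
  have hs2 : orderOf s ∣ 2 ^ j := orderOf_dvd_of_pow_eq_one (congrArg Subtype.val hj)
  have h3 : orderOf (Q.normalizerMonoidHom ⟨g, hg⟩) = 1 :=
    Nat.eq_one_of_dvd_coprimes (hco.pow_right j) h1 (h2.trans hs2)
  rw [orderOf_eq_one_iff] at h3
  refine mem_centralizer_iff.mpr fun x hx => ?_
  have h4' : ((Q.normalizerMonoidHom ⟨g, hg⟩) ⟨x, hx⟩ : G) = x := by rw [h3]; rfl
  have h4 : g * x * g⁻¹ = x := h4'
  exact (mul_inv_eq_iff_eq_mul.mp h4).symm

/-- A cyclic Sylow 2-subgroup has a normal complement. -/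
theorem complement_of_cyclic [Fact (Nat.Prime 2)] (S : Sylow 2 G) [IsCyclic (S : Subgroup G)] :
    Cfsg.HasNormalPComplement 2 G := by
  refine (Cfsg.Lib.Fusion.frobenius S).mpr fun Q hQ g hg hco => ?_
  haveI : IsCyclic Q := isCyclic_of_injective (Subgroup.inclusion hQ) (Subgroup.inclusion_injective hQ)
  obtain ⟨j, hj⟩ := (IsPGroup.iff_card).mp (S.isPGroup'.to_le hQ)
  have hcard : Nat.card (MulAut Q) ∣ 2 ^ j := by
    rw [IsCyclic.card_mulAut, hj]
    rcases Nat.eq_zero_or_pos j with rfl | hj0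
    · simp
    · rw [Nat.totient_prime_pow Nat.prime_two hj0]
      simpa using Nat.pow_dvd_pow 2 (Nat.sub_le j 1)
  have h1 : orderOf (Q.normalizerMonoidHom ⟨g, hg⟩) ∣ orderOf g :=
    (orderOf_map_dvd _ _).trans (dvd_of_eq (Subgroup.orderOf_mk g hg))
  have h3 : orderOf (Q.normalizerMonoidHom ⟨g, hg⟩) = 1 :=
    Nat.eq_one_of_dvd_coprimes (hco.pow_right j) h1 ((_root_.orderOf_dvd_natCard _).trans hcard)
  rw [orderOf_eq_one_iff] at h3
  refine mem_centralizer_iff.mpr fun x hx => ?_
  have h4' : ((Q.normalizerMonoidHom ⟨g, hg⟩) ⟨x, hx⟩ : G) = x := by rw [h3]; rfl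
  have h4 : g * x * g⁻¹ = x := h4'
  exact (mul_inv_eq_iff_eq_mul.mp h4).symm

/-- A homocyclic Sylow 2-subgroup of exponent at least four. -/
theorem solvable_of_homocyclic (hFT : ∀ (H : Type u) [Group H] [Finite H], Odd (Nat.card H) → Group.IsSolvable H)
    (S : Sylow 2 G) {n : ℕ} (hn : 2 ≤ n)
    (e : (S : Subgroup G) ≃* Multiplicative (ZMod (2 ^ n) × ZMod (2 ^ n))) : Group.IsSolvable G := by
  haveI : Fact (Nat.Prime 2) := ⟨Nat.prime_two⟩
  haveI hO : Group.IsSolvable (Cfsg.pPrimeCore 2 G) :=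
    hFT _ (Nat.coprime_two_right.mp (Cfsg.Lib.Core.pPrimeCore_coprime 2 G))
  let f := QuotientGroup.mk' (Cfsg.pPrimeCore 2 G)
  have hf : Function.Surjective f := QuotientGroup.mk'_surjective _
  have hinj : Function.Injective (f.comp (S : Subgroup G).subtype) := by
    refine (injective_iff_map_eq_one _).mpr fun x hx => ?_
    have h1 : orderOf (x : G) ∣ Nat.card (Cfsg.pPrimeCore 2 G) :=
      Subgroup.orderOf_dvd_natCard _ ((QuotientGroup.eq_one_iff _).mp hx)
    obtain ⟨j, hj⟩ := S.isPGroup' x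
    have h2 : orderOf (x : G) ∣ 2 ^ j := orderOf_dvd_of_pow_eq_one (congrArg Subtype.val hj)
    exact Subtype.ext (orderOf_eq_one_iff.mp (Nat.eq_one_of_dvd_coprimes
      ((Cfsg.Lib.Core.pPrimeCore_coprime 2 G).pow_right j) h1 h2))
  have eq : ((S.mapSurjective hf : Sylow 2 _) : Subgroup (G ⧸ Cfsg.pPrimeCore 2 G)) =
      (f.comp (S : Subgroup G).subtype).range := by
    rw [MonoidHom.range_comp, Subgroup.range_subtype]
    rfl
  have e' := (MulEquiv.subgroupCongr eq).trans ((MonoidHom.ofInjective hinj).symm.trans e)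
  have hbot : ∀ N : Subgroup (G ⧸ Cfsg.pPrimeCore 2 G), N.Normal → Odd (Nat.card N) → N = ⊥ :=
    fun N hN hodd => le_bot_iff.mp ((Cfsg.Lib.Core.le_pPrimeCore' (p := 2) hN
      (Nat.coprime_two_right.mpr hodd)).trans_eq Cfsg.Lib.Core.pPrimeCore_quotient_eq_bot)
  obtain ⟨hnorm, -, hidx⟩ := Cfsg.Agent.S0949.result (S.mapSurjective hf) n hn e' hbot
  haveI := hnorm
  set P := ((S.mapSurjective hf : Sylow 2 _) : Subgroup (G ⧸ Cfsg.pPrimeCore 2 G)) with hP
  haveI : Group.IsSolvable P := by
    haveI := (S.mapSurjective hf).isPGroup'.isNilpotent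
    infer_instance
  haveI : Group.IsSolvable ((G ⧸ Cfsg.pPrimeCore 2 G) ⧸ P) := by
    apply hFT
    rw [← Subgroup.index_eq_card]
    rcases hidx with h | h <;> rw [h] <;> decide
  haveI : Group.IsSolvable (G ⧸ Cfsg.pPrimeCore 2 G) :=
    Group.isSolvable_of_ker_le_range P.subtype (QuotientGroup.mk' P) (by simp)
  exact Group.isSolvable_of_ker_le_range (Cfsg.pPrimeCore 2 G).subtype f (by simp [f])

/-- The theorem. -/
theorem isSolvable (hFT : ∀ (H : Type u) [Group H] [Finite H], Odd (Nat.card H) → Group.IsSolvable H)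
    (S : Sylow 2 G) (N : Subgroup ↥(S : Subgroup G)) [hN : N.Normal] (hNc : IsCyclic N)
    (hQc : IsCyclic (↥(S : Subgroup G) ⧸ N)) (hQ : 2 < Nat.card (↥(S : Subgroup G) ⧸ N)) :
    Group.IsSolvable G := by
  haveI : Fact (Nat.Prime 2) := ⟨Nat.prime_two⟩
  have hexp : ¬ ∀ y : ↥(S : Subgroup G) ⧸ N, y ^ 2 = 1 := fun h => absurd (small_of_sq h) (by omega)
  letI : CommGroup (↥(S : Subgroup G) ⧸ N) := IsCyclic.commGroup
  have hexp' : ¬ ∀ x : ↥(S : Subgroup G), QuotientGroup.mk' N x ^ 2 = 1 := fun h => hexp fun y => by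
    obtain ⟨x, rfl⟩ := QuotientGroup.mk'_surjective N y
    exact h x
  by_cases hc : IsCyclic ↥(S : Subgroup G)
  · exact solvable_of_complement hFT (complement_of_cyclic S)
  have hm : Cfsg.IsMetacyclic ↥(S : Subgroup G) := ⟨N, hN, hNc, hQc⟩
  by_cases hh : ∃ n k : ℕ, Nonempty (↥(S : Subgroup G) ≃* Multiplicative (Fin k → ZMod (2 ^ n)))
  · obtain ⟨n, k, ⟨e⟩⟩ := hh
    haveI : NeZero (2 ^ n) := ⟨pow_ne_zero _ two_ne_zero⟩
    match k, e with
    | 0, e =>
      refine absurd ?_ hc
      exact isCyclic_of_injective e.toMonoidHom e.injective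
    | 1, e =>
      refine absurd ?_ hc
      haveI : IsCyclic (Multiplicative (Fin 1 → ZMod (2 ^ n))) :=
        (AddEquiv.toMultiplicative (AddEquiv.funUnique (Fin 1) (ZMod (2 ^ n)))).isCyclic.mpr inferInstance
      exact isCyclic_of_injective e.toMonoidHom e.injective
    | 2, e =>
      have hn : 2 ≤ n := by
        by_contra hlt
        refine hexp' fun x => ?_
        rw [← map_pow, show x ^ 2 = 1 from e.injective ?_, map_one]
        rw [map_pow, map_one]
        refine Multiplicative.toAdd.injective ?_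
        rw [toAdd_pow, toAdd_one]
        ext i
        rw [Pi.smul_apply, Pi.zero_apply, nsmul_eq_mul,
          show ((2 : ℕ) : ZMod (2 ^ n)) = 0 from (ZMod.natCast_eq_zero_iff _ _).mpr
            ((Nat.pow_dvd_pow 2 (show n ≤ 1 by omega)).trans (by norm_num)) |>.trans rfl, zero_mul]
      exact solvable_of_homocyclic hFT S hn (e.trans (AddEquiv.toMultiplicative
        ({ finTwoArrowEquiv (ZMod (2 ^ n)) with map_add' := fun _ _ => rfl } :
          (Fin 2 → ZMod (2 ^ n)) ≃+ ZMod (2 ^ n) × ZMod (2 ^ n))))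
    | k + 3, e =>
      exfalso
      rcases Nat.eq_zero_or_pos n with rfl | hn
      · refine hexp' fun x => ?_
        haveI : Subsingleton (ZMod (2 ^ 0)) := (inferInstance : Subsingleton (ZMod 1))
        rw [show x = 1 from e.injective (Subsingleton.elim _ _)]
        simp
      let j : ZMod 2 →+ ZMod (2 ^ n) := ZMod.lift 2 ⟨zmultiplesHom _ ((2 ^ (n - 1) : ℕ) : ZMod (2 ^ n)), by
        rw [zmultiplesHom_apply, natCast_zsmul, nsmul_eq_mul, ← Nat.cast_mul,
          ← pow_succ', Nat.sub_add_cancel hn, ZMod.natCast_self]⟩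
      have hj : Function.Injective j := by
        refine (injective_iff_map_eq_zero j).mpr fun a ha => ?_
        rcases zmod_two_cases a with rfl | rfl
        · rfl
        · exfalso
          have h1 : j ((1 : ℤ) : ZMod 2) = ((2 ^ (n - 1) : ℕ) : ZMod (2 ^ n)) := by
            rw [ZMod.lift_coe]
            simp
          rw [h1, ZMod.natCast_eq_zero_iff, Nat.pow_dvd_pow_iff_le_right (by norm_num)] at ha
          omega
      let g : Multiplicative (ZMod 2) × Multiplicative (ZMod 2) × Multiplicative (ZMod 2) →*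
          Multiplicative (Fin (k + 3) → ZMod (2 ^ n)) :=
        { toFun := fun w => Multiplicative.ofAdd fun i =>
            if i.1 = 0 then j w.1.toAdd else if i.1 = 1 then j w.2.1.toAdd
            else if i.1 = 2 then j w.2.2.toAdd else 0
          map_one' := by
            refine Multiplicative.toAdd.injective (funext fun i => ?_)
            show (if i.1 = 0 then j 0 else if i.1 = 1 then j 0 else if i.1 = 2 then j 0 else 0) = 0
            simp
          map_mul' := fun a b => by
            refine Multiplicative.toAdd.injective (funext fun i => ?_)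
            simp only [toAdd_mul, toAdd_ofAdd, Pi.add_apply, Prod.fst_mul, Prod.snd_mul, map_add]
            split_ifs <;> simp }
      refine Cfsg.Lib.FusionSys.MetacyclicType.no_rank_three (p := 2) hm (e.symm.toMonoidHom.comp g)
        (e.symm.injective.comp fun a b hab => ?_)
      have h : ∀ i : Fin (k + 3), (g a).toAdd i = (g b).toAdd i := fun i => by rw [hab]
      have h0 := h ⟨0, by omega⟩
      have h1 := h ⟨1, by omega⟩
      have h2 := h ⟨2, by omega⟩
      simp [g] at h0 h1 h2
      exact Prod.ext (Multiplicative.toAdd.injective (hj h0))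
        (Prod.ext (Multiplicative.toAdd.injective (hj h1)) (Multiplicative.toAdd.injective (hj h2)))
  · refine solvable_of_complement hFT (complement_of_inner S (Cfsg.Agent.S5212.result S.isPGroup' _
      (Cfsg.Lib.FusionSys.isSaturated_groupFusionSystem S) hm hh ?_ ?_ ?_))
    · rintro ⟨m, ⟨e⟩⟩
      refine hexp' fun x => ?_
      have := dihedral_sq ((QuotientGroup.mk' N).comp e.symm.toMonoidHom) (e x)
      simpa using this
    · rintro ⟨m, ⟨e⟩⟩
      refine hexp' fun x => ?_
      have hcard : Nat.card ↥(S : Subgroup G) = Nat.card (QuaternionGroup m) := Nat.card_congr e.toEquiv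
      rcases Nat.eq_zero_or_pos m with rfl | hm0
      · haveI : Finite (QuaternionGroup 0) := Finite.of_equiv _ e.toEquiv
        haveI : Infinite (QuaternionGroup 0) := @Infinite.of_injective _ _ (inferInstance : Infinite ℤ)
          (fun i : ℤ => QuaternionGroup.a (n := 0) i) fun a b hab => by injection hab
        exact (not_finite (QuaternionGroup 0)).elim
      haveI : NeZero m := ⟨hm0.ne'⟩
      rw [Nat.card_eq_fintype_card (α := QuaternionGroup m), QuaternionGroup.card] at hcard
      obtain ⟨j, hj⟩ := (IsPGroup.iff_card).mp S.isPGroup'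
      have hm1 : m ≠ 1 := by
        rintro rfl
        exact hc (e.isCyclic.mpr QuaternionGroup.quaternionGroup_one_isCyclic)
      have heven : Even m := by
        obtain ⟨i, -, hi⟩ := (Nat.dvd_prime_pow Nat.prime_two).mp
          (show m ∣ 2 ^ j from ⟨4, by rw [← hj, hcard]; ring⟩)
        rw [hi] at hm1 ⊢
        exact (Nat.even_pow.mpr ⟨even_two, fun h => hm1 (by rw [h, pow_zero])⟩)
      have := quaternion_sq heven ((QuotientGroup.mk' N).comp e.symm.toMonoidHom) (e x)
      simpa using this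
    · exact fun h => hexp' fun x => quasiDihedral_sq h (QuotientGroup.mk' N) x

end Cfsg.Lib.FTCons.MetacyclicSylow
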