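import Cfsg.Agent.Lib.Sig.InvolutionComponent
import Cfsg.Agent.Lib.Core.Fitting
import Cfsg.Agent.Lib.FTCons.AutSylow

/-!
# Components of involution centralisers and standard subgroups

Given that groups of odd order are solvable, components have even order, so `L`-balance puts the
components of an involution centraliser into the layer of a group with trivial odd core.
-/

set_option autoImplicit false
set_option linter.style.haveILetI false

namespace Cfsg.Lib.FTCons

open Subgroup Cfsg
open Cfsg.Lib.Core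
open scoped commutatorElement

universe u

variable {G : Type u} [Group G] [Finite G]

theorem quasisimple_even (hFT : OddSolvable.{u}) {H : Type u} [Group H] [Finite H]
    (hH : Cfsg.IsQuasisimple H) : 2 ∣ Nat.card H := by
  by_contra h
  exact quasisimple_not_solvable hH (hFT H (Nat.not_even_iff_odd.1 fun e => h e.two_dvd))

/-- Without an odd core the 2-layer is the layer. -/
theorem pLayer_le_layer (hO : Cfsg.oddCore G = ⊥) : Cfsg.pLayer 2 G ≤ Cfsg.layer G := by
  refine sSup_le fun K hK => ?_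
  set f := QuotientGroup.mk' (Cfsg.pPrimeCore 2 G)
  have hf : Function.Bijective f := by
    refine ⟨(MonoidHom.ker_eq_bot_iff f).1 ?_, QuotientGroup.mk'_surjective _⟩
    rw [QuotientGroup.ker_mk']; exact hO
  let e := MulEquiv.ofBijective f hf
  have h := IsComponent.map_equiv hK.2.1 e.symm
  rw [map_map, show e.symm.toMonoidHom.comp f = MonoidHom.id G from
    MonoidHom.ext fun x => e.symm_apply_apply x, map_id] at h
  exact le_layer h

theorem centralizes_of_commutator_bot {H K : Subgroup G} (h : ⁅H, K⁆ = ⊥) :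
    ∀ a ∈ H, ∀ b ∈ K, Commute a b := fun a ha b hb =>
  Cfsg.Lib.Core.commutator_eq_bot_iff_forall.1 h a ha b hb

/-- An element of a component commuting with all its elements up to central ones is central. -/
theorem central_of_commutators {D : Subgroup G} (hD : Cfsg.IsComponent D) {c : G} (hc : c ∈ D)
    (h : ∀ d ∈ D, ∀ e ∈ D, Commute (c * d * c⁻¹ * d⁻¹) e) : ∀ d ∈ D, Commute c d := by
  let f : ↥D →* ↥(center ↥D) := MonoidHom.mk' (fun d => ⟨⟨c * d * c⁻¹ * (d : G)⁻¹,
      mul_mem (mul_mem (mul_mem hc d.2) (inv_mem hc)) (inv_mem d.2)⟩,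
      mem_center_iff.2 fun e => Subtype.ext (h d d.2 e e.2).eq.symm⟩) fun a b => by
    refine Subtype.ext (Subtype.ext ?_)
    show c * ((a : G) * b) * c⁻¹ * ((a : G) * b)⁻¹ =
      c * a * c⁻¹ * (a : G)⁻¹ * (c * b * c⁻¹ * (b : G)⁻¹)
    have e := (h b b.2 a a.2).eq
    calc c * ((a : G) * b) * c⁻¹ * ((a : G) * b)⁻¹
        = c * a * c⁻¹ * (a : G)⁻¹ * ((a : G) * (c * b * c⁻¹ * (b : G)⁻¹)) * (a : G)⁻¹ := by group
      _ = _ := by rw [← e]; group
  intro d hd
  have h1 := Sig.hom_eq_one_of_perfect (quasisimple_commutator hD.2) f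
    (fun a b => Subtype.ext (mem_center_iff.1 (f b).2 (f a))) ⟨d, hd⟩
  have h2 : c * d * c⁻¹ * d⁻¹ = 1 := congrArg (fun w : ↥(center ↥D) => ((w : ↥D) : G)) h1
  rw [mul_inv_eq_one, mul_inv_eq_iff_eq_mul] at h2
  exact h2

/-- What the diagonal of two commuting conjugate components centralises. -/
theorem factor_central {D : Subgroup G} {t : G} (hD : Cfsg.IsComponent D)
    (hne : D.map (MulAut.conj t).toMonoidHom ≠ D) {c : G} (hc : c ∈ D)
    (h : ∀ d ∈ D, c * d * c⁻¹ * d⁻¹ ∈ D.map (MulAut.conj t).toMonoidHom) : ∀ d ∈ D, Commute c d :=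
  central_of_commutators hD hc fun d hd e he => (centralizes_of_commutator_bot
    (component_commute hD (IsComponent.map_conj hD t) (Ne.symm hne)) e he _ (h d hd)).symm

/-- The third position of a component of an involution centraliser. -/
theorem layer_diag {t : G} (ht : orderOf t = 2) {L D : Subgroup G} (hLt : L ≤ centralizer ({t} : Set G))
    (hL : Cfsg.IsComponent (L.subgroupOf (centralizer ({t} : Set G)))) (hD : Cfsg.IsComponent D)
    (hne : D.map (MulAut.conj t).toMonoidHom ≠ D)
    (hdesc : ∀ l, l ∈ L ↔ ∃ d ∈ D, d * (t * d * t⁻¹) = l) :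
    L = (Cfsg.layer ↥((D ⊔ D.map (MulAut.conj t).toMonoidHom) ⊓ centralizer ({t} : Set G))).map
      ((D ⊔ D.map (MulAut.conj t).toMonoidHom) ⊓ centralizer ({t} : Set G)).subtype := by
  set Dt := D.map (MulAut.conj t).toMonoidHom with hDt
  set H := (D ⊔ Dt) ⊓ centralizer ({t} : Set G) with hH
  have hbot := component_commute hD (IsComponent.map_conj hD t) (Ne.symm hne)
  have hcm := centralizes_of_commutator_bot hbot
  have hLH : L ≤ H := le_inf (fun l hl => by
    obtain ⟨d, hd, rfl⟩ := (hdesc l).1 hl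
    exact mul_mem (mem_sup_left hd) (mem_sup_right (mem_map_of_mem _ hd))) hLt
  have hLc : Cfsg.IsComponent (L.subgroupOf H) := by
    refine ⟨?_, quasisimple_congr hL.2
      ((subgroupOfEquivOfLe hLt).trans (subgroupOfEquivOfLe hLH).symm)⟩
    exact IsSubnormal.comap (Subgroup.inclusion (inf_le_right : H ≤ _)) hL.1
  refine le_antisymm ?_ ?_
  · have := map_mono (f := H.subtype) (le_layer hLc)
    rwa [map_subgroupOf_eq_of_le hLH] at this
  rw [Cfsg.layer, sSup_eq_iSup, Subgroup.map_iSup]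
  refine iSup_le fun K => ?_
  rw [Subgroup.map_iSup]
  refine iSup_le fun hK => ?_
  rcases eq_or_ne K (L.subgroupOf H) with rfl | hKL
  · rw [map_subgroupOf_eq_of_le hLH]
  exfalso
  have hKc := centralizes_of_commutator_bot (component_commute hK hLc hKL)
  -- the other component is central in `D Dᵗ`
  have hcen : ∀ k ∈ K, ∀ w ∈ D ⊔ Dt, Commute (k : G) w := by
    intro k hk w hw
    obtain ⟨x, hx, y, hy, hxy⟩ := (mem_sup_of_commute hbot).1 k.2.1
    obtain ⟨y₀, hy₀, hyy⟩ := hy
    change t * y₀ * t⁻¹ = y at hyy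
    have hy' : y ∈ Dt := ⟨y₀, hy₀, hyy⟩
    have hkl : ∀ d ∈ D, x * d * x⁻¹ * d⁻¹ ∈ Dt ∧ y₀ * d * y₀⁻¹ * d⁻¹ ∈ Dt := by
      intro d hd
      have hl : d * (t * d * t⁻¹) ∈ L := (hdesc _).2 ⟨d, hd, rfl⟩
      have e := congrArg Subtype.val (hKc k hk ⟨_, hLH hl⟩ (mem_subgroupOf.2 hl)).eq
      simp only [Subgroup.coe_mul] at e
      rw [← hxy] at e
      have hdt : t * d * t⁻¹ ∈ Dt := mem_map_of_mem _ hd
      have e1 : x * d * (y * (t * d * t⁻¹)) = d * x * ((t * d * t⁻¹) * y) := by
        calc x * d * (y * (t * d * t⁻¹)) = x * (d * y) * (t * d * t⁻¹) := by group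
          _ = x * y * (d * (t * d * t⁻¹)) := by rw [(hcm d hd y hy').eq]; group
          _ = d * ((t * d * t⁻¹) * x) * y := by rw [e]; group
          _ = d * x * ((t * d * t⁻¹) * y) := by rw [← (hcm x hx _ hdt).eq]; group
      have e2 : (d * x)⁻¹ * (x * d) = (t * d * t⁻¹ * y) * (y * (t * d * t⁻¹))⁻¹ := by
        rw [eq_mul_inv_iff_mul_eq, mul_assoc, e1, inv_mul_cancel_left]
      have hmem : (d * x)⁻¹ * (x * d) ∈ D ⊓ Dt := ⟨show (d * x)⁻¹ * (x * d) ∈ D from
          mul_mem (inv_mem (mul_mem hd hx)) (mul_mem hx hd),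
        show _ ∈ Dt from e2 ▸ mul_mem (mul_mem hdt hy') (inv_mem (mul_mem hy' hdt))⟩
      have hz : ∀ w ∈ D, Commute ((d * x)⁻¹ * (x * d)) w := fun w hw => (hcm w hw _ hmem.2).symm
      refine ⟨?_, ?_⟩
      · have : x * d * x⁻¹ * d⁻¹ = (d * x)⁻¹ * (x * d) := by
          calc x * d * x⁻¹ * d⁻¹ = (d * x) * ((d * x)⁻¹ * (x * d)) * (d * x)⁻¹ := by group
            _ = _ := by rw [← (hz _ (mul_mem hd hx)).eq, mul_inv_cancel_right]
        rw [this]; exact hmem.2
      · have htz : t * ((d * x)⁻¹ * (x * d)) * t⁻¹ ∈ D := by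
          obtain ⟨w, hw, e3⟩ := hmem.2
          have htt : t * t = 1 := by rw [← pow_two, ← ht, pow_orderOf_eq_one]
          have : t * ((d * x)⁻¹ * (x * d)) * t⁻¹ = w := by
            rw [← e3]
            show t * (t * w * t⁻¹) * t⁻¹ = w
            calc t * (t * w * t⁻¹) * t⁻¹ = t * t * w * (t * t)⁻¹ := by group
              _ = w := by rw [htt, inv_one, one_mul, mul_one]
          rw [this]; exact hw
        rw [e2, ← hyy] at htz
        have htt : t * t = 1 := by rw [← pow_two, ← ht, pow_orderOf_eq_one]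
        have e4 : t * (t * d * t⁻¹ * (t * y₀ * t⁻¹) * (t * y₀ * t⁻¹ * (t * d * t⁻¹))⁻¹) * t⁻¹ =
            d * y₀ * d⁻¹ * y₀⁻¹ := by
          calc t * (t * d * t⁻¹ * (t * y₀ * t⁻¹) * (t * y₀ * t⁻¹ * (t * d * t⁻¹))⁻¹) * t⁻¹
              = (t * t) * (d * y₀ * d⁻¹ * y₀⁻¹) * (t * t)⁻¹ := by group
            _ = _ := by rw [htt, inv_one, one_mul, mul_one]
        have h5 : t * d * t⁻¹ * (t * y₀ * t⁻¹) * (t * y₀ * t⁻¹ * (t * d * t⁻¹))⁻¹ ∈ D := by
          rw [hyy, ← e2]; exact hmem.1
        have h6 : d * y₀ * d⁻¹ * y₀⁻¹ ∈ Dt := by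
          rw [← e4]; exact ⟨_, h5, rfl⟩
        rw [show y₀ * d * y₀⁻¹ * d⁻¹ = (d * y₀ * d⁻¹ * y₀⁻¹)⁻¹ by group]
        exact inv_mem h6
    have cx := factor_central hD hne hx fun d hd => (hkl d hd).1
    have cy := factor_central hD hne hy₀ fun d hd => (hkl d hd).2
    obtain ⟨u, hu, _, ⟨v, hv, rfl⟩, rfl⟩ := (mem_sup_of_commute hbot).1 hw
    have hv' : (MulAut.conj t).toMonoidHom v ∈ Dt := mem_map_of_mem _ hv
    rw [← hxy]
    refine ((cx u hu).mul_left (hcm u hu y hy').symm).mul_right ((hcm x hx _ hv').mul_left ?_)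
    rw [← hyy]
    exact (cy v hv).map (MulAut.conj t).toMonoidHom
  refine IsComponent.not_solvable hK (Group.isSolvable_of_comm fun a b => Subtype.ext (Subtype.ext ?_))
  exact (hcen a a.2 ((b : ↥H) : G) (b : ↥H).2.1).eq

/-- The trichotomy. -/
theorem component_trichotomy' (hFT : OddSolvable.{u}) (hL2 : Cfsg.pLayer 2 G = Cfsg.layer G) (t : G)
    (ht : orderOf t = 2) (L : Subgroup G) (hLt : L ≤ centralizer ({t} : Set G))
    (hL : Cfsg.IsComponent (L.subgroupOf (centralizer ({t} : Set G)))) :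
    ∃ D : Subgroup G, Cfsg.IsComponent D ∧ (L = D ∨ (L < D ∧ D = ⁅D, zpowers t⁆) ∨
      (D.map (MulAut.conj t).toMonoidHom ≠ D ∧
        L = (Cfsg.layer ↥((D ⊔ D.map (MulAut.conj t).toMonoidHom) ⊓ centralizer ({t} : Set G))).map
          ((D ⊔ D.map (MulAut.conj t).toMonoidHom) ⊓ centralizer ({t} : Set G)).subtype)) := by
  have hle : L ≤ Cfsg.layer G := hL2 ▸ Sig.component_centralizer_le_pLayer ht hLt hL (by
    have := quasisimple_even hFT hL.2
    rwa [Nat.card_congr (subgroupOfEquivOfLe hLt).toEquiv] at this)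
  obtain ⟨D, hD, h | h | ⟨h1, h2⟩⟩ := Sig.component_trichotomy ht hLt hL hle
  · exact ⟨D, hD, Or.inl h⟩
  · exact ⟨D, hD, Or.inr (Or.inl h)⟩
  · exact ⟨D, hD, Or.inr (Or.inr ⟨h1, layer_diag ht hLt hL hD h1 h2⟩)⟩

/-- What centralises a standard subgroup with a centralised subgroup of even order. -/
theorem standard_mem_normalizer {A : Subgroup G} (hA : Cfsg.IsStandardSubgroup A) {E : Subgroup G}
    (hE : E ≤ centralizer (A : Set G)) (heven : 2 ∣ Nat.card E) {g : G}
    (hg : g ∈ normalizer (E : Set G)) : g ∈ normalizer (A : Set G) := by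
  rw [hA.2.2.2]
  by_contra h
  have hodd := hA.2.1.2 g h
  have hle : E ≤ centralizer (A : Set G) ⊓
      (centralizer (A : Set G)).map (MulAut.conj g).toMonoidHom := by
    refine le_inf hE fun e he => ⟨g⁻¹ * e * g, hE ?_, by show g * (g⁻¹ * e * g) * g⁻¹ = e; group⟩
    have h1 := (mem_normalizer_iff.1 (inv_mem hg) e).1 he
    rwa [inv_inv] at h1
  exact Nat.not_even_iff_odd.2 (hodd.of_dvd_nat (card_dvd_of_le hle)) (even_iff_two_dvd.2 heven)

/-- The centraliser of an involution centralising a standard subgroup normalises it. -/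
theorem standard_centralizer_le {A : Subgroup G} (hA : Cfsg.IsStandardSubgroup A) {t : G}
    (ht : orderOf t = 2) (htA : t ∈ centralizer (A : Set G)) :
    centralizer ({t} : Set G) ≤ normalizer (A : Set G) := fun g hg =>
  standard_mem_normalizer hA (E := zpowers t) (zpowers_le.2 htA)
    (by rw [Nat.card_zpowers, ht]) (mem_normalizer_iff.2 fun x => by
      constructor
      · rintro hx
        obtain ⟨m, rfl⟩ := mem_zpowers_iff.1 hx
        have e : g * t * g⁻¹ = t := by rw [mem_centralizer_singleton_iff.1 hg, mul_inv_cancel_right]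
        rw [← conj_zpow, e]
        exact zpow_mem (mem_zpowers t) m
      · rintro hx
        obtain ⟨m, hm⟩ := mem_zpowers_iff.1 hx
        refine mem_zpowers_iff.2 ⟨m, ?_⟩
        have e : g⁻¹ * t * g = t := by
          rw [mul_assoc, ← mem_centralizer_singleton_iff.1 hg, inv_mul_cancel_left]
        calc t ^ m = (g⁻¹ * t * g⁻¹⁻¹) ^ m := by rw [inv_inv, e]
          _ = x := by rw [conj_zpow, hm]; group)

/-- The trichotomy for a standard subgroup. -/
theorem standard_trichotomy (hFT : OddSolvable.{u}) (A : Subgroup G) (hA : Cfsg.IsStandardSubgroup A)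
    (hO : Cfsg.oddCore G = ⊥) (t : G) (ht : orderOf t = 2) (htA : t ∈ centralizer (A : Set G)) :
    A.Normal ∨ (∃ X : Subgroup G, IsSimpleGroup ↥X ∧ ¬ IsMulCommutative ↥X ∧ Nonempty (↥X ≃* ↥A) ∧
      (∀ a ∈ X, ∀ b ∈ X.map (MulAut.conj t).toMonoidHom, a * b = b * a) ∧
      X ⊓ X.map (MulAut.conj t).toMonoidHom = ⊥ ∧
      X ⊔ X.map (MulAut.conj t).toMonoidHom = Cfsg.layer G ∧
      centralizer (A : Set G) = zpowers t) ∨
      (A ≤ Cfsg.layer G ∧ IsSimpleGroup ↥(Cfsg.layer G) ∧ ¬ IsMulCommutative ↥(Cfsg.layer G)) := by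
  haveI : Fact (Nat.Prime 2) := ⟨Nat.prime_two⟩
  have hAt : A ≤ centralizer ({t} : Set G) := fun a ha =>
    mem_centralizer_singleton_iff.2 (mem_centralizer_iff.1 htA a ha)
  have hAn := standard_centralizer_le hA ht htA
  have hAc : Cfsg.IsComponent (A.subgroupOf (centralizer ({t} : Set G))) :=
    ⟨((normal_subgroupOf_iff_le_normalizer hAt).2 hAn).isSubnormal,
      quasisimple_congr hA.1 (subgroupOfEquivOfLe hAt).symm⟩
  have hle : A ≤ Cfsg.layer G := le_trans (Sig.component_centralizer_le_pLayer ht hAt hAc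
    (quasisimple_even hFT hA.1)) (pLayer_le_layer hO)
  -- nothing of even order centralises both `A` and a component not normalising it
  have hkill : ∀ D : Subgroup G, (¬ D ≤ normalizer (A : Set G)) → ∀ E : Subgroup G,
      2 ∣ Nat.card E → E ≤ centralizer (A : Set G) → D ≤ normalizer (E : Set G) → False :=
    fun D hD E hE hEA hDE => hD fun d hd => standard_mem_normalizer hA hEA hE (hDE hd)
  have hcentre : ∀ D : Subgroup G, Cfsg.IsComponent D → (∀ z ∈ D, (∀ d ∈ D, Commute z d) →
      z ∈ centralizer (A : Set G)) → (¬ D ≤ normalizer (A : Set G)) → center ↥D = ⊥ := by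
    intro D hD hzA hDn
    by_contra hne
    set Z := (center ↥D).map D.subtype with hZ
    have hZc : ∀ z ∈ Z, z ∈ D ∧ ∀ d ∈ D, Commute z d := by
      rintro _ ⟨z, hz, rfl⟩
      exact ⟨z.2, fun d hd => (congrArg Subtype.val (mem_center_iff.1 hz ⟨d, hd⟩)).symm⟩
    have hDn' : D ≤ normalizer (Z : Set G) := fun d hd => mem_normalizer_iff.2 fun z => by
      constructor
      · intro hz
        rw [← ((hZc z hz).2 d hd).eq, mul_inv_cancel_right]; exact hz
      · intro hz
        have h := (hZc _ hz).2 d hd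
        have : z = d * z * d⁻¹ := by
          have e := h.eq
          rw [inv_mul_cancel_right] at e
          exact mul_left_cancel e
        rwa [this]
    by_cases h2 : 2 ∣ Nat.card Z
    · exact hkill D hDn Z h2 (fun z hz => hzA z (hZc z hz).1 (hZc z hz).2) hDn'
    · have hsub : Z.IsSubnormal :=
        (isSubnormal_map_subtype_iff hD.1 _).2 (inferInstance : (center ↥D).Normal).isSubnormal
      have := le_pPrimeCore_of_isSubnormal (p := 2) hsub
        (coprime_iff_not_dvd'.2 h2)
      rw [show Cfsg.pPrimeCore 2 G = ⊥ from hO, le_bot_iff, hZ,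
        map_eq_bot_iff_of_injective _ D.subtype_injective] at this
      exact hne this
  have hsimple : ∀ D : Subgroup G, Cfsg.IsComponent D → center ↥D = ⊥ →
      IsSimpleGroup ↥D ∧ ¬ IsMulCommutative ↥D := by
    intro D hD hc
    refine ⟨?_, fun h => IsComponent.not_solvable hD (Group.isSolvable_of_comm fun a b => h.is_comm.comm a b)⟩
    haveI := hD.2.2
    exact ((QuotientGroup.quotientMulEquivOfEq hc).trans (QuotientGroup.quotientBot (G := ↥D))).symm.isSimpleGroup
  have hAcomm : ⁅A, A⁆ = A := Subgroup.isPerfect_iff.1 hA.1.1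
  have hAns : ¬ Group.IsSolvable A := quasisimple_not_solvable hA.1
  obtain ⟨D, hD, h | ⟨h, -⟩ | ⟨hne, hdesc⟩⟩ := Sig.component_trichotomy ht hAt hAc hle
  · -- a component
    left
    subst h
    refine ⟨fun a ha g => ?_⟩
    have e : A.map (MulAut.conj g).toMonoidHom = A := by
      by_contra hne
      exact hA.2.2.1 g hne (component_commute hD (IsComponent.map_conj hD g) (Ne.symm hne))
    rw [← e]; exact mem_map_of_mem _ ha
  · -- inside a single component
    right; right
    have hDn : ¬ D ≤ normalizer (A : Set G) := fun hn => by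
      haveI := (normal_subgroupOf_iff_le_normalizer h.le).2 hn
      rcases quasisimple_normal hD.2 (N := A.subgroupOf D) with hc | htop
      · refine hAns (Group.isSolvable_of_comm fun a b => Subtype.ext ?_)
        have := mem_center_iff.1 (hc (mem_subgroupOf.2 b.2 : (⟨b, h.le b.2⟩ : ↥D) ∈ A.subgroupOf D)) ⟨a, h.le a.2⟩
        simpa using congrArg Subtype.val this
      · exact h.ne (le_antisymm h.le (subgroupOf_eq_top.1 htop))
    have hone : ∀ K : Subgroup G, Cfsg.IsComponent K → K = D := fun K hK => by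
      by_contra hne
      exact hkill D hDn K (quasisimple_even hFT hK.2)
        (fun k hk => mem_centralizer_iff.2 fun a ha =>
          (centralizes_of_commutator_bot (component_commute hK hD hne) k hk a (h.le ha)).eq.symm)
        (component_le_normalizer hD hK)
    have hE : Cfsg.layer G = D := le_antisymm (sSup_le fun K hK => (hone K hK).le) (le_layer hD)
    obtain ⟨hs, hna⟩ := hsimple D hD (hcentre D hD (fun z hz hzd => mem_centralizer_iff.2 fun a ha =>
      (hzd a (h.le ha)).eq.symm) hDn)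
    exact ⟨hle, hE ▸ hs, hE ▸ hna⟩
  · -- a diagonal
    right; left
    set Dt := D.map (MulAut.conj t).toMonoidHom with hDt
    have hDtc := IsComponent.map_conj hD t
    have hcm := centralizes_of_commutator_bot (component_commute hD hDtc (Ne.symm hne))
    have hAD : A ≤ D ⊔ Dt := fun a ha => by
      obtain ⟨d, hd, rfl⟩ := (hdesc a).1 ha
      exact mul_mem (mem_sup_left hd) (mem_sup_right (mem_map_of_mem _ hd))
    have hDn : ¬ D ≤ normalizer (A : Set G) := fun hn => by
      refine quasisimple_not_solvable hD.2 (Group.isSolvable_of_comm fun a b => Subtype.ext ?_)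
      refine (factor_central hD hne a.2 (fun d hd => ?_) b b.2).eq
      have htd : t * d * t⁻¹ ∈ Dt := mem_map_of_mem _ hd
      have h1 := (mem_normalizer_iff.1 (hn a.2) _).1 ((hdesc _).2 ⟨d, hd, rfl⟩)
      obtain ⟨e, he, hee⟩ := (hdesc _).1 (mul_mem h1 (inv_mem ((hdesc _).2 ⟨d, hd, rfl⟩)))
      have hte : t * e * t⁻¹ ∈ Dt := mem_map_of_mem _ he
      have hval : (a : G) * (d * (t * d * t⁻¹)) * (a : G)⁻¹ * (d * (t * d * t⁻¹))⁻¹ =
          (a : G) * d * (a : G)⁻¹ * d⁻¹ := by
        calc (a : G) * (d * (t * d * t⁻¹)) * (a : G)⁻¹ * (d * (t * d * t⁻¹))⁻¹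
            = (a : G) * d * ((t * d * t⁻¹) * (a : G)⁻¹) * (t * d * t⁻¹)⁻¹ * d⁻¹ := by group
          _ = _ := by rw [← (hcm _ (inv_mem a.2) _ htd).eq]; group
      rw [hval] at hee
      have hc' : t * e * t⁻¹ = e⁻¹ * ((a : G) * d * (a : G)⁻¹ * d⁻¹) := by rw [← hee, inv_mul_cancel_left]
      have hteD : t * e * t⁻¹ ∈ D := hc' ▸ mul_mem (inv_mem he)
        (mul_mem (mul_mem (mul_mem a.2 hd) (inv_mem a.2)) (inv_mem hd))
      have heDt : e ∈ Dt := by
        refine ⟨t * e * t⁻¹, hteD, ?_⟩
        have htt : t * t = 1 := by rw [← pow_two, ← ht, pow_orderOf_eq_one]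
        show t * (t * e * t⁻¹) * t⁻¹ = e
        calc t * (t * e * t⁻¹) * t⁻¹ = (t * t) * e * (t * t)⁻¹ := by group
          _ = e := by rw [htt, inv_one, one_mul, mul_one]
      exact hee ▸ mul_mem heDt hte
    have hcentA : ∀ K : Subgroup G, Cfsg.IsComponent K → K ≠ D → K ≠ Dt →
        K ≤ centralizer (A : Set G) := fun K hK h1 h2 k hk => mem_centralizer_iff.2 fun a ha => by
      obtain ⟨d, hd, rfl⟩ := (hdesc a).1 ha
      exact (((centralizes_of_commutator_bot (component_commute hK hD h1)) k hk d hd).mul_right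
        ((centralizes_of_commutator_bot (component_commute hK hDtc h2)) k hk _ (mem_map_of_mem _ hd))).eq.symm
    have hone : ∀ K : Subgroup G, Cfsg.IsComponent K → K = D ∨ K = Dt := fun K hK => by
      by_contra hn
      push Not at hn
      exact hkill D hDn K (quasisimple_even hFT hK.2) (hcentA K hK hn.1 hn.2)
        (component_le_normalizer hD hK)
    have hZ : center ↥D = ⊥ := hcentre D hD (fun z hz hzd => mem_centralizer_iff.2 fun a ha => by
      obtain ⟨d, hd, rfl⟩ := (hdesc a).1 ha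
      exact ((hzd d hd).mul_right (hcm z hz _ (mem_map_of_mem _ hd))).eq.symm) hDn
    obtain ⟨hs, hna⟩ := hsimple D hD hZ
    have hinter : D ⊓ Dt = ⊥ := by
      refine le_bot_iff.1 fun x hx => ?_
      have : (⟨x, hx.1⟩ : ↥D) ∈ center ↥D := mem_center_iff.2 fun d => Subtype.ext (hcm d d.2 x hx.2).eq
      rw [hZ, mem_bot] at this
      exact mem_bot.2 (congrArg Subtype.val this)
    have hsep : ∀ {a a' b b' : G}, a ∈ D → a' ∈ D → b ∈ Dt → b' ∈ Dt → a * b = a' * b' → a = a' :=
      fun ha ha' hb hb' e => congrArg Subtype.val (congrArg Prod.fst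
        (mul_injective_of_disjoint (disjoint_iff.2 hinter) (a₁ := (⟨_, ha⟩, ⟨_, hb⟩))
          (a₂ := (⟨_, ha'⟩, ⟨_, hb'⟩)) e))
    have hE : D ⊔ Dt = Cfsg.layer G := le_antisymm (sup_le (le_layer hD) (le_layer hDtc))
      (sSup_le fun K hK => by rcases hone K hK with rfl | rfl; exacts [le_sup_left, le_sup_right])
    let δ : ↥D →* ↥A := MonoidHom.mk' (fun d => ⟨(d : G) * (t * (d : G) * t⁻¹),
        (hdesc _).2 ⟨d, d.2, rfl⟩⟩) fun a b => Subtype.ext (by
      show ((a : G) * b) * (t * ((a : G) * b) * t⁻¹) = _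
      calc ((a : G) * b) * (t * ((a : G) * b) * t⁻¹)
          = (a : G) * ((b : G) * (t * (a : G) * t⁻¹)) * (t * (b : G) * t⁻¹) := by group
        _ = (a : G) * ((t * (a : G) * t⁻¹) * (b : G)) * (t * (b : G) * t⁻¹) := by
            rw [show (b : G) * (t * (a : G) * t⁻¹) = t * (a : G) * t⁻¹ * (b : G) from
              (hcm b b.2 _ (mem_map_of_mem _ a.2)).eq]
        _ = (a : G) * (t * (a : G) * t⁻¹) * ((b : G) * (t * (b : G) * t⁻¹)) := by group)
    have hδ : Function.Bijective δ := by
      refine ⟨fun a b e => Subtype.ext (hsep a.2 b.2 (mem_map_of_mem _ a.2) (mem_map_of_mem _ b.2)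
        (congrArg Subtype.val e)), fun x => ?_⟩
      obtain ⟨d, hd, e⟩ := (hdesc x).1 x.2
      exact ⟨⟨d, hd⟩, Subtype.ext e⟩
    refine ⟨D, hs, hna, ⟨MulEquiv.ofBijective δ hδ⟩, fun a ha b hb => (hcm a ha b hb).eq, hinter, hE,
      le_antisymm (fun c hc => ?_) (zpowers_le.2 htA)⟩
    -- the centraliser of the layer is trivial
    have hCE : centralizer ((Cfsg.layer G : Subgroup G) : Set G) = ⊥ := by
      set C := centralizer ((Cfsg.layer G : Subgroup G) : Set G) with hC
      haveI : C.Normal := Subgroup.normal_centralizer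
      by_cases h2 : 2 ∣ Nat.card C
      · exact (hkill D hDn C h2 (centralizer_le hle) le_normalizer_of_normal).elim
      · have := le_pPrimeCore (p := 2) (N := C) (coprime_iff_not_dvd'.2 h2)
        rwa [show Cfsg.pPrimeCore 2 G = ⊥ from hO, le_bot_iff] at this
    have key : ∀ w ∈ centralizer (A : Set G), D.map (MulAut.conj w).toMonoidHom = D → w = 1 := by
      intro w hw hwD
      have hwDt : Dt.map (MulAut.conj w).toMonoidHom = Dt := by
        rcases hone _ (IsComponent.map_conj hDtc w) with e | e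
        · exfalso
          exact hne (Subgroup.map_injective (MulAut.conj w).injective (e.trans hwD.symm))
        · exact e
      have hfix : ∀ d ∈ D, Commute w d ∧ Commute w (t * d * t⁻¹) := by
        intro d hd
        have hdA : d * (t * d * t⁻¹) ∈ A := (hdesc _).2 ⟨d, hd, rfl⟩
        have e1 : w * d * w⁻¹ ∈ D :=
          (le_of_eq hwD : D.map (MulAut.conj w).toMonoidHom ≤ D) (mem_map_of_mem _ hd)
        have e2 : w * (t * d * t⁻¹) * w⁻¹ ∈ Dt :=
          (le_of_eq hwDt : Dt.map (MulAut.conj w).toMonoidHom ≤ Dt) (mem_map_of_mem _ (mem_map_of_mem _ hd))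
        have e3 : (w * d * w⁻¹) * (w * (t * d * t⁻¹) * w⁻¹) = d * (t * d * t⁻¹) := by
          calc (w * d * w⁻¹) * (w * (t * d * t⁻¹) * w⁻¹) = w * (d * (t * d * t⁻¹)) * w⁻¹ := by group
            _ = _ := by rw [← mem_centralizer_iff.1 hw _ hdA, mul_inv_cancel_right]
        have e4 := hsep e1 hd e2 (mem_map_of_mem _ hd) e3
        rw [e4, mul_right_inj] at e3
        exact ⟨mul_inv_eq_iff_eq_mul.1 e4, mul_inv_eq_iff_eq_mul.1 e3⟩
      have hmem : w ∈ centralizer ((Cfsg.layer G : Subgroup G) : Set G) := by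
        refine mem_centralizer_iff.2 fun x hx => ?_
        rw [← hE] at hx
        obtain ⟨u, hu, _, ⟨v, hv, rfl⟩, rfl⟩ :=
          (mem_sup_of_commute (component_commute hD hDtc (Ne.symm hne))).1 hx
        exact ((hfix u hu).1.mul_right (hfix v hv).2).eq.symm
      rwa [hCE, mem_bot] at hmem
    rcases hone _ (IsComponent.map_conj hD c) with e | e
    · rw [key c hc e]; exact one_mem _
    · have htt : t * t = 1 := by rw [← pow_two, ← ht, pow_orderOf_eq_one]
      have h1 : t * c = 1 := key _ (mul_mem htA hc) (by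
        rw [← Sig.map_conj_map_conj, e, hDt, Sig.map_conj_map_conj, htt, Sig.map_conj_one])
      rw [eq_inv_of_mul_eq_one_right h1]
      exact inv_mem (mem_zpowers t)

end Cfsg.Lib.FTCons
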