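import Cfsg.Agent.Lib.FTCons.NilpotentMaxInvariant
import Cfsg.Agent.Lib.Fusion.Alperin
import Cfsg.Agent.Lib.Local.Sylow
import Cfsg.Agent.Lib.Core.Smul
import Cfsg.Agent.Lib.PGroup.FrattiniStab

/-!
# Normal `2`-complements for Sylow subgroups of class two with coprime operators

If a finite group has a Sylow `2`-subgroup `P` of class at most two, invariant under a group `A`
of operators of coprime order, and the normalizer of every nontrivial invariant normal subgroup of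
`P` has a normal `2`-complement, then the group has a normal `2`-complement.
-/

set_option autoImplicit false
set_option linter.style.haveILetI false
set_option linter.unusedSectionVars false
set_option maxHeartbeats 800000

namespace Cfsg.Lib.FTCons.ClassTwo

open Subgroup Cfsg Cfsg.Lib.Fusion
open scoped commutatorElement Pointwise

universe u v

theorem coprime_orderOf_pow {H : Type*} [Group H] [Finite H] (g : H) :
    (orderOf (g ^ 2 ^ (orderOf g).factorization 2)).Coprime 2 := by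
  rw [orderOf_pow, Nat.gcd_eq_right (Nat.ordProj_dvd _ 2)]
  exact (Nat.coprime_ordCompl Nat.prime_two (orderOf_pos g).ne').symm

theorem eq_one_of_odd {H : Type*} [Group H] {x : H} (h : (orderOf x).Coprime 2) {k : ℕ}
    (h1 : x ^ 2 ^ k = 1) : x = 1 :=
  orderOf_eq_one_iff.1
    (Nat.eq_one_of_dvd_coprimes (h.pow_right k) dvd_rfl (orderOf_dvd_of_pow_eq_one h1))

theorem mul_pow_conj_mem {H : Type*} [Group H] {Q : Subgroup H} {x q : H}
    (hx : x ∈ normalizer (Q : Set H)) (hq : q ∈ Q) : ∀ n : ℕ, (x * q) ^ n * (x ^ n)⁻¹ ∈ Q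
  | 0 => by simp
  | n + 1 => by
    rw [pow_succ, show (x * q) ^ n * (x * q) * (x ^ (n + 1))⁻¹ =
      (x * q) ^ n * (x ^ n)⁻¹ * (x ^ (n + 1) * q * (x ^ (n + 1))⁻¹) by rw [pow_succ x n]; group]
    exact mul_mem (mul_pow_conj_mem hx hq n)
      ((mem_normalizer_iff.1 (pow_mem hx (n + 1)) q).1 hq)

/-- An automorphism of order prime to six fixes every coset of a subgroup of index at most four. -/
theorem mem_of_coprime_six {W : Type*} [Group W] [Finite W] (F : Subgroup W) [F.Normal]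
    (hF : F.index ≤ 4) (e : MulAut W) (he : ∀ f ∈ F, e f ∈ F) {n : ℕ} (hn : n.Coprime 6)
    (hen : ∀ w, w⁻¹ * (e ^ n) w ∈ F) : ∀ w, w⁻¹ * e w ∈ F := by
  classical
  have hmap : F.map e.toMonoidHom = F :=
    eq_of_le_of_card_ge (by rintro _ ⟨x, hx, rfl⟩; exact he x hx)
      (card_map_of_injective (f := e.toMonoidHom) e.injective).ge
  let eQ : W ⧸ F ≃* W ⧸ F := QuotientGroup.congr F F e hmap
  let σ : Equiv.Perm {q : W ⧸ F // q ≠ 1} := eQ.toEquiv.subtypeEquiv fun q => by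
    show q ≠ 1 ↔ eQ q ≠ 1
    rw [ne_eq, ne_eq, eQ.map_eq_one_iff]
  have hσ : ∀ (m : ℕ) (w : W) (hw : (w : W ⧸ F) ≠ 1),
      (((σ ^ m) ⟨(w : W ⧸ F), hw⟩ : {q : W ⧸ F // q ≠ 1}) : W ⧸ F) = ((e ^ m) w : W) := by
    intro m
    induction m with
    | zero => intro w hw; rfl
    | succ m ih =>
      intro w hw
      rw [pow_succ', Equiv.Perm.mul_apply, pow_succ', MulAut.mul_apply]
      show eQ _ = _
      rw [ih w hw]
      rfl
  have hσn : σ ^ n = 1 := Equiv.ext fun ⟨q, hq⟩ => by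
    obtain ⟨w, rfl⟩ := QuotientGroup.mk_surjective q
    refine Subtype.ext ?_
    rw [hσ n w hq]
    exact (QuotientGroup.eq.2 (hen w)).symm
  have hcard : Nat.card (Equiv.Perm {q : W ⧸ F // q ≠ 1}) ∣ 6 := by
    rw [Nat.card_perm, show (6 : ℕ) = Nat.factorial 3 from rfl]
    refine Nat.factorial_dvd_factorial ?_
    haveI : Fintype (W ⧸ F) := Fintype.ofFinite _
    rw [index_eq_card, Nat.card_eq_fintype_card] at hF
    rw [Nat.card_eq_fintype_card, Fintype.card_subtype_compl, Fintype.card_subtype_eq]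
    omega
  have hσ1 : σ = 1 := by
    have h := pow_gcd_eq_one.2 ⟨hσn, pow_card_eq_one' (x := σ)⟩
    rwa [(hn.coprime_dvd_right hcard).gcd_eq_one, pow_one] at h
  intro w
  by_cases hw : (w : W ⧸ F) = 1
  · rw [QuotientGroup.eq_one_iff] at hw
    exact mul_mem (inv_mem hw) (he w hw)
  · refine QuotientGroup.eq.1 ?_
    have := hσ 1 w hw
    rw [hσ1, one_pow, pow_one] at this
    exact this

variable {G : Type u} [Group G] [Finite G]

/-- Elements of odd order normalizing a `2`-subgroup of a `2`-nilpotent group centralize it. -/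
theorem mem_centralizer_of_npc {K : Subgroup G} (h : HasNormalPComplement 2 K) {U : Subgroup G}
    (hUK : U ≤ K) (hU : IsPGroup 2 U) {g : G} (hgK : g ∈ K) (hg : g ∈ normalizer (U : Set G))
    (hco : (orderOf g).Coprime 2) : g ∈ centralizer (U : Set G) := by
  have h1 : (⟨g, hgK⟩ : K) ∈ normalizer ((U.subgroupOf K : Subgroup K) : Set K) :=
    mem_normalizer_iff.2 fun y => mem_normalizer_iff.1 hg y
  have h2 := mem_centralizer_of_hasNormalPComplement h
    (hU.of_equiv (subgroupOfEquivOfLe hUK).symm) h1 (by rwa [Subgroup.orderOf_mk])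
  exact fun u hu => congrArg Subtype.val (h2 ⟨u, hUK hu⟩ hu)

section

variable (P : Sylow 2 G)
  (hc2 : ∀ a ∈ (P : Subgroup G), ∀ b ∈ (P : Subgroup G), ∀ c ∈ (P : Subgroup G),
    c * ⁅a, b⁆ = ⁅a, b⁆ * c)

/-- A subgroup of `P` containing `Z(P)`, not centralized by all odd elements normalizing it. -/
def Bad (T : Subgroup G) : Prop :=
  ((P : Subgroup G) ⊓ centralizer ((P : Subgroup G) : Set G) ≤ T ∧ T ≤ (P : Subgroup G)) ∧
    ∃ g ∈ normalizer (T : Set G), (orderOf g).Coprime 2 ∧ g ∉ centralizer (T : Set G)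

include hc2

theorem comm_mem {a b : G} (ha : a ∈ (P : Subgroup G)) (hb : b ∈ (P : Subgroup G)) :
    ⁅a, b⁆ ∈ (P : Subgroup G) ⊓ centralizer ((P : Subgroup G) : Set G) :=
  ⟨show a * b * a⁻¹ * b⁻¹ ∈ (P : Subgroup G) from
      mul_mem (mul_mem (mul_mem ha hb) (inv_mem ha)) (inv_mem hb),
    hc2 a ha b hb⟩

theorem le_normalizer_of_center_le {T : Subgroup G}
    (hZ : (P : Subgroup G) ⊓ centralizer ((P : Subgroup G) : Set G) ≤ T)
    (hT : T ≤ (P : Subgroup G)) : (P : Subgroup G) ≤ normalizer (T : Set G) := by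
  have h : ∀ p ∈ (P : Subgroup G), ∀ t ∈ T, p * t * p⁻¹ ∈ T := fun p hp t ht => by
    rw [show p * t * p⁻¹ = ⁅p, t⁆ * t by rw [commutatorElement_def]; group]
    exact mul_mem (hZ (comm_mem P hc2 hp (hT ht))) ht
  refine fun p hp => mem_normalizer_iff.2 fun t => ⟨h p hp t, fun ht => ?_⟩
  simpa [mul_assoc] using h p⁻¹ (inv_mem hp) _ ht

theorem exists_bad (hG : ¬ HasNormalPComplement 2 G) : ∃ T, Bad P T := by
  by_contra hno
  refine hG ((frobenius P).2 fun U hU g hg hgodd => ?_)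
  set C := centralizer (U : Set G) with hC
  obtain ⟨S⟩ : Nonempty (Sylow 2 C) := inferInstance
  set S' := (S : Subgroup C).map C.subtype with hS'
  have hS'C : S' ≤ C := map_subtype_le _
  have hUS : U ≤ normalizer (S' : Set G) :=
    (le_centralizer_iff.1 hS'C).trans (centralizer_le_normalizer _)
  obtain ⟨R, hR⟩ := ((isPGroup_le_sylow hU).to_sup_of_normal_right' (S.2.map C.subtype) hUS :
    IsPGroup 2 ↥(U ⊔ S')).exists_le_sylow
  obtain ⟨c, rfl⟩ := MulAction.exists_smul_eq G P R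
  have hmem : ∀ x : G, x ∈ ((c • P : Sylow 2 G) : Subgroup G) ↔ c⁻¹ * x * c ∈ (P : Subgroup G) := by
    intro x
    rw [Sylow.coe_subgroup_smul]
    exact Cfsg.Lib.Core.mem_conj_smul
  -- the centre of the overlying Sylow subgroup lies in `S`
  have hZ : ∀ z ∈ (P : Subgroup G), (∀ y ∈ (P : Subgroup G), y * z = z * y) → c * z * c⁻¹ ∈ S' := by
    intro z hz hzc
    have hzR : ∀ y ∈ ((c • P : Sylow 2 G) : Subgroup G), y * (c * z * c⁻¹) = c * z * c⁻¹ * y := by
      intro y hy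
      have h1 := hzc _ ((hmem y).1 hy)
      calc y * (c * z * c⁻¹) = c * (c⁻¹ * y * c * z) * c⁻¹ := by group
        _ = c * (z * (c⁻¹ * y * c)) * c⁻¹ := by rw [h1]
        _ = c * z * c⁻¹ * y := by group
    have hzC : c * z * c⁻¹ ∈ C := mem_centralizer_iff.2 fun y hy =>
      hzR y (hR ((le_sup_left : U ≤ U ⊔ S') hy))
    have hle : (S : Subgroup C) ≤ (((c • P : Sylow 2 G) : Subgroup G) ⊓ C).subgroupOf C := fun y hy =>
      ⟨hR ((le_sup_right : S' ≤ U ⊔ S') ⟨y, hy, rfl⟩), y.2⟩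
    have heq := S.is_maximal' ((c • P).2.to_inf_left.comap_subtype) hle
    have hin : (⟨c * z * c⁻¹, hzC⟩ : C) ∈ (((c • P : Sylow 2 G) : Subgroup G) ⊓ C).subgroupOf C :=
      ⟨(hmem _).2 (by simpa [mul_assoc] using hz), hzC⟩
    exact ⟨_, heq.le hin, rfl⟩
  -- an element acting as `g` on `U` and normalizing `S`
  have hgC : ∀ x, x ∈ C ↔ g * x * g⁻¹ ∈ C := by
    have h1 : ∀ w ∈ normalizer (U : Set G), ∀ x ∈ C, w * x * w⁻¹ ∈ C := by
      intro w hw x hx
      refine mem_centralizer_iff.2 fun y hy => ?_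
      have hy' : w⁻¹ * y * w ∈ U := by
        have := (mem_normalizer_iff.1 (inv_mem hw) y).1 hy
        rwa [inv_inv] at this
      have h1 := mem_centralizer_iff.1 hx _ hy'
      calc y * (w * x * w⁻¹) = w * (w⁻¹ * y * w * x) * w⁻¹ := by group
        _ = w * (x * (w⁻¹ * y * w)) * w⁻¹ := by rw [h1]
        _ = w * x * w⁻¹ * y := by group
    refine fun x => ⟨h1 g hg x, fun h => ?_⟩
    have := h1 _ (inv_mem hg) _ h
    simpa [mul_assoc] using this
  let α : C ≃* C :=
    { toFun := fun x => ⟨g * x * g⁻¹, (hgC x).1 x.2⟩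
      invFun := fun x => ⟨g⁻¹ * x * g, (hgC _).2 (by simpa [mul_assoc] using x.2)⟩
      left_inv := fun x => Subtype.ext (by simp [mul_assoc])
      right_inv := fun x => Subtype.ext (by simp [mul_assoc])
      map_mul' := fun x y => Subtype.ext (by simp [mul_assoc]) }
  have hαs : Function.Surjective α.toMonoidHom := α.surjective
  obtain ⟨a, ha⟩ := MulAction.exists_smul_eq C (S.mapSurjective hαs) S
  have hag : (a : G) * g ∈ normalizer (U : Set G) := mul_mem (centralizer_le_normalizer _ a.2) hg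
  have hS2 : ∀ x ∈ S', (a : G) * g * x * ((a : G) * g)⁻¹ ∈ S' := by
    rintro _ ⟨y, hy, rfl⟩
    refine ⟨a * α y * a⁻¹, ?_, ?_⟩
    · have h1 : a * α y * a⁻¹ ∈ ((a • S.mapSurjective hαs : Sylow 2 C) : Subgroup C) := by
        rw [Sylow.coe_subgroup_smul]
        refine Cfsg.Lib.Core.mem_conj_smul.2 ?_
        rw [show a⁻¹ * (a * α y * a⁻¹) * a = α y by group, Sylow.coe_mapSurjective]
        exact ⟨y, hy, rfl⟩
      rw [ha] at h1
      exact h1
    · show (a : G) * (g * (y : G) * g⁻¹) * (a : G)⁻¹ = (a : G) * g * (y : G) * ((a : G) * g)⁻¹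
      group
  have hwS : S'.map (MulAut.conj ((a : G) * g)).toMonoidHom = S' :=
    eq_of_le_of_card_ge (by rintro _ ⟨x, hx, rfl⟩; simpa only [MulEquiv.coe_toMonoidHom, MulAut.conj_apply] using hS2 x hx)
      (card_map_of_injective (f := (MulAut.conj ((a : G) * g)).toMonoidHom) (MulAut.conj _).injective).ge
  have hwT : (a : G) * g ∈ normalizer ((U ⊔ S' : Subgroup G) : Set G) := by
    rw [mem_normalizer_iff_map_conj_eq, Subgroup.map_sup]
    rw [mem_normalizer_iff_map_conj_eq] at hag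
    exact (congrArg₂ (· ⊔ ·) hag hwS)
  set k := (orderOf ((a : G) * g)).factorization 2 with hk
  set T := (U ⊔ S').map (MulAut.conj c⁻¹).toMonoidHom with hT
  have hTP : T ≤ (P : Subgroup G) := by
    rintro _ ⟨x, hx, rfl⟩
    simpa using (hmem x).1 (hR hx)
  have hZT : (P : Subgroup G) ⊓ centralizer ((P : Subgroup G) : Set G) ≤ T := fun z hz =>
    ⟨c * z * c⁻¹, mem_sup_right (hZ z hz.1 hz.2), by simp [mul_assoc]⟩
  set g' := (MulAut.conj c⁻¹).toMonoidHom (((a : G) * g) ^ 2 ^ k) with hg'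
  have hg'N : g' ∈ normalizer (T : Set G) := le_normalizer_map _ ⟨_, pow_mem hwT _, rfl⟩
  have hg'o : (orderOf g').Coprime 2 :=
    Nat.Coprime.coprime_dvd_left (orderOf_map_dvd _ _) (coprime_orderOf_pow _)
  have hg'C : g' ∈ centralizer (T : Set G) := by
    by_contra h
    exact hno ⟨T, ⟨hZT, hTP⟩, g', hg'N, hg'o, h⟩
  have hUc : ((a : G) * g) ^ 2 ^ k ∈ C := by
    intro x hx
    refine (MulAut.conj c⁻¹).injective ?_
    rw [map_mul, map_mul]
    exact hg'C _ ⟨x, mem_sup_left hx, rfl⟩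
  set φ := U.normalizerMonoidHom with hφ
  have hker : ∀ w : normalizer (U : Set G), (w : G) ∈ C → φ w = 1 := fun w hw => by
    rw [← MonoidHom.mem_ker, hφ, Subgroup.normalizerMonoidHom_ker]
    exact hw
  have h1 : φ ⟨g, hg⟩ = φ ⟨(a : G) * g, hag⟩ := by
    rw [show (⟨(a : G) * g, hag⟩ : normalizer (U : Set G)) =
      ⟨a, centralizer_le_normalizer _ a.2⟩ * ⟨g, hg⟩ from rfl, map_mul,
      hker ⟨(a : G), centralizer_le_normalizer _ a.2⟩ a.2, one_mul]
  have h2 : φ ⟨g, hg⟩ ^ 2 ^ k = 1 := by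
    rw [h1, ← map_pow]
    exact hker _ hUc
  have h5 : φ ⟨g, hg⟩ = 1 :=
    eq_one_of_odd (Nat.Coprime.coprime_dvd_left ((orderOf_map_dvd φ _).trans
      (Subgroup.orderOf_mk g hg).dvd) hgodd) h2
  rw [← MonoidHom.mem_ker, hφ, Subgroup.normalizerMonoidHom_ker] at h5
  exact h5

end

/-! ### The action modulo the Frattini subgroup -/

/-- Automorphisms trivial modulo the centre. -/
def centerStab (Q : Type*) [Group Q] : Subgroup (MulAut Q) where
  carrier := {g | ∀ x : Q, x⁻¹ * g x ∈ center Q}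
  one_mem' := fun x => by simp
  mul_mem' := fun {a b} ha hb x => by
    have h := mul_mem (hb x) (ha (b x))
    simpa [MulAut.mul_apply, mul_assoc] using h
  inv_mem' := fun {a} ha x => by
    have h := inv_mem (ha (a⁻¹ x))
    simpa [MulAut.inv_apply] using h

instance centerStab_normal (Q : Type*) [Group Q] : (centerStab Q).Normal := by
  refine ⟨fun a ha b x => ?_⟩
  have h : b ((b⁻¹ x)⁻¹ * a (b⁻¹ x)) ∈ center Q := by
    have hch : (center Q).Characteristic := inferInstance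
    exact (hch.fixed b).symm.le (ha (b⁻¹ x))
  simpa [MulAut.mul_apply, MulAut.inv_apply, map_mul] using h

/-- The action of the normalizer on the Frattini quotient. -/
noncomputable def act (T : Subgroup G) :
    normalizer (T : Set G) →* MulAut T ⧸ Cfsg.Lib.PGroup.frattiniStab T :=
  (QuotientGroup.mk' _).comp T.normalizerMonoidHom

theorem coe_aut (T : Subgroup G) (k : normalizer (T : Set G)) (t : T) :
    ((T.normalizerMonoidHom k t : T) : G) = k * t * (k : G)⁻¹ := rfl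

theorem act_eq_one {T : Subgroup G} {k : normalizer (T : Set G)} :
    act T k = 1 ↔ ∀ t : T, t⁻¹ * T.normalizerMonoidHom k t ∈ frattini T :=
  (QuotientGroup.eq_one_iff _).trans Iff.rfl

theorem act_eq_one_of_mem_centralizer {T : Subgroup G} {k : normalizer (T : Set G)}
    (h : (k : G) ∈ centralizer (T : Set G)) : act T k = 1 := by
  have h1 : T.normalizerMonoidHom k = 1 := by
    rw [← MonoidHom.mem_ker, Subgroup.normalizerMonoidHom_ker]; exact h
  exact (congrArg (QuotientGroup.mk' _) h1).trans (map_one _)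

theorem mem_centralizer_of_act {T : Subgroup G} (hT : IsPGroup 2 T) {k : normalizer (T : Set G)}
    (hk : (orderOf (k : G)).Coprime 2) (h : act T k = 1) : (k : G) ∈ centralizer (T : Set G) := by
  obtain ⟨j, hj⟩ := (Cfsg.Lib.PGroup.isPGroup_frattiniStab hT)
    ⟨T.normalizerMonoidHom k, (QuotientGroup.eq_one_iff _).1 h⟩
  have h1 : T.normalizerMonoidHom k = 1 :=
    eq_one_of_odd (Nat.Coprime.coprime_dvd_left
      ((orderOf_map_dvd _ k).trans (Subgroup.orderOf_coe k).symm.dvd) hk)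
      (congrArg Subtype.val hj)
  rw [← MonoidHom.mem_ker, Subgroup.normalizerMonoidHom_ker] at h1
  exact h1

section

variable (P : Sylow 2 G)
  (hc2 : ∀ a ∈ (P : Subgroup G), ∀ b ∈ (P : Subgroup G), ∀ c ∈ (P : Subgroup G),
    c * ⁅a, b⁆ = ⁅a, b⁆ * c)
include hc2

/-- The structure at a maximal bad subgroup different from the Sylow subgroup. -/
theorem structure_of_maximal {T : Subgroup G} (hT : Bad P T)
    (hmax : ∀ Q : Subgroup G, T < Q → Q ≤ (P : Subgroup G) →
      ∀ g ∈ normalizer (Q : Set G), (orderOf g).Coprime 2 → g ∈ centralizer (T : Set G))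
    (hne : T ≠ (P : Subgroup G)) :
    (∀ s ∈ (P : Subgroup G), s ∉ T → ∀ k : normalizer (T : Set G), (k : G) = s → act T k ≠ 1) ∧
    (∀ s ∈ (P : Subgroup G), ∀ t ∈ (P : Subgroup G), s ∉ T → t ∉ T → s * t ∈ T) ∧
    (∃ g : G, g ∈ normalizer (T : Set G) ∧ (orderOf g).Coprime 2 ∧ g ∉ centralizer (T : Set G) ∧
      ∀ t ∈ T, ∀ y ∈ T, y * (t⁻¹ * (g * t * g⁻¹)) = t⁻¹ * (g * t * g⁻¹) * y) ∧
    ∀ s ∈ (P : Subgroup G), s ∉ T → ∀ F : Subgroup T, F.index ≤ 2 →
      (∀ f ∈ F, ∀ k : normalizer (T : Set G), (k : G) = s →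
        f⁻¹ * T.normalizerMonoidHom k f ∈ frattini T) → 3 ∣ Nat.card G := by
  classical
  obtain ⟨⟨hZT, hTP⟩, g0, hg0N, hg0o, hg0C⟩ := hT
  have hPN := le_normalizer_of_center_le P hc2 hZT hTP
  have hTpg : IsPGroup 2 T := P.2.to_le hTP
  set ψ := act T with hψdef
  set k0 : normalizer (T : Set G) := ⟨g0, hg0N⟩ with hk0
  have hk0ne : ψ k0 ≠ 1 := fun h => hg0C (mem_centralizer_of_act hTpg (k := k0) hg0o h)
  set PK : Sylow 2 (normalizer (T : Set G)) := P.subtype hPN with hPK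
  have hPKmem : ∀ k : normalizer (T : Set G),
      k ∈ (PK : Subgroup (normalizer (T : Set G))) ↔ (k : G) ∈ (P : Subgroup G) := fun k => Iff.rfl
  set V := (PK : Subgroup (normalizer (T : Set G))).map ψ with hV
  have hTone : ∀ k : normalizer (T : Set G), (k : G) ∈ T → ψ k = 1 := fun k hk => act_eq_one.2 fun t => by
    refine Cfsg.Lib.PGroup.commutator_le_frattini hTpg ?_
    rw [show t⁻¹ * T.normalizerMonoidHom k t = ⁅t⁻¹, (⟨(k : G), hk⟩ : T)⁆ from Subtype.ext (by
      simp only [Subgroup.coe_mul, Subgroup.coe_inv, coe_aut, commutatorElement_def, inv_inv]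
      group)]
    exact commutator_mem_commutator (mem_top _) (mem_top _)
  have hsq : ∀ x ∈ V, x * x = 1 := by
    rintro _ ⟨k, hk, rfl⟩
    rw [← map_mul]
    refine act_eq_one.2 fun t => ?_
    have hkP : (k : G) ∈ (P : Subgroup G) := hk
    have hcP := comm_mem P hc2 (inv_mem (hTP t.2)) hkP
    let u : T := ⟨⁅((t : G))⁻¹, (k : G)⁆, hZT hcP⟩
    rw [show t⁻¹ * T.normalizerMonoidHom (k * k) t = u ^ 2 from Subtype.ext (by
      simp only [Subgroup.coe_mul, Subgroup.coe_inv, coe_aut, SubmonoidClass.coe_pow, u]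
      have hcomm := hcP.2 (k : G) hkP
      rw [pow_two, commutatorElement_def, inv_inv]
      rw [commutatorElement_def, inv_inv] at hcomm
      calc ((t : G))⁻¹ * ((k : G) * k * t * ((k : G) * k)⁻¹)
          = (t : G)⁻¹ * k * t * (k : G)⁻¹ * ((k : G) * ((t : G)⁻¹ * k * t * (k : G)⁻¹) * (k : G)⁻¹) := by
            group
        _ = (t : G)⁻¹ * k * t * (k : G)⁻¹ * ((t : G)⁻¹ * k * t * (k : G)⁻¹) := by
            rw [hcomm, mul_inv_cancel_right])]
    exact Cfsg.Lib.PGroup.pow_mem_frattini hTpg u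
  have hVc : ∀ x ∈ V, ∀ y ∈ V, x * y = y * x := fun x hx y hy => by
    have h1 := hsq _ (mul_mem hx hy)
    rw [← inv_eq_of_mul_eq_one_right h1, mul_inv_rev, inv_eq_of_mul_eq_one_right (hsq x hx),
      inv_eq_of_mul_eq_one_right (hsq y hy)]
  -- local `2`-nilpotence of the image
  have key : ∀ Q : Subgroup (MulAut T ⧸ Cfsg.Lib.PGroup.frattiniStab T), Q ≤ V →
      (∃ s : normalizer (T : Set G), (s : G) ∈ (P : Subgroup G) ∧ (s : G) ∉ T ∧ ψ s ∈ Q) →
      ∀ k : normalizer (T : Set G),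
        ψ k ∈ normalizer (Q : Set (MulAut T ⧸ Cfsg.Lib.PGroup.frattiniStab T)) →
        (orderOf (ψ k)).Coprime 2 → ψ k = 1 := by
    intro Q hQV ⟨s, hsP, hsT, hsQ⟩ k hkQ hko
    set M := (normalizer (Q : Set (MulAut T ⧸ Cfsg.Lib.PGroup.frattiniStab T))).comap ψ with hM
    have hPM : (PK : Subgroup (normalizer (T : Set G))) ≤ M := fun x hx => by
      refine mem_normalizer_iff.2 fun q => ⟨fun hq => ?_, fun hq => ?_⟩
      · rw [hVc _ ⟨x, hx, rfl⟩ q (hQV hq), mul_inv_cancel_right]; exact hq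
      · have := hVc _ ⟨x, hx, rfl⟩ _ (hQV hq)
        rw [inv_mul_cancel_right] at this
        rwa [mul_left_cancel this] at hq
    set H := Q.comap ψ with hH
    have hHM : H ≤ M := fun x hx => le_normalizer hx
    haveI hHn : (H.subgroupOf M).Normal :=
      ⟨fun x hx m => by
        show ψ ((m : normalizer (T : Set G)) * x * (m : normalizer (T : Set G))⁻¹) ∈ Q
        rw [map_mul, map_mul, map_inv]
        exact (mem_normalizer_iff.1 m.2 _).1 hx⟩
    set PM := PK.subtype hPM with hPMdef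
    obtain ⟨S, hS⟩ := Cfsg.Lib.Local.exists_sylow_inf PM (H.subgroupOf M)
    have hk' : (⟨k, hkQ⟩ : M) ∈ normalizer
        (((S : Subgroup (H.subgroupOf M)).map (H.subgroupOf M).subtype : Subgroup M) : Set M) ⊔
          H.subgroupOf M := by
      rw [Sylow.normalizer_sup_eq_top S]; exact mem_top _
    obtain ⟨n, hn, h, hh, hnh⟩ := Subgroup.mem_sup_of_normal_right.1 hk'
    set j : M →* G := (normalizer (T : Set G)).subtype.comp M.subtype with hj
    set Q0 := ((S : Subgroup (H.subgroupOf M)).map (H.subgroupOf M).subtype).map j with hQ0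
    have hQ0mem : ∀ x : M, (x : normalizer (T : Set G)) ∈ (PK : Subgroup (normalizer (T : Set G))) →
        ψ x ∈ Q → j x ∈ Q0 := fun x hx1 hx2 => by
      refine ⟨x, ⟨⟨x, hx2⟩, ?_, rfl⟩, rfl⟩
      rw [hS]; exact hx1
    have hQ0P : Q0 ≤ (P : Subgroup G) := by
      rintro _ ⟨_, ⟨x, hx, rfl⟩, rfl⟩
      rw [hS] at hx
      exact hx
    have hlt : T < Q0 := by
      refine lt_of_le_of_ne (fun t ht => ?_) fun e => hsT (e.ge ?_)
      · have htK : t ∈ normalizer (T : Set G) := le_normalizer ht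
        exact hQ0mem ⟨⟨t, htK⟩, hPM (hTP ht)⟩ (hTP ht) (by
          rw [hTone ⟨t, htK⟩ ht]; exact one_mem Q)
      · exact hQ0mem ⟨s, hPM hsP⟩ hsP hsQ
    have hnN : j n ∈ normalizer (Q0 : Set G) := le_normalizer_map j ⟨n, hn, rfl⟩
    set i := (orderOf (j n)).factorization 2 with hi
    have h1 : j n ^ 2 ^ i ∈ centralizer (T : Set G) :=
      hmax Q0 hlt hQ0P _ (pow_mem hnN _) (coprime_orderOf_pow _)
    have h2 : ψ n ^ 2 ^ i = 1 := by
      rw [← map_pow]
      refine act_eq_one_of_mem_centralizer ?_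
      rw [Subgroup.coe_pow]
      exact h1
    have h3 : ψ n = ψ k * (ψ h)⁻¹ := by
      rw [eq_mul_inv_iff_mul_eq, ← map_mul]
      exact congrArg ψ (congrArg Subtype.val hnh)
    have h4 := mul_pow_conj_mem (Q := Q) hkQ (inv_mem (show ψ h ∈ Q from hh)) (2 ^ i)
    rw [← h3, h2, one_mul] at h4
    obtain ⟨l, hl⟩ := (PK.2.map ψ : IsPGroup 2 V) ⟨_, hQV h4⟩
    have h5 : ((ψ k ^ 2 ^ i)⁻¹) ^ 2 ^ l = 1 := congrArg Subtype.val hl
    rw [inv_pow, inv_eq_one, ← pow_mul, ← pow_add] at h5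
    exact eq_one_of_odd hko h5
  have hker : ∀ s ∈ (P : Subgroup G), s ∉ T → ∀ k : normalizer (T : Set G), (k : G) = s → ψ k ≠ 1 := by
    intro s hs hsT k hks h
    subst hks
    refine hk0ne (key ⊥ bot_le ⟨k, hs, hsT, by rw [h]; exact one_mem _⟩ k0 ?_ ?_)
    · rw [mem_normalizer_iff]; simp
    · exact Nat.Coprime.coprime_dvd_left
        ((orderOf_map_dvd ψ k0).trans (Subgroup.orderOf_coe k0).symm.dvd) hg0o
  -- the image is `2`-nilpotent
  haveI : Finite (MulAut T) :=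
    Finite.of_injective (fun a : MulAut T => (a : T → T)) DFunLike.coe_injective
  set Γ := ψ.range with hΓ
  set PΓ : Sylow 2 Γ := PK.mapSurjective ψ.rangeRestrict_surjective with hPΓ
  have hPΓV : ∀ x : Γ, x ∈ (PΓ : Subgroup Γ) → (x : MulAut T ⧸ Cfsg.Lib.PGroup.frattiniStab T) ∈ V := by
    intro x hx
    rw [hPΓ, Sylow.coe_mapSurjective] at hx
    obtain ⟨k, hk, rfl⟩ := hx
    exact ⟨k, hk, rfl⟩
  have hnpc : HasNormalPComplement 2 Γ := (frobenius PΓ).2 fun Q hQ x hx hxo => by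
    by_cases hQ1 : Q = ⊥
    · intro y hy
      rw [hQ1, coe_bot, Set.mem_singleton_iff] at hy
      rw [hy, one_mul, mul_one]
    obtain ⟨q, hq, hq1⟩ := Q.bot_or_exists_ne_one.resolve_left hQ1
    obtain ⟨s, hsP, hs⟩ := hPΓV q (hQ hq)
    have hsT : (s : G) ∉ T := fun h => hq1 (Subtype.ext (hs.symm.trans (hTone s h)))
    obtain ⟨k, hk⟩ := x.2
    have h1 : ψ k = 1 := key (Q.map Γ.subtype) (by rintro _ ⟨y, hy, rfl⟩; exact hPΓV y (hQ hy))
      ⟨s, hsP, hsT, ⟨q, hq, hs.symm⟩⟩ k (by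
        rw [hk]; exact le_normalizer_map Γ.subtype ⟨x, hx, rfl⟩)
      (by rw [hk, Subgroup.orderOf_coe]; exact hxo)
    have hx1 : x = 1 := Subtype.ext (hk.symm.trans h1)
    rw [hx1]
    exact one_mem _
  set R := pResidual 2 Γ with hR
  have hRo : ∀ x : Γ, x ∈ R ↔ (orderOf x).Coprime 2 := mem_pResidual_iff_coprime hnpc
  set x0 : Γ := ψ.rangeRestrict k0 with hx0
  have hx0o : (orderOf x0).Coprime 2 := Nat.Coprime.coprime_dvd_left
    ((orderOf_map_dvd ψ.rangeRestrict k0).trans (Subgroup.orderOf_coe k0).symm.dvd) hg0o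
  have hx0R : x0 ∈ R := (hRo _).2 hx0o
  have hx01 : x0 ≠ 1 := fun h => hk0ne (congrArg Subtype.val h)
  have hinv : ∀ s : normalizer (T : Set G), (s : G) ∈ (P : Subgroup G) → (s : G) ∉ T →
      ψ.rangeRestrict s * ψ.rangeRestrict s = 1 ∧
      ψ.rangeRestrict s * x0 * (ψ.rangeRestrict s)⁻¹ = x0⁻¹ := by
    intro s hsP hsT
    set γ := ψ.rangeRestrict s with hγ
    have hγ2 : γ * γ = 1 := Subtype.ext (hsq _ ⟨s, hsP, rfl⟩)
    refine ⟨hγ2, ?_⟩
    have hfix : ∀ u ∈ R, γ * u * γ⁻¹ = u → u = 1 := by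
      intro u hu hcu
      obtain ⟨k, hk⟩ := u.2
      refine Subtype.ext (hk.symm.trans ?_)
      refine key (zpowers (ψ s)) (zpowers_le.2 ⟨s, hsP, rfl⟩) ⟨s, hsP, hsT, mem_zpowers _⟩ k ?_ ?_
      · refine centralizer_le_normalizer _ fun y hy => ?_
        obtain ⟨m, rfl⟩ := mem_zpowers_iff.1 hy
        refine (Commute.zpow_left ?_ m).eq
        rw [hk]
        exact congrArg Subtype.val (mul_inv_eq_iff_eq_mul.1 hcu)
      · rw [hk, Subgroup.orderOf_coe]
        exact (hRo u).1 hu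
    have hRn : R.Normal := inferInstance
    let f : R → R := fun y => ⟨(y : Γ)⁻¹ * (γ * y * γ⁻¹), mul_mem (inv_mem y.2) (hRn.conj_mem _ y.2 γ)⟩
    have hf : Function.Injective f := by
      intro y z hyz
      have h := congrArg Subtype.val hyz
      refine Subtype.ext (eq_of_mul_inv_eq_one (hfix _ (mul_mem y.2 (inv_mem z.2)) ?_))
      calc γ * ((y : Γ) * (z : Γ)⁻¹) * γ⁻¹
          = (y : Γ) * ((y : Γ)⁻¹ * (γ * y * γ⁻¹)) * (γ * z * γ⁻¹)⁻¹ := by group
        _ = (y : Γ) * ((z : Γ)⁻¹ * (γ * z * γ⁻¹)) * (γ * z * γ⁻¹)⁻¹ := by rw [show (y : Γ)⁻¹ * (γ * y * γ⁻¹) = (z : Γ)⁻¹ * (γ * z * γ⁻¹) from h]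
        _ = (y : Γ) * (z : Γ)⁻¹ := by group
    obtain ⟨y, hy⟩ := (Finite.surjective_of_injective hf) ⟨x0, hx0R⟩
    have hy' : (y : Γ)⁻¹ * (γ * y * γ⁻¹) = x0 := congrArg Subtype.val hy
    have hγi : γ⁻¹ = γ := inv_eq_of_mul_eq_one_right hγ2
    rw [hγi] at hy' ⊢
    rw [← hy', mul_inv_rev, mul_inv_rev, mul_inv_rev, inv_inv, hγi]
    calc γ * ((y : Γ)⁻¹ * (γ * y * γ)) * γ = γ * (y : Γ)⁻¹ * γ * y * (γ * γ) := by group
      _ = γ * ((y : Γ)⁻¹ * γ) * y := by rw [hγ2]; group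
  have htwo : ∀ s ∈ (P : Subgroup G), ∀ t ∈ (P : Subgroup G), s ∉ T → t ∉ T → s * t ∈ T := by
    intro s hs t ht hsT htT
    by_contra hst
    set s' : normalizer (T : Set G) := ⟨s, hPN hs⟩
    set t' : normalizer (T : Set G) := ⟨t, hPN ht⟩
    have h3 := (hinv (s' * t') (mul_mem hs ht) hst).2
    rw [map_mul, mul_inv_rev, show ψ.rangeRestrict s' * ψ.rangeRestrict t' * x0 *
        ((ψ.rangeRestrict t')⁻¹ * (ψ.rangeRestrict s')⁻¹) = ψ.rangeRestrict s' *
        (ψ.rangeRestrict t' * x0 * (ψ.rangeRestrict t')⁻¹) * (ψ.rangeRestrict s')⁻¹ by group,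
      (hinv t' ht htT).2, show ψ.rangeRestrict s' * x0⁻¹ * (ψ.rangeRestrict s')⁻¹ =
        (ψ.rangeRestrict s' * x0 * (ψ.rangeRestrict s')⁻¹)⁻¹ by group, (hinv s' hs hsT).2,
      inv_inv] at h3
    refine hx01 (eq_one_of_odd hx0o (k := 1) ?_)
    rw [pow_one, pow_two]
    exact eq_inv_iff_mul_eq_one.1 h3
  have hprod : ∀ s : normalizer (T : Set G), (s : G) ∈ (P : Subgroup G) → (s : G) ∉ T →
      ψ.rangeRestrict (s * (k0 * s * k0⁻¹)) = x0⁻¹ * x0⁻¹ := by
    intro s hs hsT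
    obtain ⟨h1, h2⟩ := hinv s hs hsT
    rw [inv_eq_of_mul_eq_one_right h1] at h2
    rw [map_mul, map_mul, map_mul, map_inv, ← hx0,
      show ψ.rangeRestrict s * (x0 * ψ.rangeRestrict s * x0⁻¹) =
        ψ.rangeRestrict s * x0 * ψ.rangeRestrict s * x0⁻¹ by group, h2]
  have hx02 : x0⁻¹ * x0⁻¹ ≠ 1 := fun h => hx01 (inv_eq_one.1
    (eq_one_of_odd (k := 1) (by rwa [orderOf_inv]) (by rwa [pow_one, pow_two])))
  have hx02o : (orderOf (x0⁻¹ * x0⁻¹)).Coprime 2 := (hRo _).1 (mul_mem (inv_mem hx0R) (inv_mem hx0R))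
  refine ⟨hker, htwo, ?_, ?_⟩
  · obtain ⟨s, hs, hsT⟩ := SetLike.exists_of_lt (lt_of_le_of_ne hTP hne)
    set s' : normalizer (T : Set G) := ⟨s, hPN hs⟩ with hs'
    set c := s' * (k0 * s' * k0⁻¹) with hc
    have hsE : T.normalizerMonoidHom s' ∈ centerStab T := fun t => mem_center_iff.2 fun y => by
      refine Subtype.ext ?_
      simp only [Subgroup.coe_mul, Subgroup.coe_inv, coe_aut]
      have h := (comm_mem P hc2 (inv_mem (hTP t.2)) hs).2 (y : G) (hTP y.2)
      rw [commutatorElement_def, inv_inv] at h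
      show (y : G) * ((t : G)⁻¹ * (s * t * s⁻¹)) = (t : G)⁻¹ * (s * t * s⁻¹) * y
      simpa [mul_assoc] using h
    have hcE : T.normalizerMonoidHom c ∈ centerStab T := by
      rw [hc, map_mul, map_mul, map_mul, map_inv]
      exact mul_mem hsE ((centerStab_normal T).conj_mem _ hsE _)
    set i := (orderOf (c : G)).factorization 2 with hi
    refine ⟨(c : G) ^ 2 ^ i, pow_mem c.2 _, coprime_orderOf_pow _, fun h => hx02 ?_, fun t ht y hy => ?_⟩
    · have h1 : ψ.rangeRestrict c ^ 2 ^ i = 1 := Subtype.ext (by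
        rw [Subgroup.coe_pow, MonoidHom.coe_rangeRestrict, ← map_pow]
        refine act_eq_one_of_mem_centralizer ?_
        rw [Subgroup.coe_pow]
        exact h)
      rw [hprod s' hs hsT] at h1
      exact eq_one_of_odd hx02o h1
    · have h1 := pow_mem hcE (2 ^ i) ⟨t, ht⟩
      rw [← map_pow] at h1
      have h2 := congrArg Subtype.val (mem_center_iff.1 h1 ⟨y, hy⟩)
      simpa only [Subgroup.coe_mul, Subgroup.coe_inv, coe_aut, Subgroup.coe_pow] using h2
  · intro s hs hsT F hF hFs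
    by_contra h3
    set s' : normalizer (T : Set G) := ⟨s, hPN hs⟩ with hs'
    set a := T.normalizerMonoidHom s' with ha
    set b := T.normalizerMonoidHom k0 with hb
    set x := T.normalizerMonoidHom (s' * (k0 * s' * k0⁻¹)) with hx
    let Fx : Subgroup T :=
      { carrier := {t | t⁻¹ * x t ∈ frattini T}
        one_mem' := by show (1 : T)⁻¹ * x 1 ∈ frattini T; rw [map_one]; simp
        mul_mem' := fun {t u} (ht : t⁻¹ * x t ∈ frattini T) (hu : u⁻¹ * x u ∈ frattini T) => by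
          show (t * u)⁻¹ * x (t * u) ∈ frattini T
          rw [map_mul, show (t * u)⁻¹ * (x t * x u) = u⁻¹ * (t⁻¹ * x t) * u * (u⁻¹ * x u) by group]
          refine mul_mem ?_ hu
          simpa using Subgroup.Normal.conj_mem (inferInstance : (frattini T).Normal) _ ht u⁻¹
        inv_mem' := fun {t} (ht : t⁻¹ * x t ∈ frattini T) => by
          show t⁻¹⁻¹ * x t⁻¹ ∈ frattini T
          rw [map_inv, show t⁻¹⁻¹ * (x t)⁻¹ = t * (t⁻¹ * x t)⁻¹ * t⁻¹ by group]
          exact Subgroup.Normal.conj_mem inferInstance _ (inv_mem ht) t }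
    have hFxmem : ∀ t : T, t ∈ Fx ↔ t⁻¹ * x t ∈ frattini T := fun t => Iff.rfl
    have hΦ : frattini T ≤ Fx := fun t ht =>
      mul_mem (inv_mem ht) (Cfsg.Lib.PGroup.apply_mem_frattini x ht)
    haveI : Fx.Normal :=
      Subgroup.Normal.of_commutator_le _ ((Cfsg.Lib.PGroup.commutator_le_frattini hTpg).trans hΦ)
    have hxab : x = a * (b * a * b⁻¹) := by rw [hx, map_mul, map_mul, map_mul, map_inv]
    have hle : F ⊓ F.map b.toMonoidHom ≤ Fx := by
      rintro f ⟨hf, f', hf', e⟩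
      have h1 : f'⁻¹ * a f' ∈ frattini T := hFs f' hf' s' rfl
      have h2 : f⁻¹ * a f ∈ frattini T := hFs f hf s' rfl
      have hf0 : f = b f' := e.symm
      rw [hFxmem, hxab, show (a * (b * a * b⁻¹)) f = a (b (a (b⁻¹ f))) from rfl,
        show b⁻¹ f = f' by rw [hf0]; simp, show a f' = f' * (f'⁻¹ * a f') by group, map_mul, ← hf0,
        map_mul, ← mul_assoc]
      exact mul_mem h2 (Cfsg.Lib.PGroup.apply_mem_frattini a (Cfsg.Lib.PGroup.apply_mem_frattini b h1))
    have hidx : Fx.index ≤ 4 := by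
      refine (Subgroup.index_antitone hle).trans (index_inf_le.trans ?_)
      have : (F.map b.toMonoidHom).index = F.index := index_map_equiv _ b
      rw [this]
      exact Nat.mul_le_mul hF hF
    set n := orderOf (ψ (s' * (k0 * s' * k0⁻¹))) with hn
    have hcoe : ψ (s' * (k0 * s' * k0⁻¹)) = ((x0⁻¹ * x0⁻¹ : Γ) : MulAut T ⧸ Cfsg.Lib.PGroup.frattiniStab T) :=
      congrArg Subtype.val (hprod s' hs hsT)
    have hn2 : n.Coprime 2 := by
      rw [hn, hcoe, Subgroup.orderOf_coe]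
      exact hx02o
    have hn3 : n.Coprime 3 := by
      refine ((Nat.prime_three).coprime_iff_not_dvd.2 fun h => h3 ?_).symm
      exact h.trans ((orderOf_map_dvd ψ _).trans
        ((Subgroup.orderOf_coe _).symm.dvd.trans (orderOf_dvd_natCard _)))
    have hxn : ∀ t : T, t⁻¹ * (x ^ n) t ∈ Fx := fun t => hΦ (by
      have h1 : ψ (s' * (k0 * s' * k0⁻¹)) ^ n = 1 := pow_orderOf_eq_one _
      rw [← map_pow] at h1
      have h2 := act_eq_one.1 h1 t
      rwa [map_pow] at h2)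
    have hx1 := mem_of_coprime_six Fx hidx x (fun t ht => by
      rw [hFxmem, ← map_inv, ← map_mul]
      exact Cfsg.Lib.PGroup.apply_mem_frattini x ht) (n := n)
      (show n.Coprime (2 * 3) from hn2.mul_right hn3) hxn
    have hsq2 : ψ (s' * (k0 * s' * k0⁻¹)) ^ 2 ^ 1 = 1 := by
      rw [← map_pow]
      refine act_eq_one.2 fun t => ?_
      rw [map_pow, ← hx, pow_one, pow_two, MulAut.mul_apply]
      have h1 := (hFxmem _).1 (hx1 t)
      set f := t⁻¹ * x t with hf
      have hxt : x t = t * f := by rw [hf]; group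
      rw [hxt, map_mul, hxt,
        show t⁻¹ * (t * f * x f) = f * f * (f⁻¹ * x f) by group, ← pow_two]
      exact mul_mem (Cfsg.Lib.PGroup.pow_mem_frattini hTpg f) h1
    rw [hcoe] at hsq2
    exact hx02 (eq_one_of_odd hx02o (k := 1) (Subtype.ext (by rw [Subgroup.coe_pow]; exact hsq2)))

end

/-! ### The criterion -/

variable {A : Type v} [Group A] [Finite A] [MulDistribMulAction A G]

/-- **Normal `2`-complement.** -/
theorem hasNormalPComplement_two (hcop : (Nat.card A).Coprime (Nat.card G)) (P : Sylow 2 G)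
    (hP : AInv A (P : Subgroup G))
    (hc2 : ∀ a ∈ (P : Subgroup G), ∀ b ∈ (P : Subgroup G), ∀ c ∈ (P : Subgroup G),
      c * ⁅a, b⁆ = ⁅a, b⁆ * c)
    (hN : ∀ U : Subgroup G, U ≠ ⊥ → U ≤ (P : Subgroup G) → AInv A U →
      (P : Subgroup G) ≤ normalizer (U : Set G) → HasNormalPComplement 2 (normalizer (U : Set G))) :
    HasNormalPComplement 2 G := by
  classical
  by_contra hG
  obtain ⟨T, hT, hTmax⟩ := (Set.toFinite {T : Subgroup G | Bad P T}).exists_maximal
    (exists_bad P hc2 hG)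
  obtain ⟨⟨hZT, hTP⟩, -⟩ := id (hT : Bad P T)
  have hmax : ∀ Q : Subgroup G, T < Q → Q ≤ (P : Subgroup G) →
      ∀ g ∈ normalizer (Q : Set G), (orderOf g).Coprime 2 → g ∈ centralizer (T : Set G) := by
    intro Q hTQ hQP g hg hgo
    refine centralizer_le hTQ.le ?_
    by_contra hgC
    exact hTQ.not_ge (hTmax (⟨⟨hZT.trans hTQ.le, hQP⟩, g, hg, hgo, hgC⟩ : Bad P Q) hTQ.le)
  have hne : T ≠ (P : Subgroup G) := by
    rintro rfl
    obtain ⟨-, g, hg, hgo, hgC⟩ := (hT : Bad P (P : Subgroup G))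
    have h1 : (P : Subgroup G) ≠ ⊥ := fun e => hgC fun x hx => by
      rw [e, coe_bot, Set.mem_singleton_iff] at hx
      rw [hx, one_mul, mul_one]
    exact hgC (mem_centralizer_of_npc (hN _ h1 le_rfl hP le_normalizer) le_normalizer P.2 hg hg hgo)
  obtain ⟨hker, htwo, ⟨g, hgN, hgo, hgC, hgZ⟩, hthree⟩ := structure_of_maximal P hc2 hT hmax hne
  obtain ⟨s0, hs0, hs0T⟩ := SetLike.exists_of_lt (lt_of_le_of_ne hTP hne)
  have hPN := le_normalizer_of_center_le P hc2 hZT hTP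
  have hAodd : (Nat.card A).Coprime 2 := by
    obtain ⟨k, hk⟩ := IsPGroup.iff_card.1 P.2
    rcases k with _ | k
    · rw [pow_zero, card_eq_one] at hk
      exact absurd ((mem_bot.1 (hk ▸ hs0)).symm ▸ T.one_mem) hs0T
    · exact hcop.coprime_dvd_right
        ((dvd_pow_self 2 k.succ_ne_zero).trans (hk ▸ card_subgroup_dvd_card _))
  have hdT : ∀ t ∈ T, t⁻¹ * (g * t * g⁻¹) ∈ T := fun t ht =>
    mul_mem (inv_mem ht) ((mem_normalizer_iff.1 hgN t).1 ht)
  -- the commutators of `g` lie in all conjugates of `T`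
  have hall : ∀ (b : A), ∀ t ∈ T, b • (t⁻¹ * (g * t * g⁻¹)) ∈ T := by
    intro b t ht
    by_contra hb
    set d := t⁻¹ * (g * t * g⁻¹) with hd
    clear hd
    have hdTm : d ∈ T := hdT t ht
    have hdZ : ∀ y ∈ T, y * d = d * y := hgZ t ht
    set f := (MulDistribMulAction.toMulAut A G b).toMonoidHom with hf
    have hfa : ∀ x, f x = b • x := fun x => rfl
    set T₂ := T.comap f with hT₂
    have hm : ∀ x, x ∈ T₂ ↔ b • x ∈ T := fun x => Iff.rfl
    have hdT₂ : d ∉ T₂ := hb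
    clear_value d
    have hT₂P : T₂ ≤ (P : Subgroup G) := fun x hx => (hP.mem_iff b x).1 (hTP ((hm x).1 hx))
    have htwo₂ : ∀ x ∈ (P : Subgroup G), ∀ y ∈ (P : Subgroup G), x ∉ T₂ → y ∉ T₂ → x * y ∈ T₂ := by
      intro x hx y hy hxn hyn
      rw [hm, smul_mul']
      exact htwo _ (hP b x hx) _ (hP b y hy) hxn hyn
    have hdinv : d⁻¹ ∈ (P : Subgroup G) ∧ d⁻¹ ∉ T₂ :=
      ⟨inv_mem (hTP hdTm), fun h => hdT₂ (by simpa using inv_mem h)⟩
    -- the derived groups agree
    set D := ⁅T, T⁆ with hD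
    have hDle : D ≤ ⁅T₂, T₂⁆ := commutator_le.2 fun a ha c hc => by
      have key : ∀ x ∈ T, ∃ x' ∈ T, x' ∈ T₂ ∧ ∀ y ∈ T, ⁅x, y⁆ = ⁅x', y⁆ ∧ ⁅y, x⁆ = ⁅y, x'⁆ := by
        intro x hx
        by_cases hx2 : x ∈ T₂
        · exact ⟨x, hx, hx2, fun y _ => ⟨rfl, rfl⟩⟩
        refine ⟨d⁻¹ * x, mul_mem (inv_mem hdTm) hx, htwo₂ _ hdinv.1 _ (hTP hx) hdinv.2 hx2,
          fun y hy => ?_⟩
        have cx : ∀ z ∈ T, z * d⁻¹ = d⁻¹ * z := fun z hz =>
          (Commute.inv_right (hdZ z hz : Commute z d)).eq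
        constructor
        · rw [commutatorElement_def, commutatorElement_def, mul_inv_rev, inv_inv]
          calc x * y * x⁻¹ * y⁻¹ = x * y * x⁻¹ * (d⁻¹ * d) * y⁻¹ := by group
            _ = (x * y * x⁻¹) * d⁻¹ * d * y⁻¹ := by group
            _ = d⁻¹ * (x * y * x⁻¹) * d * y⁻¹ := by
              rw [cx _ (mul_mem (mul_mem hx hy) (inv_mem hx))]
            _ = d⁻¹ * x * y * (x⁻¹ * d) * y⁻¹ := by group
        · rw [commutatorElement_def, commutatorElement_def, mul_inv_rev, inv_inv]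
          calc y * x * y⁻¹ * x⁻¹ = y * x * y⁻¹ * x⁻¹ * d⁻¹ * d := by group
            _ = d⁻¹ * (y * x * y⁻¹ * x⁻¹) * d := by
              rw [cx _ (mul_mem (mul_mem (mul_mem hy hx) (inv_mem hy)) (inv_mem hx))]
            _ = d⁻¹ * y * (x * y⁻¹ * (x⁻¹ * d)) := by group
            _ = y * d⁻¹ * (x * y⁻¹ * (x⁻¹ * d)) := by rw [cx y hy]
            _ = y * (d⁻¹ * x) * y⁻¹ * (x⁻¹ * d) := by group
      obtain ⟨a', ha'T, ha', haeq⟩ := key a ha
      obtain ⟨c', hc'T, hc', hceq⟩ := key c hc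
      rw [(haeq c hc).1, (hceq a' ha'T).2]
      exact commutator_mem_commutator ha' hc'
    have hmapT₂ : T₂.map f = T := map_comap_eq_self_of_surjective
      (MulEquiv.surjective (MulDistribMulAction.toMulAut A G b)) T
    have hmapD₂ : (⁅T₂, T₂⁆).map f = D := by rw [map_commutator, hmapT₂]
    have hD2 : D = ⁅T₂, T₂⁆ := eq_of_le_of_card_ge hDle (by
      rw [← hmapD₂, card_map_of_injective (f := f) (MulEquiv.injective _)])
    have hDb : ∀ x ∈ D, b • x ∈ D := fun x hx => by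
      rw [← hmapD₂, ← hfa]
      exact mem_map_of_mem _ (hD2 ▸ hx)
    -- the intersection
    have hcomm : ∀ y ∈ T, y ∈ T₂ → ∀ p ∈ (P : Subgroup G), ⁅y, p⁆ ∈ D := by
      intro y hy hy2 p hp
      by_cases hp2 : p ∈ T₂
      · rw [hD2]; exact commutator_mem_commutator hy2 hp2
      · have h1 := htwo₂ _ hdinv.1 _ hp hdinv.2 hp2
        have h2 : ⁅y, d⁻¹ * p⁆ ∈ D := by rw [hD2]; exact commutator_mem_commutator hy2 h1
        have hz := (comm_mem P hc2 (hTP hy) (mul_mem hdinv.1 hp)).2 d (hTP hdTm)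
        rw [show ⁅y, p⁆ = d * ⁅y, d⁻¹ * p⁆ * d⁻¹ from ?_, hz, mul_inv_cancel_right]
        · exact h2
        · have c1 := hdZ y hy
          rw [commutatorElement_def, commutatorElement_def, mul_inv_rev, inv_inv]
          calc y * p * y⁻¹ * p⁻¹ = y * d * (d⁻¹ * p * y⁻¹ * (p⁻¹ * d)) * d⁻¹ := by group
            _ = d * y * (d⁻¹ * p * y⁻¹ * (p⁻¹ * d)) * d⁻¹ := by rw [c1]
            _ = d * (y * (d⁻¹ * p) * y⁻¹ * (p⁻¹ * d)) * d⁻¹ := by group
    have hDΦ : ∀ (x : T), (x : G) ∈ D → x ∈ frattini T := fun x hx => by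
      rw [hD, ← Subgroup.map_subtype_commutator] at hx
      obtain ⟨y, hy, hxy⟩ := hx
      rw [← Subtype.ext hxy]
      exact Cfsg.Lib.PGroup.commutator_le_frattini (P.2.to_le hTP) hy
    have hnotD : ∀ y ∈ (P : Subgroup G), (∀ p ∈ T, ⁅y, p⁆ ∈ D) → y ∈ T := by
      intro y hy h
      by_contra hyT
      refine hker y hy hyT ⟨y, hPN hy⟩ rfl (act_eq_one.2 fun p => hDΦ _ ?_)
      simp only [Subgroup.coe_mul, Subgroup.coe_inv, coe_aut]
      rw [show (p : G)⁻¹ * (y * p * y⁻¹) = (p : G)⁻¹ * ⁅y, (p : G)⁆ * p by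
        rw [commutatorElement_def]; group]
      have := (comm_mem P hc2 hy (hTP p.2)).2 (p : G) (hTP p.2)
      rw [mul_assoc, ← this, inv_mul_cancel_left]
      exact h p p.2
    -- `3` divides the order of `G`
    obtain ⟨s, hs2, hsT⟩ : ∃ s ∈ T₂, s ∉ T := by
      by_contra hno
      push Not at hno
      refine hdT₂ ((eq_of_le_of_card_ge hno ?_).ge hdTm)
      conv_lhs => rw [← hmapT₂]
      rw [card_map_of_injective (f := f) (MulEquiv.injective _)]
    have h3G : 3 ∣ Nat.card G := by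
      refine hthree s (hT₂P hs2) hsT (T₂.subgroupOf T) (le_of_eq (index_eq_two_iff_exists_notMem_and.2
        ⟨⟨d, hdTm⟩, hdT₂, fun y => ?_⟩)) ?_
      · by_cases hy : (y : G) ∈ T₂
        · exact Or.inr hy
        · exact Or.inl (htwo₂ _ (hTP y.2) _ (hTP hdTm) hy hdT₂)
      · intro y hy k hk
        refine hDΦ _ ?_
        simp only [Subgroup.coe_mul, Subgroup.coe_inv, coe_aut, hk]
        rw [show (y : G)⁻¹ * (s * y * s⁻¹) = ⁅(y : G)⁻¹, s⁆ by rw [commutatorElement_def]; group]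
        exact hcomm _ (inv_mem y.2) (inv_mem hy) s (hT₂P hs2)
    have h6 : (Nat.card A).Coprime (2 * 3) := hAodd.mul_right (hcop.coprime_dvd_right h3G)
    -- the three subgroups
    set W := (P : Subgroup G) with hW
    let e : MulAut W :=
      { toFun := fun x => ⟨b • (x : G), hP b _ x.2⟩
        invFun := fun x => ⟨b⁻¹ • (x : G), hP b⁻¹ _ x.2⟩
        left_inv := fun x => Subtype.ext (inv_smul_smul b _)
        right_inv := fun x => Subtype.ext (smul_inv_smul b _)
        map_mul' := fun x y => Subtype.ext (smul_mul' b _ _) }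
    have he : ∀ (m : ℕ) (x : W), (((e ^ m) x : W) : G) = b ^ m • (x : G) := by
      intro m
      induction m with
      | zero => intro x; simp
      | succ m ih =>
        intro x
        rw [pow_succ', MulAut.mul_apply, pow_succ', mul_smul, ← ih]
        rfl
    set F := (T ⊓ T₂).subgroupOf W with hF
    haveI : F.Normal := (normal_subgroupOf_iff_le_normalizer (inf_le_left.trans hTP)).2
      (le_normalizer_of_center_le P hc2 (le_inf hZT fun z hz => (hm z).2 (hZT ⟨hP b z hz.1, fun y hy => by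
        obtain ⟨y', rfl⟩ : ∃ y', b • y' = y := ⟨b⁻¹ • y, smul_inv_smul b y⟩
        rw [← smul_mul', ← smul_mul', hz.2 y' ((hP.mem_iff b y').1 hy)]⟩)) (inf_le_left.trans hTP))
    have hFi : F.index ≤ 4 := by
      refine (index_inf_le (H := T.subgroupOf W) (K := T₂.subgroupOf W)).trans' (le_of_eq ?_) |>.trans ?_
      · rw [hF]; rfl
      · have h1 : (T.subgroupOf W).index = 2 := index_eq_two_iff_exists_notMem_and.2
          ⟨⟨s0, hs0⟩, hs0T, fun y => by
            by_cases hy : (y : G) ∈ T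
            · exact Or.inr hy
            · exact Or.inl (htwo _ y.2 _ hs0 hy hs0T)⟩
        have h2 : (T₂.subgroupOf W).index = 2 := index_eq_two_iff_exists_notMem_and.2
          ⟨⟨d, hTP hdTm⟩, hdT₂, fun y => by
            by_cases hy : (y : G) ∈ T₂
            · exact Or.inr hy
            · exact Or.inl (htwo₂ _ y.2 _ (hTP hdTm) hy hdT₂)⟩
        rw [h1, h2]
    have hFe : ∀ y ∈ F, e y ∈ F := by
      rintro y ⟨hy, hy2⟩
      refine ⟨hy2, (hm _).2 (hnotD _ (hP b _ (hP b _ y.2)) fun p hp => ?_)⟩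
      obtain ⟨p', rfl⟩ : ∃ p', b • b • p' = p := ⟨b⁻¹ • b⁻¹ • p, by simp⟩
      have hp' : p' ∈ W := (hP.mem_iff b p').1 ((hP.mem_iff b _).1 (hTP hp))
      show ⁅b • (b • (y : G)), b • b • p'⁆ ∈ D
      rw [show ⁅b • b • (y : G), b • b • p'⁆ = b • b • ⁅(y : G), p'⁆ by
        simp only [commutatorElement_def, smul_mul', smul_inv']]
      exact hDb _ (hDb _ (hcomm _ hy hy2 _ hp'))
    have hfin := mem_of_coprime_six F hFi e hFe h6 (fun w => by
      have : (e ^ Nat.card A) w = w := Subtype.ext (by rw [he, pow_card_eq_one', one_smul])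
      rw [this, inv_mul_cancel]; exact one_mem F) ⟨d, hTP hdTm⟩
    have h7 : d⁻¹ * b • d ∈ T := (mem_inf.1 hfin).1
    exact hb (by simpa using mul_mem hdTm h7)
  -- the intersection of the conjugates
  set R := ⨅ b : A, T.comap (MulDistribMulAction.toMulAut A G b).toMonoidHom with hR
  have hRm : ∀ x, x ∈ R ↔ ∀ b : A, b • x ∈ T := fun x => by
    rw [hR, mem_iInf]; rfl
  have hRT : R ≤ T := fun x hx => by simpa using (hRm x).1 hx 1
  have hRA : AInv A R := fun a x hx => (hRm _).2 fun b => by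
    rw [← mul_smul]; exact (hRm x).1 hx _
  have hZR : (P : Subgroup G) ⊓ centralizer ((P : Subgroup G) : Set G) ≤ R := fun z hz =>
    (hRm z).2 fun b => hZT ⟨hP b z hz.1, fun y hy => by
      obtain ⟨y', rfl⟩ : ∃ y', b • y' = y := ⟨b⁻¹ • y, smul_inv_smul b y⟩
      rw [← smul_mul', ← smul_mul', hz.2 y' ((hP.mem_iff b y').1 hy)]⟩
  have hgR : g ∈ normalizer (R : Set G) := by
    refine mem_normalizer_iff_map_conj_eq.2 (eq_of_le_of_card_ge ?_
      (card_map_of_injective (f := (MulAut.conj g).toMonoidHom) (MulAut.conj g).injective).ge)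
    rintro _ ⟨x, hx, rfl⟩
    show g * x * g⁻¹ ∈ R
    rw [show g * x * g⁻¹ = x * (x⁻¹ * (g * x * g⁻¹)) by group]
    exact mul_mem hx ((hRm _).2 fun b => hall b x (hRT hx))
  refine hgC fun t ht => ?_
  set d := t⁻¹ * (g * t * g⁻¹) with hd
  have hdR : d ∈ R := (hRm _).2 fun b => hall b t ht
  suffices hd1 : d = 1 by
    rw [hd, inv_mul_eq_one, eq_mul_inv_iff_mul_eq] at hd1
    exact hd1
  by_contra hd1
  have hR1 : R ≠ ⊥ := fun e => hd1 (mem_bot.1 (e ▸ hdR))
  have hgRC := mem_centralizer_of_npc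
    (hN R hR1 (hRT.trans hTP) hRA (le_normalizer_of_center_le P hc2 hZR (hRT.trans hTP)))
    le_normalizer (P.2.to_le (hRT.trans hTP)) hgR hgR hgo
  have hgd : g * d = d * g := (hgRC d hdR).symm
  have hpow : ∀ m : ℕ, g ^ m * t * (g ^ m)⁻¹ = t * d ^ m := by
    intro m
    induction m with
    | zero => simp
    | succ m ih =>
      calc g ^ (m + 1) * t * (g ^ (m + 1))⁻¹ = g * (g ^ m * t * (g ^ m)⁻¹) * g⁻¹ := by
            rw [pow_succ']; group
        _ = g * t * g⁻¹ * (g * d ^ m * g⁻¹) := by rw [ih]; group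
        _ = t * d * d ^ m := by
            rw [(show Commute g d from hgd).pow_right m |>.eq, mul_inv_cancel_right, hd]; group
        _ = t * d ^ (m + 1) := by rw [pow_succ']; group
  have hdm : d ^ orderOf g = 1 := by
    have := hpow (orderOf g)
    rw [pow_orderOf_eq_one, inv_one, one_mul, mul_one] at this
    exact left_eq_mul.1 this
  obtain ⟨j, hj⟩ := (P.2.to_le (hRT.trans hTP)) ⟨d, hdR⟩
  refine hd1 (eq_one_of_odd (Nat.Coprime.coprime_dvd_left (orderOf_dvd_of_pow_eq_one hdm) hgo)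
    (k := j) ?_)
  exact congrArg Subtype.val hj

end Cfsg.Lib.FTCons.ClassTwo
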