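import Cfsg.Agent.Lib.FTCons.AutSylow
import Cfsg.Agent.Lib.Fusion.MaxPNilpotent
import Mathlib.GroupTheory.Sylow

/-!
# Conjugacy of complements of coprime order

Complements of coprime order are conjugate when one of the two parts is solvable, hence always,
given that groups of odd order are solvable.
-/

set_option autoImplicit false
set_option linter.style.haveILetI false

namespace Cfsg.Lib.FTCons

open Subgroup
open scoped Pointwise commutatorElement

universe u

variable {G : Type u} [Group G]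

theorem mem_sup_mul {N A : Subgroup G} (h : A ≤ normalizer (N : Set G)) {x : G} (hx : x ∈ N ⊔ A) :
    ∃ n ∈ N, ∃ a ∈ A, n * a = x := by
  have : x ∈ ((N ⊔ A : Subgroup G) : Set G) := hx
  rw [Subgroup.coe_mul_of_right_le_normalizer_left N A h] at this
  obtain ⟨n, hn, a, ha, e⟩ := Set.mem_mul.1 this
  exact ⟨n, hn, a, ha, e⟩

theorem le_normalizer_of_conj_mem {X B : Subgroup G} (h : ∀ g ∈ X, ∀ b ∈ B, g * b * g⁻¹ ∈ B) :
    X ≤ normalizer (B : Set G) := fun g hg => mem_normalizer_iff.2 fun b =>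
  ⟨h g hg b, fun hb => by simpa [mul_assoc] using h g⁻¹ (inv_mem hg) _ hb⟩

/-- Two subgroups that are complements of `N` in the same subgroup. -/
theorem card_le_and_sup [Finite G] {N X Y : Subgroup G} (hY : Y ≤ normalizer (N : Set G))
    (hle : X ≤ N ⊔ Y) (hX : N ⊓ X = ⊥) :
    Nat.card X ≤ Nat.card Y ∧ (Nat.card Y ≤ Nat.card X → Y ≤ N ⊔ X) := by
  choose n hn a ha he using fun x : X => mem_sup_mul hY (hle x.2)
  have hinj : Function.Injective fun x : X => (⟨a x, ha x⟩ : Y) := by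
    intro x y hxy
    have hxy' : a x = a y := congrArg Subtype.val hxy
    have h : (x : G) * (y : G)⁻¹ ∈ N ⊓ X := by
      refine mem_inf.2 ⟨?_, mul_mem x.2 (inv_mem y.2)⟩
      rw [← he x, ← he y, hxy']
      simpa [mul_assoc] using mul_mem (hn x) (inv_mem (hn y))
    rw [hX, mem_bot, mul_inv_eq_one] at h
    exact Subtype.ext h
  refine ⟨Nat.card_le_card_of_injective _ hinj, fun hc y hy => ?_⟩
  have hbij := hinj.bijective_of_nat_card_le hc
  obtain ⟨x, hx⟩ := hbij.2 ⟨y, hy⟩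
  have hax : a x = y := congrArg Subtype.val hx
  have : y = (n x)⁻¹ * (x : G) := by rw [eq_inv_mul_iff_mul_eq, ← hax, he]
  rw [this]
  exact mul_mem_sup (inv_mem (hn x)) x.2

theorem inf_eq_bot_of_coprime' {N X : Subgroup G} (h : (Nat.card N).Coprime (Nat.card X)) : N ⊓ X = ⊥ :=
  Subgroup.eq_bot_of_card_eq _ (Nat.eq_one_of_dvd_coprimes h (card_dvd_of_le inf_le_left)
    (card_dvd_of_le inf_le_right))

/-- An element of prime power order outside a given proper subgroup. -/
theorem exists_primePow_not_mem {A : Type*} [Group A] [Finite A] {B : Subgroup A} (hB : B ≠ ⊤) :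
    ∃ q k : ℕ, q.Prime ∧ ∃ x : A, x ∉ B ∧ x ^ (q ^ k) = 1 := by
  by_contra hcon
  push Not at hcon
  apply hB
  refine Subgroup.eq_top_of_le_card B (Nat.le_of_dvd Nat.card_pos ?_)
  rw [Nat.dvd_iff_prime_pow_dvd_dvd]
  intro q k hq hd
  haveI := Fact.mk hq
  obtain ⟨P, hP⟩ := Sylow.exists_subgroup_card_pow_prime (G := A) q hd
  have hle : P ≤ B := fun x hx => by
    by_contra hxB
    refine hcon q k hq x hxB ?_
    have := congrArg Subtype.val (pow_card_eq_one' (x := (⟨x, hx⟩ : P)))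
    rwa [hP] at this
  exact hP ▸ card_dvd_of_le hle

variable [Finite G]

/-- An element of prime power order in a coprime extension is conjugate into the complement. -/
theorem exists_conj_mem_compl {N A : Subgroup G} (hA : A ≤ normalizer (N : Set G))
    (hcop : (Nat.card N).Coprime (Nat.card A)) {y : G} (hy : y ∈ N ⊔ A) {q k : ℕ} (hq : q.Prime)
    (hy1 : y ^ q ^ k = 1) (hdvd : y ≠ 1 → q ∣ Nat.card A) :
    ∃ n ∈ N, n⁻¹ * y * n ∈ A := by
  classical
  by_cases hy0 : y = 1
  · exact ⟨1, one_mem _, by simp [hy0]⟩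
  haveI := Fact.mk hq
  have hqN : ¬ q ∣ Nat.card N := fun h => hq.not_dvd_one (hcop ▸ Nat.dvd_gcd h (hdvd hy0))
  set L : Subgroup G := N ⊔ A with hL
  have hNA := inf_eq_bot_of_coprime' hcop
  have hcard : Nat.card L = Nat.card N * Nat.card A := by
    rw [← Nat.card_prod]
    refine (Nat.card_congr (Equiv.ofBijective
      (fun x : N × A => (⟨(x.1 : G) * x.2, mul_mem_sup x.1.2 x.2.2⟩ : L)) ⟨?_, ?_⟩)).symm
    · rintro ⟨n, a⟩ ⟨n', a'⟩ h
      have h' : (n : G) * a = n' * a' := congrArg Subtype.val h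
      have hm : (n' : G)⁻¹ * n ∈ N ⊓ A := by
        refine mem_inf.2 ⟨mul_mem (inv_mem n'.2) n.2, ?_⟩
        rw [show (n' : G)⁻¹ * n = a' * (a : G)⁻¹ by
          rw [eq_mul_inv_iff_mul_eq, mul_assoc, h', inv_mul_cancel_left]]
        exact mul_mem a'.2 (inv_mem a.2)
      rw [hNA, mem_bot, inv_mul_eq_one] at hm
      obtain rfl : n = n' := Subtype.ext hm.symm
      exact Prod.ext rfl (Subtype.ext (mul_left_cancel h'))
    · rintro ⟨x, hx⟩
      obtain ⟨n, hn, a, ha, e⟩ := mem_sup_mul hA hx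
      exact ⟨(⟨n, hn⟩, ⟨a, ha⟩), Subtype.ext e⟩
  obtain ⟨P⟩ : Nonempty (Sylow q A) := inferInstance
  have hcardP : Nat.card ((P : Subgroup A).map (inclusion (le_sup_right : A ≤ L))) =
      q ^ (Nat.card L).factorization q := by
    rw [card_map_of_injective (inclusion_injective _), P.card_eq_multiplicity, hcard,
      Nat.factorization_mul Nat.card_pos.ne' Nat.card_pos.ne']
    simp [Nat.factorization_eq_zero_of_not_dvd hqN]
  let P' : Sylow q L := Sylow.ofCard _ hcardP
  have hyp : IsPGroup q (zpowers (⟨y, hy⟩ : L)) := by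
    intro z
    obtain ⟨i, hi⟩ := mem_zpowers_iff.1 z.2
    refine ⟨k, Subtype.ext ?_⟩
    have h1 : (⟨y, hy⟩ : L) ^ q ^ k = 1 := Subtype.ext hy1
    rw [SubmonoidClass.coe_pow, ← hi, ← zpow_natCast, ← zpow_mul, mul_comm, zpow_mul, zpow_natCast, h1,
      one_zpow]
    rfl
  obtain ⟨Q, hQ⟩ := hyp.exists_le_sylow
  obtain ⟨l, hl⟩ := MulAction.exists_smul_eq L P' Q
  have hyQ : (⟨y, hy⟩ : L) ∈ (l • P' : Sylow q L) := by rw [hl]; exact hQ (mem_zpowers _)
  have h2 : (⟨y, hy⟩ : L) ∈ (MulAut.conj l • (P' : Subgroup L)) := hyQ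
  rw [Subgroup.mem_pointwise_smul_iff_inv_smul_mem] at h2
  have h3 : l⁻¹ * ⟨y, hy⟩ * l ∈ (P' : Subgroup L) := by simpa [MulAut.smul_def] using h2
  obtain ⟨a, -, ha⟩ := h3
  obtain ⟨n, hn, b, hb, e⟩ := mem_sup_mul hA l.2
  refine ⟨n, hn, ?_⟩
  have h4 : (l : G)⁻¹ * y * (l : G) ∈ A := by
    have := congrArg Subtype.val ha
    simp only [Subgroup.coe_mul, Subgroup.coe_inv] at this
    exact this ▸ a.2
  rw [show n⁻¹ * y * n = b * ((l : G)⁻¹ * y * l) * b⁻¹ by rw [← e]; group]
  exact mul_mem (mul_mem hb h4) (inv_mem hb)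

/-- Complements of coprime order are conjugate when they are solvable. -/
theorem conj_compl_of_solvable_compl : ∀ (m : ℕ) (N A₀ A₁ : Subgroup G), Nat.card A₀ ≤ m →
    Group.IsSolvable A₀ → A₀ ≤ normalizer (N : Set G) → A₁ ≤ normalizer (N : Set G) → A₀ ≤ N ⊔ A₁ →
    Nat.card A₁ = Nat.card A₀ → (Nat.card N).Coprime (Nat.card A₀) →
    ∃ x ∈ N, A₀.map (MulAut.conj x).toMonoidHom = A₁ := by
  intro m
  induction m with
  | zero => intro N A₀ A₁ h; exact absurd h (by have := Nat.card_pos (α := A₀); omega)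
  | succ m ih =>
    intro N A₀ A₁ hm hsol hn₀ hn₁ hle hc hcop
    rcases eq_or_ne A₀ ⊥ with rfl | hne
    · refine ⟨1, one_mem _, ?_⟩
      rw [Subgroup.map_bot, eq_comm]
      exact Subgroup.eq_bot_of_card_eq _ (by rw [hc, card_bot])
    haveI := hsol
    haveI : Nontrivial A₀ := (nontrivial_iff_ne_bot A₀).2 hne
    obtain ⟨B, hB, hcomm⟩ : ∃ B : Subgroup A₀, IsCoatom B ∧ commutator A₀ ≤ B := by
      rcases eq_top_or_exists_le_coatom (commutator A₀) with h | ⟨B, hB, hle'⟩
      · exact absurd h (Group.IsSolvable.commutator_lt_top_of_nontrivial A₀).ne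
      · exact ⟨B, hB, hle'⟩
    have hBn : ∀ b ∈ B, ∀ g : A₀, g * b * g⁻¹ ∈ B := fun b hb g => by
      rw [show g * b * g⁻¹ = ⁅g, b⁆ * b by simp [commutatorElement_def]]
      exact mul_mem (hcomm (commutator_mem_commutator (mem_top g) (mem_top b))) hb
    obtain ⟨q, k, hq, x, hxB, hxk⟩ := exists_primePow_not_mem hB.1
    set Bs : Subgroup G := B.map A₀.subtype with hBs
    have hBsA : Bs ≤ A₀ := map_subtype_le B
    have hBslt : Nat.card Bs < Nat.card A₀ := by
      rw [hBs, card_map_of_injective A₀.subtype_injective]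
      exact lt_of_le_of_ne (Nat.card_le_card_of_injective _ Subtype.val_injective)
        fun h => hB.1 (eq_top_of_card_eq B h)
    set B₁ : Subgroup G := (N ⊔ Bs) ⊓ A₁ with hB₁
    have hN₀ := inf_eq_bot_of_coprime' hcop
    have hN₁ : N ⊓ A₁ = ⊥ := inf_eq_bot_of_coprime' (hc ▸ hcop)
    have hBsn : Bs ≤ normalizer (N : Set G) := hBsA.trans hn₀
    have hB₁n : B₁ ≤ normalizer (N : Set G) := inf_le_right.trans hn₁
    have hBsle : Bs ≤ N ⊔ B₁ := fun b hb => by
      obtain ⟨n, hn, a, ha, e⟩ := mem_sup_mul hn₁ (hle (hBsA hb))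
      rw [← e]
      refine mul_mem_sup hn (mem_inf.2 ⟨?_, ha⟩)
      rw [show a = n⁻¹ * b by rw [← e, inv_mul_cancel_left]]
      exact mul_mem_sup (inv_mem hn) hb
    have hcB : Nat.card B₁ = Nat.card Bs := le_antisymm
      (card_le_and_sup hBsn inf_le_left (eq_bot_iff.2 (hN₁ ▸ inf_le_inf_left N inf_le_right))).1
      (card_le_and_sup hB₁n hBsle (eq_bot_iff.2 (hN₀ ▸ inf_le_inf_left N hBsA))).1
    obtain ⟨c, hcN, hcB₁⟩ := ih N Bs B₁ (by omega)
      (solvable_of_solvable_injective (f := inclusion hBsA) (inclusion_injective _))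
      hBsn hB₁n hBsle hcB (hcop.coprime_dvd_right (card_dvd_of_le hBsA))
    set A' : Subgroup G := A₀.map (MulAut.conj c).toMonoidHom with hA'
    have hA'c : Nat.card A' = Nat.card A₀ := card_map_of_injective (MulAut.conj c).injective
    have hA'n : A' ≤ normalizer (N : Set G) := by
      rintro _ ⟨a, ha, rfl⟩
      exact mul_mem (mul_mem (le_normalizer hcN) (hn₀ ha)) (inv_mem (le_normalizer hcN))
    have hA'le : A' ≤ N ⊔ A₁ := by
      rintro _ ⟨a, ha, rfl⟩
      exact mul_mem (mul_mem (mem_sup_left hcN) (hle ha)) (inv_mem (mem_sup_left hcN))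
    have hA₁le : A₁ ≤ N ⊔ A' :=
      (card_le_and_sup hn₁ hA'le (inf_eq_bot_of_coprime' (hA'c ▸ hcop))).2 (by rw [hA'c, hc])
    have hBN : N ⊔ Bs = N ⊔ B₁ := le_antisymm (sup_le le_sup_left hBsle) (sup_le le_sup_left inf_le_left)
    have hA'B : A' ≤ normalizer (B₁ : Set G) := by
      rw [hA', ← hcB₁]
      apply le_normalizer_of_conj_mem
      rintro _ ⟨a, ha, rfl⟩ _ ⟨b, ⟨b', hb', rfl⟩, rfl⟩
      refine ⟨a * b' * a⁻¹, ⟨⟨a, ha⟩ * b' * ⟨a, ha⟩⁻¹, hBn b' hb' _, rfl⟩, ?_⟩
      simp [MulAut.conj_apply, mul_assoc]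
    have hA₁B : A₁ ≤ normalizer (B₁ : Set G) := by
      have hA'N : A' ≤ normalizer ((N ⊔ B₁ : Subgroup G) : Set G) := le_trans (le_inf hA'n hA'B)
        (normalizer_inf_normalizer_le_normalizer_sup N B₁)
      have hNN : N ≤ normalizer ((N ⊔ B₁ : Subgroup G) : Set G) :=
        le_trans le_sup_left le_normalizer
      have h1 : A₁ ≤ normalizer ((N ⊔ B₁ : Subgroup G) : Set G) := hA₁le.trans (sup_le hNN hA'N)
      have h2 : B₁ = (N ⊔ B₁) ⊓ A₁ := by rw [← hBN]
      intro a ha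
      rw [h2]
      exact inf_normalizer_le_normalizer_inf (mem_inf.2 ⟨h1 ha, le_normalizer ha⟩)
    have hy : MulAut.conj c (x : G) ∈ A' := ⟨x, x.2, rfl⟩
    set y : G := MulAut.conj c (x : G) with hydef
    set N₁ : Subgroup G := N ⊓ normalizer (B₁ : Set G) with hN₁def
    have hA₁N₁ : A₁ ≤ normalizer (N₁ : Set G) := fun a ha =>
      inf_normalizer_le_normalizer_inf (mem_inf.2 ⟨hn₁ ha, le_normalizer (hA₁B ha)⟩)
    have hyL : y ∈ N₁ ⊔ A₁ := by
      obtain ⟨n, hn, a, ha, e⟩ := mem_sup_mul hn₁ (hA'le hy)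
      rw [← e]
      refine mul_mem_sup (mem_inf.2 ⟨hn, ?_⟩) ha
      rw [show n = y * a⁻¹ by rw [← e, mul_inv_cancel_right]]
      exact mul_mem (hA'B hy) (inv_mem (hA₁B ha))
    have hyk : y ^ q ^ k = 1 := by
      rw [hydef, ← map_pow, ← SubmonoidClass.coe_pow, hxk, OneMemClass.coe_one, map_one]
    obtain ⟨n, hn, hny⟩ := exists_conj_mem_compl hA₁N₁
      ((hc ▸ hcop).coprime_dvd_left (card_dvd_of_le inf_le_left)) hyL hq hyk (fun _ => by
        have hx1 : orderOf x ∣ q ^ k := orderOf_dvd_of_pow_eq_one hxk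
        obtain ⟨i, -, hi⟩ := (Nat.dvd_prime_pow hq).1 hx1
        have hi0 : i ≠ 0 := fun h => by
          rw [h, pow_zero, orderOf_eq_one_iff] at hi
          exact hxB (hi ▸ one_mem B)
        rw [hc]
        exact (dvd_pow_self q hi0).trans (hi ▸ orderOf_dvd_natCard x))
    refine ⟨n⁻¹ * c, mul_mem (inv_mem (mem_inf.1 hn).1) hcN,
      eq_of_le_of_card_ge ?_ (by rw [card_map_of_injective (MulAut.conj _).injective, hc])⟩
    have htop : B ⊔ zpowers x = ⊤ := hB.2 _ (lt_of_le_of_ne le_sup_left fun h =>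
      hxB (h ▸ mem_sup_right (mem_zpowers x)))
    have hA₀ : A₀ = Bs ⊔ zpowers (x : G) := by
      have := congrArg (fun H : Subgroup A₀ => H.map A₀.subtype) htop
      simp only [Subgroup.map_sup, MonoidHom.map_zpowers] at this
      rw [← MonoidHom.range_eq_map, Subgroup.range_subtype] at this
      exact this.symm
    rw [hA₀, Subgroup.map_sup, sup_le_iff, MonoidHom.map_zpowers, zpowers_le]
    constructor
    · rintro _ ⟨b, hb, rfl⟩
      have hb1 : c * b * c⁻¹ ∈ B₁ := hcB₁ ▸ ⟨b, hb, rfl⟩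
      refine (mem_inf.1 (show MulAut.conj (n⁻¹ * c) b ∈ B₁ from ?_)).2
      have := (mem_normalizer_iff'.1 (inv_mem (mem_inf.1 hn).2)) 
      rw [map_mul, MulAut.mul_apply, MulAut.conj_apply]
      exact (mem_normalizer_iff.1 (inv_mem (mem_inf.1 hn).2) _).1 hb1
    · show MulAut.conj (n⁻¹ * c) (x : G) ∈ A₁
      rw [map_mul, MulAut.mul_apply, ← hydef, MulAut.conj_apply, inv_inv]
      exact hny

omit [Finite G] in
/-- Complements of coprime order of a solvable normal subgroup are conjugate. -/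
theorem conj_compl_of_solvable_normal : ∀ (m : ℕ) (G : Type u) [Group G] [Finite G] (N A₀ A₁ : Subgroup G)
    [N.Normal], Nat.card N ≤ m → Group.IsSolvable N → A₀ ≤ N ⊔ A₁ → Nat.card A₁ = Nat.card A₀ →
    (Nat.card N).Coprime (Nat.card A₀) → ∃ x ∈ N, A₀.map (MulAut.conj x).toMonoidHom = A₁ := by
  intro m
  induction m with
  | zero => intro G _ _ N A₀ A₁ _ h; exact absurd h (by have := Nat.card_pos (α := N); omega)
  | succ m ih =>
    intro G _ _ N A₀ A₁ _ hm hsol hle hc hcop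
    rcases eq_or_ne N ⊥ with hN | hN
    · subst hN
      rw [bot_sup_eq] at hle
      refine ⟨1, one_mem _, ?_⟩
      rw [show (MulAut.conj (1 : G)).toMonoidHom = MonoidHom.id G by ext; simp, Subgroup.map_id]
      exact eq_of_le_of_card_ge hle hc.le
    haveI := hsol
    haveI : Nontrivial N := (nontrivial_iff_ne_bot N).2 hN
    set D : Subgroup G := ⁅N, N⁆ with hD
    haveI : D.Normal := Subgroup.commutator_normal N N
    have hDN : D ≤ N := commutator_le_self N
    have hDlt : Nat.card D < Nat.card N := by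
      refine lt_of_le_of_ne (Subgroup.card_le_of_le hDN) fun h => ?_
      haveI : Group.IsPerfect N := Subgroup.isPerfect_iff.2 (eq_of_le_of_card_ge hDN h.ge)
      exact Group.IsPerfect.not_isSolvable N inferInstance
    set f := QuotientGroup.mk' D
    haveI : (N.map f).Normal := Subgroup.Normal.map inferInstance f (QuotientGroup.mk'_surjective D)
    haveI : IsMulCommutative (N.map f) := by
      rw [← commutator_self_eq_bot_iff, ← map_commutator, Subgroup.map_eq_bot_iff, QuotientGroup.ker_mk']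
    have hN₀ := inf_eq_bot_of_coprime' hcop
    have hN₁ : N ⊓ A₁ = ⊥ := inf_eq_bot_of_coprime' (hc ▸ hcop)
    have hcardmap : ∀ A : Subgroup G, N ⊓ A = ⊥ → Nat.card (A.map f) = Nat.card A := fun A hA => by
      refine Nat.card_congr (Equiv.ofBijective (fun a : A => (⟨f a, mem_map_of_mem f a.2⟩ : A.map f))
        ⟨fun a b hab => ?_, fun ⟨_, a, ha, e⟩ => ⟨⟨a, ha⟩, Subtype.ext e⟩⟩).symm
      have h : f a = f b := congrArg Subtype.val hab
      have h2 : (a : G)⁻¹ * b ∈ N ⊓ A :=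
        mem_inf.2 ⟨hDN (QuotientGroup.eq.1 h), mul_mem (inv_mem a.2) b.2⟩
      rw [hA, mem_bot, inv_mul_eq_one] at h2
      exact Subtype.ext h2
    have hcN : Nat.card (N.map f) ∣ Nat.card N := card_map_dvd N f
    have hcop₀ : (Nat.card (N.map f)).Coprime (Nat.card (A₀.map f)) := by
      rw [hcardmap A₀ hN₀]; exact hcop.coprime_dvd_left hcN
    have hcop₁ : (Nat.card (N.map f)).Coprime (Nat.card (A₁.map f)) := by
      rw [hcardmap A₁ hN₁, hc]; exact hcop.coprime_dvd_left hcN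
    obtain ⟨nb, hnb, hconj⟩ := Cfsg.Lib.MaxPNilpotent.exists_conj_complement
      (inf_eq_bot_of_coprime' hcop₀) (inf_eq_bot_of_coprime' hcop₁)
      ((map_mono hle).trans_eq (Subgroup.map_sup N A₁ f))
      (by rw [hcardmap A₀ hN₀, hcardmap A₁ hN₁, hc]) hcop₀
    obtain ⟨n, hn, rfl⟩ := hnb
    set A' : Subgroup G := A₀.map (MulAut.conj n).toMonoidHom
    have hA'c : Nat.card A' = Nat.card A₀ := card_map_of_injective (MulAut.conj n).injective
    have hA'le : A' ≤ D ⊔ A₁ := by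
      rintro _ ⟨a, ha, rfl⟩
      have h : f (MulAut.conj n a) ∈ A₁.map f := hconj ▸ ⟨f a, mem_map_of_mem f ha, by simp⟩
      obtain ⟨b, hb, e⟩ := h
      have h2 : MulAut.conj n a * b⁻¹ ∈ D := by
        rw [← QuotientGroup.eq_one_iff]
        show f (MulAut.conj n a * b⁻¹) = 1
        rw [map_mul, map_inv, e, mul_inv_cancel]
      show MulAut.conj n a ∈ D ⊔ A₁
      rw [← inv_mul_cancel_right (MulAut.conj n a) b]
      exact mul_mem_sup h2 hb
    obtain ⟨d, hd, hd'⟩ := ih G D A' A₁ (by omega)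
      (solvable_of_solvable_injective (f := inclusion hDN) (inclusion_injective _)) hA'le
      (by rw [hA'c, hc]) (hA'c ▸ hcop.coprime_dvd_left (card_dvd_of_le hDN))
    refine ⟨d * n, mul_mem (hDN hd) hn, ?_⟩
    rw [← hd', Subgroup.map_map]
    congr 1
    ext x
    simp [mul_assoc]

/-- Complements of coprime order are conjugate, given that groups of odd order are solvable. -/
theorem conj_compl (hFT : OddSolvable.{u}) {N A₀ A₁ : Subgroup G} [N.Normal] (hle : A₀ ≤ N ⊔ A₁)
    (hc : Nat.card A₁ = Nat.card A₀) (hcop : (Nat.card N).Coprime (Nat.card A₀)) :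
    ∃ x ∈ N, A₀.map (MulAut.conj x).toMonoidHom = A₁ := by
  rcases Nat.even_or_odd (Nat.card A₀) with h | h
  · refine conj_compl_of_solvable_normal _ G N A₀ A₁ le_rfl (hFT N ?_) hle hc hcop
    rcases Nat.even_or_odd (Nat.card N) with h' | h'
    · exact absurd (hcop ▸ Nat.dvd_gcd h'.two_dvd h.two_dvd : 2 ∣ 1) (by norm_num)
    · exact h'
  · exact conj_compl_of_solvable_compl _ N A₀ A₁ le_rfl (hFT A₀ h)
      (le_normalizer_of_normal) (le_normalizer_of_normal) hle hc hcop

end Cfsg.Lib.FTCons
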