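import Cfsg.Agent.Lib.FTCons.AutSylow
import Cfsg.Agent.Lib.Invol.BaerSuzuki
import Cfsg.Agent.Lib.Core.Cores

/-!
# No coprime class sizes in any subgroup

An element inverting a nontrivial element of odd order generates with it a subgroup having a class of
2-power size and a class of odd size. Without such pairs of sizes every involution of `G / O_2(G)`
would be trivial, so `G` is solvable, given that groups of odd order are.
-/

set_option autoImplicit false
set_option linter.style.haveILetI false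

namespace Cfsg.Lib.FTCons

open Subgroup

universe u

/-- A group generated by an element of odd order and a 2-element inverting it has two classes of
coprime nontrivial sizes. -/
theorem coprime_classes_of_inverted {H : Type*} [Group H] [Finite H] {t x : H} {k : ℕ}
    (ht : orderOf t = 2 ^ k) (hx : Odd (orderOf x)) (hx1 : x ≠ 1) (htx : t * x * t⁻¹ = x⁻¹)
    (hgen : zpowers t ⊔ zpowers x = ⊤) :
    1 < (centralizer ({x} : Set H)).index ∧ 1 < (centralizer ({t} : Set H)).index ∧
      ((centralizer ({x} : Set H)).index).Coprime (centralizer ({t} : Set H)).index := by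
  have hnc : x * t ≠ t * x := fun h => hx1 (by
    have h2 : x ^ 2 = 1 := by
      rw [pow_two]; nth_rw 2 [← inv_inv x]
      rw [← htx, ← h, mul_inv_cancel_right, mul_inv_cancel]
    exact orderOf_eq_one_iff.1 (Nat.dvd_one.1
      ((Nat.coprime_two_right.2 hx).gcd_eq_one ▸ Nat.dvd_gcd dvd_rfl (orderOf_dvd_of_pow_eq_one h2))))
  have hXn : (zpowers x).Normal := by
    refine normalizer_eq_top_iff.1 (top_le_iff.1 (hgen ▸ sup_le ?_ le_normalizer))
    refine zpowers_le.2 (mem_normalizer_iff_map_conj_eq.2 ?_)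
    rw [MonoidHom.map_zpowers]
    simp [MulAut.conj_apply, htx]
  haveI := hXn
  have h1 : (zpowers x).index ∣ 2 ^ k := by
    rw [← relIndex_top_right, ← hgen, relIndex_sup_right, ← ht, ← Nat.card_zpowers]
    exact relIndex_dvd_card _ _
  have h2 : (zpowers t).index ∣ orderOf x := by
    obtain ⟨c, hc⟩ := h1
    refine ⟨c, ?_⟩
    have e1 := (zpowers t).card_mul_index
    have e2 := (zpowers x).card_mul_index
    rw [Nat.card_zpowers] at e1 e2
    apply Nat.eq_of_mul_eq_mul_left (show 0 < 2 ^ k by positivity)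
    rw [← mul_assoc, ← ht, e1, ← e2, ht, hc]; ring
  have hne : ∀ y z : H, y * z ≠ z * y → 1 < (centralizer ({y} : Set H)).index := fun y z h =>
    one_lt_index_of_ne_top fun e => h (mem_centralizer_singleton_iff.1 (e ▸ mem_top z) : z * y = y * z).symm
  refine ⟨hne x t hnc, hne t x hnc.symm, ?_⟩
  have d1 : (centralizer ({x} : Set H)).index ∣ 2 ^ k :=
    (index_dvd_of_le (zpowers_le.2 (mem_centralizer_singleton_iff.2 rfl))).trans h1
  have d2 : (centralizer ({t} : Set H)).index ∣ orderOf x :=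
    (index_dvd_of_le (zpowers_le.2 (mem_centralizer_singleton_iff.2 rfl))).trans h2
  exact Nat.Coprime.coprime_dvd_left d1 (Nat.Coprime.coprime_dvd_right d2
    (Nat.Coprime.pow_left k (Nat.coprime_two_left.2 hx)))

variable {G : Type u} [Group G] [Finite G]

/-- An inversion in a quotient by a normal 2-subgroup comes from one by a 2-element. -/
theorem exists_inverting_two_element (N : Subgroup G) [N.Normal] (hN : IsPGroup 2 N) {u h : G ⧸ N}
    {p : ℕ} [hp : Fact p.Prime] (hp2 : p ≠ 2) (hh : orderOf h = p) (huh : u * h * u⁻¹ = h⁻¹) :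
    ∃ (t x : G) (k : ℕ), orderOf t = 2 ^ k ∧ orderOf x = p ∧ t * x * t⁻¹ = x⁻¹ := by
  set M : Subgroup G := (zpowers h).comap (QuotientGroup.mk' N) with hM
  have hdvd : p ∣ Nat.card M := by
    obtain ⟨y, hy⟩ := QuotientGroup.mk_surjective h
    have h1 : orderOf h ∣ orderOf y := hy ▸ orderOf_map_dvd (QuotientGroup.mk' N) y
    have h2 : orderOf y ∣ Nat.card M :=
      Subgroup.orderOf_dvd_natCard M (by rw [hM, mem_comap, QuotientGroup.mk'_apply, hy]; exact mem_zpowers _)
    exact (hh.symm.dvd.trans h1).trans h2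
  obtain ⟨x₀, hx₀⟩ := exists_prime_orderOf_dvd_card' p hdvd
  obtain ⟨t₀, rfl⟩ := QuotientGroup.mk_surjective u
  have hcard : Nat.card M = Nat.card N * p := by
    have h3 := (N.subgroupOf M).card_mul_index
    have hNM : N ≤ M := fun n hn => by
      rw [hM, mem_comap, QuotientGroup.mk'_apply, (QuotientGroup.eq_one_iff n).2 hn]; exact one_mem _
    have h4 : N.relIndex M = p := by
      have h5 : (⊥ : Subgroup (G ⧸ N)).comap (QuotientGroup.mk' N) = N := by
        rw [MonoidHom.comap_bot, QuotientGroup.ker_mk']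
      conv_lhs => rw [← h5]
      rw [relIndex_comap, map_comap_eq_self_of_surjective (QuotientGroup.mk'_surjective N), relIndex_bot_left,
        Nat.card_zpowers, hh]
    rwa [← relIndex, h4, Nat.card_congr (subgroupOfEquivOfLe hNM).toEquiv, eq_comm] at h3
  obtain ⟨n, hn⟩ := (IsPGroup.iff_card).1 hN
  have hfac : (Nat.card M).factorization p = 1 := by
    rw [hcard, hn, Nat.factorization_mul (by positivity) hp.out.ne_zero, Nat.factorization_pow]
    simp [hp.out.factorization_self, Finsupp.single_apply, hp2.symm, Nat.prime_two.factorization]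
  have hsyl : ∀ (y : M), orderOf y = p → ∃ P : Sylow p M, (P : Subgroup M) = zpowers y := fun y hy =>
    ⟨Sylow.ofCard (zpowers y) (by rw [Nat.card_zpowers, hy, hfac, pow_one]), rfl⟩
  have hmap : QuotientGroup.mk' N (x₀ : G) ∈ zpowers h := x₀.2
  have hcj : t₀ * (x₀ : G) * t₀⁻¹ ∈ M := by
    obtain ⟨j, hj⟩ := mem_zpowers_iff.1 hmap
    show QuotientGroup.mk' N (t₀ * (x₀ : G) * t₀⁻¹) ∈ zpowers h
    rw [map_mul, map_mul, map_inv, ← hj, ← conj_zpow, QuotientGroup.mk'_apply, huh]
    exact zpow_mem (inv_mem (mem_zpowers _)) _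
  obtain ⟨P, hP⟩ := hsyl x₀ hx₀
  obtain ⟨Q, hQ⟩ := hsyl ⟨_, hcj⟩ (by
    rw [← Subgroup.orderOf_coe, ← hx₀, ← Subgroup.orderOf_coe x₀]
    exact (MulAut.conj t₀).orderOf_eq (x₀ : G))
  obtain ⟨m, hm⟩ := MulAction.exists_smul_eq M Q P
  have hmem : (m : G) * (t₀ * (x₀ : G) * t₀⁻¹) * (m : G)⁻¹ ∈ zpowers (x₀ : G) := by
    have h1 : MulAut.conj m (⟨_, hcj⟩ : M) ∈ (P : Subgroup M) := by
      rw [← hm, Sylow.coe_subgroup_smul, mem_pointwise_smul_iff_inv_smul_mem]
      simp [hQ, mul_assoc]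
    rw [hP] at h1
    obtain ⟨j, hj⟩ := mem_zpowers_iff.1 h1
    exact mem_zpowers_iff.2 ⟨j, by simpa using congrArg (M.subtype) hj⟩
  set s := (m : G) * t₀ with hs
  have hsq : QuotientGroup.mk' N s * h * (QuotientGroup.mk' N s)⁻¹ = h⁻¹ := by
    obtain ⟨i, hi⟩ := mem_zpowers_iff.1 (show QuotientGroup.mk' N (m : G) ∈ zpowers h from m.2)
    rw [hs, map_mul, ← hi, mul_inv_rev, QuotientGroup.mk'_apply]
    calc h ^ i * (t₀ : G ⧸ N) * h * ((t₀ : G ⧸ N)⁻¹ * (h ^ i)⁻¹)
        = h ^ i * ((t₀ : G ⧸ N) * h * (t₀ : G ⧸ N)⁻¹) * (h ^ i)⁻¹ := by group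
      _ = h⁻¹ := by rw [huh]; group
  have hx₀' : orderOf (x₀ : G) = p := by rw [Subgroup.orderOf_coe, hx₀]
  obtain ⟨j, hj⟩ := mem_zpowers_iff.1 hmem
  obtain ⟨i, hi⟩ := mem_zpowers_iff.1 hmap
  have hneq : QuotientGroup.mk' N (x₀ : G) ≠ 1 := fun e => by
    have h1 : orderOf (x₀ : G) ∣ Nat.card N :=
      Subgroup.orderOf_dvd_natCard N ((QuotientGroup.eq_one_iff _).1 e)
    rw [hx₀', hn] at h1
    exact hp2 ((Nat.prime_dvd_prime_iff_eq hp.out Nat.prime_two).1 (hp.out.dvd_of_dvd_pow h1))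
  have hinv : s * (x₀ : G) * s⁻¹ = (x₀ : G)⁻¹ := by
    have e0 : (x₀ : G) ^ j = s * (x₀ : G) * s⁻¹ := by rw [hj, hs]; group
    have e2 : QuotientGroup.mk' N (x₀ : G) ^ (j + 1) = 1 := by
      rw [zpow_add_one, ← map_zpow, e0, map_mul, map_mul, map_inv, ← hi, ← conj_zpow, hsq, inv_zpow, inv_mul_cancel]
    have ho : orderOf (QuotientGroup.mk' N (x₀ : G)) = orderOf (x₀ : G) := by
      rw [hx₀']
      exact ((Nat.dvd_prime hp.out).1 (hx₀' ▸ orderOf_map_dvd _ _)).resolve_left
        (fun e => hneq (orderOf_eq_one_iff.1 e))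
    rw [← orderOf_dvd_iff_zpow_eq_one, ho, orderOf_dvd_iff_zpow_eq_one, zpow_add_one] at e2
    rw [← e0, eq_inv_iff_mul_eq_one, e2]
  obtain ⟨a, c, hc, ho⟩ := Nat.exists_eq_two_pow_mul_odd (orderOf_pos s).ne'
  obtain ⟨c', rfl⟩ := hc
  refine ⟨s ^ (2 * c' + 1), x₀, a, ?_, hx₀', ?_⟩
  · rw [orderOf_pow_of_dvd (by omega) ⟨2 ^ a, by rw [ho]; ring⟩, ho, Nat.mul_div_cancel _ (by omega)]
  · have hc2 : Commute (s ^ 2) (x₀ : G) := by
      have e3 : s * (s * (x₀ : G) * s⁻¹) * s⁻¹ = (x₀ : G) := by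
        rw [hinv, show s * (x₀ : G)⁻¹ * s⁻¹ = (s * (x₀ : G) * s⁻¹)⁻¹ by group, hinv, inv_inv]
      show s ^ 2 * _ = _ * s ^ 2
      rw [pow_two]
      calc s * s * (x₀ : G) = s * (s * (x₀ : G) * s⁻¹) * s⁻¹ * (s * s) := by group
        _ = _ := by rw [e3]
    rw [pow_succ', pow_mul, mul_inv_rev, mul_assoc s, (hc2.pow_left c').eq, ← hinv]
    group

/-- If no subgroup has two noncentral classes of coprime sizes the group is solvable. -/
theorem solvable_of_no_coprime_classes (hFT : OddSolvable.{u})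
    (h : ∀ (H : Subgroup G) (x y : H), 1 < (centralizer ({x} : Set H)).index →
      1 < (centralizer ({y} : Set H)).index →
      ¬ ((centralizer ({x} : Set H)).index).Coprime (centralizer ({y} : Set H)).index) :
    Group.IsSolvable G := by
  haveI : Fact (Nat.Prime 2) := ⟨Nat.prime_two⟩
  set N := Cfsg.pCore 2 G
  haveI : N.Normal := inferInstanceAs (Cfsg.pCore 2 G).Normal
  have hN : IsPGroup 2 N := Cfsg.Lib.Core.pCore_isPGroup 2 G
  have hodd : Odd (Nat.card (G ⧸ N)) := by
    rw [← Nat.not_even_iff_odd, even_iff_two_dvd]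
    intro h2
    obtain ⟨u, hu⟩ := exists_prime_orderOf_dvd_card' 2 h2
    obtain ⟨g, hg1, hgo, hgi⟩ := Cfsg.Lib.Invol.exists_inverted_odd hu fun K hK hK2 huK => by
      haveI := hK
      have hKN : K.comap (QuotientGroup.mk' N) ≤ N := Cfsg.Lib.Core.le_pCore
        (hK2.comap_of_ker_isPGroup _ (by rwa [QuotientGroup.ker_mk']))
      obtain ⟨g, rfl⟩ := QuotientGroup.mk_surjective u
      rw [(QuotientGroup.eq_one_iff g).2 (hKN huK), orderOf_one] at hu
      omega
    obtain ⟨p, hp, hpd⟩ := Nat.exists_prime_and_dvd (mt orderOf_eq_one_iff.1 hg1)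
    haveI := Fact.mk hp
    have hp2 : p ≠ 2 := fun e => (Nat.not_even_iff_odd.2 hgo) (even_iff_two_dvd.2 (e ▸ hpd))
    obtain ⟨t, x, k, ht, hx, htx⟩ := exists_inverting_two_element N hN hp2
      (h := g ^ (orderOf g / p))
      (orderOf_pow_orderOf_div (orderOf_pos g).ne' hpd)
      (by rw [← conj_pow, hgi, inv_pow])
    set H := zpowers t ⊔ zpowers x
    let t' : H := ⟨t, mem_sup_left (mem_zpowers t)⟩
    let x' : H := ⟨x, mem_sup_right (mem_zpowers x)⟩
    obtain ⟨a, b, c⟩ := coprime_classes_of_inverted (t := t') (x := x') (k := k)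
      (by rw [← Subgroup.orderOf_coe]; exact ht) (by rw [← Subgroup.orderOf_coe, hx]; exact hp.odd_of_ne_two hp2)
      (fun e => hp.ne_one (by rw [← hx, show x = 1 from congrArg Subtype.val e, orderOf_one]))
      (Subtype.ext htx) (by
        apply map_injective H.subtype_injective
        rw [Subgroup.map_sup, MonoidHom.map_zpowers, MonoidHom.map_zpowers, ← MonoidHom.range_eq_map, range_subtype]
        rfl)
    exact h H x' t' a b c
  haveI := hFT _ hodd
  haveI : Group.IsNilpotent N := hN.isNilpotent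
  exact Group.isSolvable_of_ker_le_range N.subtype (QuotientGroup.mk' N)
    (by rw [QuotientGroup.ker_mk', range_subtype])

end Cfsg.Lib.FTCons
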