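import Cfsg.Agent.S0205
import Cfsg.Agent.Lib.FTCons.MetacyclicSylow
import Cfsg.Agent.Lib.Coprime.Action
import Cfsg.Agent.Lib.Core.PSolvable
import Cfsg.Agent.Lib.ZStar.Main
import Cfsg.Agent.Lib.Thompson.OffenderAbelian

/-!
# Groups whose Sylow 2-subgroups meet pairwise in cyclic subgroups

If such a group is not solvable and has trivial odd core, its largest normal 2-subgroup `U` is cyclic
and contains every solvable normal subgroup; it is also central. For the last point suppose that a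
2-element acts nontrivially on `U`. Such an element lies in a single Sylow subgroup, and so does every
involution other than the one in `U`. Dihedral pairs then show that all these involutions form at most
two classes differing by the involution of `U`, a Sylow subgroup has only two of them, and the
Z*-theorem modulo the central involution gives a contradiction.
-/

set_option autoImplicit false
set_option linter.style.haveILetI false

namespace Cfsg.Lib.FTCons.CyclicIntersection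

open Subgroup

universe u

variable {G : Type u} [Group G] [Finite G]

/-- Distinct Sylow 2-subgroups meet in cyclic subgroups. -/
def CycInt (G : Type u) [Group G] : Prop :=
  ∀ S T : Sylow 2 G, S ≠ T → IsCyclic ↥((S : Subgroup G) ⊓ (T : Subgroup G))

/-- In a cyclic subgroup an element lies in every subgroup whose order annihilates it. -/
theorem mem_of_pow_card {W H : Subgroup G} [IsCyclic W] (hHW : H ≤ W) {x : G} (hx : x ∈ W)
    (hxH : x ^ Nat.card H = 1) : x ∈ H := by
  classical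
  haveI := Fintype.ofFinite W
  set s := Finset.univ.filter fun w : W => w ^ Nat.card H = 1
  set t := Finset.univ.filter fun w : W => (w : G) ∈ H
  have hts : t ⊆ s := fun w hw => Finset.mem_filter.2 ⟨Finset.mem_univ _, Subtype.ext (by
    have h1 : (⟨(w : G), (Finset.mem_filter.1 hw).2⟩ : H) ^ Nat.card H = 1 := pow_card_eq_one'
    show (w : G) ^ Nat.card H = 1
    exact congrArg Subtype.val h1)⟩
  have ht : Nat.card H ≤ t.card := by
    rw [← Nat.card_eq_finsetCard]
    exact Nat.card_le_card_of_injective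
      (fun h : H => (⟨⟨h, hHW h.2⟩, Finset.mem_filter.2 ⟨Finset.mem_univ _, h.2⟩⟩ : t))
      fun h₁ h₂ e => Subtype.ext (congrArg (fun z : t => ((z : W) : G)) e)
  have hs : s.card ≤ Nat.card H := IsCyclic.card_pow_eq_one_le Nat.card_pos
  have he : t = s := Finset.eq_of_subset_of_card_le hts (hs.trans ht)
  have hmem : (⟨x, hx⟩ : W) ∈ t := he ▸ Finset.mem_filter.2 ⟨Finset.mem_univ _, Subtype.ext (by simpa using hxH)⟩
  exact (Finset.mem_filter.1 hmem).2

theorem exists_lt_of_mem_zpowers {x y : G} (h : y ∈ zpowers x) : ∃ n < orderOf x, x ^ n = y := by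
  classical
  obtain ⟨n, hn, hn'⟩ := Finset.mem_image.1 (mem_zpowers_iff_mem_range_orderOf.1 h)
  exact ⟨n, Finset.mem_range.1 hn, hn'⟩

/-- A cyclic subgroup has one involution. -/
theorem involution_unique {W : Subgroup G} [IsCyclic W] {x y : G} (hx : x ∈ W) (hy : y ∈ W)
    (hx2 : orderOf x = 2) (hy2 : orderOf y = 2) : x = y := by
  have h : y ∈ zpowers x := mem_of_pow_card (zpowers_le.2 hx) hy (by
    rw [Nat.card_zpowers, hx2, ← hy2, pow_orderOf_eq_one])
  obtain ⟨n, hn, rfl⟩ := exists_lt_of_mem_zpowers h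
  rw [hx2] at hn
  interval_cases n
  · rw [pow_zero, orderOf_one] at hy2
    exact absurd hy2 (by norm_num)
  · rw [pow_one]

theorem commute_of_cyclic {W : Subgroup G} [IsCyclic W] {x y : G} (hx : x ∈ W) (hy : y ∈ W) :
    x * y = y * x :=
  congrArg Subtype.val ((IsCyclic.isMulCommutative (α := W)).is_comm.comm ⟨x, hx⟩ ⟨y, hy⟩)

/-- Elements of odd order centralize a cyclic normal 2-subgroup. -/
theorem mem_centralizer_of_odd {U : Subgroup G} [U.Normal] [IsCyclic U] (hU : IsPGroup 2 U) {g : G}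
    (hg : Odd (orderOf g)) : g ∈ centralizer (U : Set G) := by
  haveI : Fact (Nat.Prime 2) := ⟨Nat.prime_two⟩
  obtain ⟨k, hk⟩ := hU.exists_card_eq
  have h1 : orderOf (MulAut.conjNormal g : MulAut U) ∣ orderOf g := orderOf_map_dvd _ g
  have h2 : orderOf (MulAut.conjNormal g : MulAut U) ∣ Nat.card (MulAut U) := orderOf_dvd_natCard _
  rw [IsCyclic.card_mulAut, hk] at h2
  have h3 : orderOf (MulAut.conjNormal g : MulAut U) = 1 := by
    rcases Nat.eq_zero_or_pos k with rfl | hk0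
    · simpa using h2
    · rw [Nat.totient_prime_pow Nat.prime_two hk0, show (2 : ℕ) - 1 = 1 from rfl, mul_one] at h2
      exact Nat.eq_one_of_dvd_coprimes ((Nat.coprime_two_left.2 hg).pow_left (k - 1)) h2 h1
  rw [orderOf_eq_one_iff] at h3
  refine mem_centralizer_iff.2 fun v hv => ?_
  have h4 : g * v * g⁻¹ = v := by
    have := congrArg (fun f : MulAut U => ((f ⟨v, hv⟩ : U) : G)) h3
    simpa using this
  exact (mul_inv_eq_iff_eq_mul.1 h4).symm

/-- A cyclic normal subgroup has solvable quotient by its centralizer. -/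
theorem isSolvable_of_centralizer {U : Subgroup G} [U.Normal] [IsCyclic U]
    (h : Group.IsSolvable (centralizer (U : Set G))) : Group.IsSolvable G := by
  haveI := h
  haveI : Group.IsSolvable (MulAut U) := Group.isSolvable_of_comm fun f g => by
    obtain ⟨m, hm⟩ := MonoidHom.map_cyclic f.toMonoidHom
    obtain ⟨n, hn⟩ := MonoidHom.map_cyclic g.toMonoidHom
    ext x
    simp only [MulAut.mul_apply]
    change (f.toMonoidHom (g.toMonoidHom x) : U).1 = (g.toMonoidHom (f.toMonoidHom x) : U).1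
    rw [hm (g.toMonoidHom x), hn x, hn (f.toMonoidHom x), hm x, ← zpow_mul, ← zpow_mul, mul_comm]
  refine Group.isSolvable_of_ker_le_range (centralizer (U : Set G)).subtype
    (MulAut.conjNormal (H := U)) ?_
  intro g hg
  rw [Subgroup.range_subtype]
  refine mem_centralizer_iff.2 fun v hv => ?_
  have h4 : g * v * g⁻¹ = v := by
    have := congrArg (fun f : MulAut U => ((f ⟨v, hv⟩ : U) : G)) (MonoidHom.mem_ker.1 hg)
    simpa using this
  exact (mul_inv_eq_iff_eq_mul.1 h4).symm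

theorem not_normal_sylow (hns : ¬ Group.IsSolvable G) (S : Sylow 2 G) : ¬ (S : Subgroup G).Normal := by
  intro hn
  haveI := hn
  haveI : Fact (Nat.Prime 2) := ⟨Nat.prime_two⟩
  haveI : Group.IsNilpotent (S : Subgroup G) := S.isPGroup'.isNilpotent
  haveI : Group.IsSolvable (G ⧸ (S : Subgroup G)) := Cfsg.Agent.S0205.result (by
    rw [← Subgroup.index_eq_card, Nat.odd_iff]
    have := S.not_dvd_index
    omega)
  exact hns (Group.isSolvable_of_ker_le_range (S : Subgroup G).subtype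
    (QuotientGroup.mk' (S : Subgroup G)) (by simp))

theorem exists_ne_sylow (hns : ¬ Group.IsSolvable G) (S : Sylow 2 G) : ∃ T : Sylow 2 G, T ≠ S := by
  haveI : Fact (Nat.Prime 2) := ⟨Nat.prime_two⟩
  by_contra h
  push Not at h
  haveI : Subsingleton (Sylow 2 G) := ⟨fun a b => (h a).trans (h b).symm⟩
  exact not_normal_sylow hns S S.normal_of_subsingleton

theorem eq_of_involutions (hG : CycInt G) {S T : Sylow 2 G} {x y : G} (hxS : x ∈ (S : Subgroup G))
    (hxT : x ∈ (T : Subgroup G)) (hyS : y ∈ (S : Subgroup G)) (hyT : y ∈ (T : Subgroup G))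
    (hx : orderOf x = 2) (hy : orderOf y = 2) (hne : x ≠ y) : S = T := by
  by_contra h
  haveI := hG S T h
  exact hne (involution_unique (W := (S : Subgroup G) ⊓ (T : Subgroup G)) ⟨hxS, hxT⟩ ⟨hyS, hyT⟩ hx hy)

theorem isCyclic_pCore (hG : CycInt G) (hns : ¬ Group.IsSolvable G) :
    IsCyclic ↥(Cfsg.pCore 2 G) := by
  haveI : Fact (Nat.Prime 2) := ⟨Nat.prime_two⟩
  let S : Sylow 2 G := default
  obtain ⟨T, hT⟩ := exists_ne_sylow hns S
  haveI := hG S T (Ne.symm hT)
  have hle : Cfsg.pCore 2 G ≤ (S : Subgroup G) ⊓ (T : Subgroup G) :=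
    le_inf (Cfsg.Lib.Core.pCore_le_sylow S) (Cfsg.Lib.Core.pCore_le_sylow T)
  exact isCyclic_of_injective (Subgroup.inclusion hle) (Subgroup.inclusion_injective hle)

/-- A solvable normal subgroup lies in the largest normal 2-subgroup. -/
theorem le_pCore_of_solvable (hG : CycInt G) (hO : Cfsg.oddCore G = ⊥) (hns : ¬ Group.IsSolvable G)
    (N : Subgroup G) [N.Normal] (hN : Group.IsSolvable N) : N ≤ Cfsg.pCore 2 G := by
  haveI : Fact (Nat.Prime 2) := ⟨Nat.prime_two⟩
  haveI := hN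
  have hO' : Cfsg.pPrimeCore 2 ↥N = ⊥ := by
    rw [← Subgroup.map_eq_bot_iff_of_injective _ N.subtype_injective, eq_bot_iff, ← hO]
    refine Cfsg.Lib.Core.le_pPrimeCore' inferInstance ?_
    rw [Subgroup.card_map_of_injective N.subtype_injective]
    exact Cfsg.Lib.Core.pPrimeCore_coprime 2 ↥N
  have hP : Cfsg.IsPSolvable 2 ↥N := Cfsg.Lib.Core.isPSolvable_of_isSolvable
  have hC := Cfsg.Lib.Core.centralizer_pCore_le_of_isPSolvable hP hO'
  have hle : (Cfsg.pCore 2 ↥N).map N.subtype ≤ Cfsg.pCore 2 G :=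
    Cfsg.Lib.Core.le_pCore' inferInstance ((Cfsg.Lib.Core.pCore_isPGroup 2 ↥N).map _)
  haveI := isCyclic_pCore hG hns
  haveI : IsCyclic ↥((Cfsg.pCore 2 ↥N).map N.subtype) :=
    isCyclic_of_injective (Subgroup.inclusion hle) (Subgroup.inclusion_injective hle)
  haveI : IsCyclic ↥(Cfsg.pCore 2 ↥N) := isCyclic_of_injective
    ((Cfsg.pCore 2 ↥N).equivMapOfInjective N.subtype N.subtype_injective).toMonoidHom
    (MulEquiv.injective _)
  refine Cfsg.Lib.Core.le_pCore' inferInstance (Cfsg.Lib.Local.isPGroup_of_forall_coprime fun x hx hcop => ?_)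
  have hodd : Odd (orderOf (⟨x, hx⟩ : N)) := by
    rw [← orderOf_injective N.subtype N.subtype_injective]
    exact Nat.coprime_two_left.1 hcop.symm
  obtain ⟨k, hk⟩ := (Cfsg.Lib.Core.pCore_isPGroup 2 ↥N) ⟨_, hC (mem_centralizer_of_odd
    (Cfsg.Lib.Core.pCore_isPGroup 2 ↥N) hodd)⟩
  have h1 : x ^ 2 ^ k = 1 := congrArg (fun z : Cfsg.pCore 2 ↥N => ((z : N) : G)) hk
  exact orderOf_eq_one_iff.1
    (Nat.eq_one_of_dvd_coprimes ((hcop.symm).pow_left k) (orderOf_dvd_of_pow_eq_one h1) dvd_rfl)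

omit [Finite G] in
/-- Two involutions are conjugate or have a common commuting involution in their dihedral group. -/
theorem dihedral_cases [Finite G] {a b : G} (ha : a * a = 1) (hb : b * b = 1) :
    (∃ h, h * a * h⁻¹ = b) ∨ ∃ w, w ≠ 1 ∧ w * w = 1 ∧ Commute a w ∧ Commute b w ∧
      ∃ h, h * a * h⁻¹ = a * w ∨ h * b * h⁻¹ = a * w := by
  obtain ⟨d, hd⟩ : ∃ d, d = a * b := ⟨_, rfl⟩
  have hai : a⁻¹ = a := inv_eq_of_mul_eq_one_right ha
  have hbi : b⁻¹ = b := inv_eq_of_mul_eq_one_right hb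
  have had : ∀ k : ℕ, a * d ^ k = (d ^ k)⁻¹ * a := by
    intro k
    have h1 : a * d * a⁻¹ = d⁻¹ := by rw [hd, mul_inv_rev, hai, hbi, ← mul_assoc a a b, ha, one_mul]
    rw [← inv_pow, ← h1, conj_pow, inv_mul_cancel_right]
  have hbd : ∀ k : ℕ, b * d ^ k = (d ^ k)⁻¹ * b := by
    intro k
    have h1 : b * d * b⁻¹ = d⁻¹ := by
      rw [hd, mul_inv_rev, hai, hbi, mul_assoc, mul_assoc, hb, mul_one]
    rw [← inv_pow, ← h1, conj_pow, inv_mul_cancel_right]
  have hca : ∀ k : ℕ, d ^ k * a * (d ^ k)⁻¹ = d ^ (2 * k) * a := by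
    intro k
    have h1 : a * (d ^ k)⁻¹ = d ^ k * a := by
      rw [mul_inv_eq_iff_eq_mul, mul_assoc, had, mul_inv_cancel_left]
    rw [mul_assoc, h1, ← mul_assoc, ← pow_add, two_mul]
  have hcb : ∀ k : ℕ, d ^ k * b * (d ^ k)⁻¹ = d ^ (2 * k) * b := by
    intro k
    have h1 : b * (d ^ k)⁻¹ = d ^ k * b := by
      rw [mul_inv_eq_iff_eq_mul, mul_assoc, hbd, mul_inv_cancel_left]
    rw [mul_assoc, h1, ← mul_assoc, ← pow_add, two_mul]
  have hab : a = d * b := by rw [hd, mul_assoc, hb, mul_one]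
  rcases Nat.even_or_odd (orderOf d) with ⟨m, hm⟩ | ⟨m, hm⟩
  · have hmpos : 0 < m := by have := orderOf_pos d; omega
    obtain ⟨w, hw⟩ : ∃ w, w = d ^ m := ⟨_, rfl⟩
    have hwi : w * w = 1 := by rw [hw, ← pow_add, ← hm, pow_orderOf_eq_one]
    have hwinv : w⁻¹ = w := inv_eq_of_mul_eq_one_right hwi
    have haw : a * w = w * a := by
      conv_lhs => rw [hw, had, ← hw, hwinv]
    refine Or.inr ⟨w, fun e => ?_, hwi, haw, ?_, ?_⟩
    · have := orderOf_dvd_of_pow_eq_one (hw ▸ e : d ^ m = 1)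
      have := Nat.le_of_dvd hmpos this
      omega
    · show b * w = w * b
      conv_lhs => rw [hw, hbd, ← hw, hwinv]
    · rcases Nat.even_or_odd m with ⟨i, hi⟩ | ⟨i, hi⟩
      · exact ⟨d ^ i, Or.inl (by rw [hca, two_mul, ← hi, ← hw, haw])⟩
      · refine ⟨d ^ (i + 1), Or.inr ?_⟩
        rw [hcb, show 2 * (i + 1) = m + 1 by omega, pow_succ, mul_assoc, ← hab, ← hw, haw]
  · refine Or.inl ⟨d ^ m, ?_⟩
    rw [hca, hab, ← mul_assoc, ← pow_succ, ← hm, pow_orderOf_eq_one, one_mul]

/-- An involution centralizing `U` is conjugate modulo `U` to every suitable element squaring into `U`. -/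
theorem exists_conj_mod {U : Subgroup G} [U.Normal] (hG : CycInt G) (hU : U = Cfsg.pCore 2 G)
    (h4 : 4 ∣ Nat.card U) {z : G} (hz : orderOf z = 2) (hzU : z ∈ U) {a : G} (ha : orderOf a = 2)
    (haC : a ∈ centralizer (U : Set G)) (haU : a ∉ U) {y : G} (hy2 : y * y ∈ U) (hyU : y ∉ U)
    (hyC : y ∈ centralizer (U : Set G) → y * y = 1) : ∃ h : G, h * a * h⁻¹ * y⁻¹ ∈ U := by
  classical
  haveI : Fact (Nat.Prime 2) := ⟨Nat.prime_two⟩
  have hUp : IsPGroup 2 U := hU ▸ Cfsg.Lib.Core.pCore_isPGroup 2 G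
  haveI : (centralizer (U : Set G)).Normal := inferInstance
  obtain ⟨S, hS⟩ : ∃ S : Sylow 2 G, a ∈ (S : Subgroup G) := by
    obtain ⟨S, hS⟩ := (IsPGroup.of_card (n := 1) (by rw [Nat.card_zpowers, ha, pow_one]) :
      IsPGroup 2 (zpowers a)).exists_le_sylow
    exact ⟨S, hS (mem_zpowers a)⟩
  have hUS : ∀ T : Sylow 2 G, U ≤ (T : Subgroup G) := fun T => hU ▸ Cfsg.Lib.Core.pCore_le_sylow T
  -- a conjugate of `y` outside `S`
  obtain ⟨g, hg⟩ : ∃ g : G, g * y * g⁻¹ ∉ (S : Subgroup G) := by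
    by_contra h
    push Not at h
    refine hyU ?_
    have hle : normalClosure ({y} : Set G) ≤ (S : Subgroup G) := by
      rw [normalClosure, closure_le]
      intro x hx
      obtain ⟨s, hs, hsx⟩ := Group.mem_conjugatesOfSet_iff.1 hx
      obtain ⟨c, rfl⟩ := isConj_iff.1 hsx
      rw [Set.mem_singleton_iff] at hs
      subst hs
      exact h c
    rw [hU]
    exact Cfsg.Lib.Core.le_pCore' normalClosure_normal (S.isPGroup'.to_le hle)
      (subset_normalClosure rfl)
  obtain ⟨x, hx⟩ : ∃ x, x = g * y * g⁻¹ := ⟨_, rfl⟩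
  rw [← hx] at hg
  have hxx : x * x = g * (y * y) * g⁻¹ := by rw [hx]; group
  have hx2 : x * x ∈ U := hxx ▸ ‹U.Normal›.conj_mem _ hy2 g
  have hxC : x ∈ centralizer (U : Set G) → x * x = 1 := fun h => by
    rw [hxx, hyC (by
      have := (inferInstance : (centralizer (U : Set G)).Normal).conj_mem _ h g⁻¹
      rw [hx] at this
      simpa [mul_assoc] using this)]
    group
  suffices key : ∃ h : G, h * a * h⁻¹ * x⁻¹ ∈ U by
    obtain ⟨h, hh⟩ := key
    refine ⟨g⁻¹ * h, ?_⟩
    have h1 := ‹U.Normal›.conj_mem _ hh g⁻¹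
    rw [hx] at h1
    convert h1 using 1
    group
  set π := QuotientGroup.mk' U with hπ
  have hπU : ∀ v : G, π v = 1 ↔ v ∈ U := fun v => QuotientGroup.eq_one_iff v
  have haa : a * a = 1 := by rw [← pow_two, ← ha, pow_orderOf_eq_one]
  have hA : π a * π a = 1 := by rw [← map_mul, haa, map_one]
  have hX : π x * π x = 1 := by rw [← map_mul]; exact (hπU _).2 hx2
  rcases dihedral_cases hA hX with ⟨h, hh⟩ | ⟨wb, hw1, hw2, hwa, hwx, h, hh⟩
  · obtain ⟨h, rfl⟩ := QuotientGroup.mk'_surjective U h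
    exact ⟨h, (hπU _).1 (by rw [map_mul, map_mul, map_mul, map_inv, map_inv, hh, mul_inv_cancel])⟩
  exfalso
  obtain ⟨w, rfl⟩ := QuotientGroup.mk'_surjective U wb
  obtain ⟨h, rfl⟩ := QuotientGroup.mk'_surjective U h
  have hker : IsPGroup 2 π.ker := by rw [hπ, QuotientGroup.ker_mk']; exact hUp
  have hz2 : ∀ t : G ⧸ U, t * t = 1 → IsPGroup 2 (zpowers t) := fun t ht => by
    intro e
    refine ⟨1, Subtype.ext ?_⟩
    obtain ⟨i, hi⟩ := mem_zpowers_iff.1 e.2
    show (e : G ⧸ U) ^ 2 ^ 1 = 1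
    rw [← hi, ← zpow_natCast, ← zpow_mul, mul_comm, zpow_mul]
    norm_num [pow_two, ht]
  have hpair : ∀ t : G, π t * π t = 1 → Commute (π t) (π w) →
      IsPGroup 2 ↥((zpowers (π w) ⊔ zpowers (π t)).comap π) := fun t ht hc => by
    refine IsPGroup.comap_of_ker_isPGroup ?_ π hker
    refine IsPGroup.to_sup_of_normal_right' (hz2 _ hw2) (hz2 _ ht) ?_
    exact zpowers_le.2 (centralizer_le_normalizer _ (mem_centralizer_iff.2 fun e he => by
      obtain ⟨i, rfl⟩ := mem_zpowers_iff.1 he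
      exact (hc.zpow_left i).eq))
  obtain ⟨S', hS'⟩ := (hpair a hA hwa).exists_le_sylow
  obtain ⟨T, hT⟩ := (hpair x hX hwx).exists_le_sylow
  have haz : a ≠ z := fun e => haU (e ▸ hzU)
  have hSS : S' = S := eq_of_involutions hG
    (hS' (mem_sup_right (mem_zpowers (π a)))) hS (hUS S' hzU) (hUS S hzU) ha hz haz
  subst hSS
  have hxT : x ∈ (T : Subgroup G) := hT (mem_sup_right (mem_zpowers (π x)))
  have hne : S' ≠ T := fun e => hg (e ▸ hxT)
  haveI := hG S' T hne
  set W := (S' : Subgroup G) ⊓ (T : Subgroup G) with hW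
  have hwW : w ∈ W := ⟨hS' (mem_sup_left (mem_zpowers (π w))), hT (mem_sup_left (mem_zpowers (π w)))⟩
  have hUW : U ≤ W := le_inf (hUS S') (hUS T)
  have hwC : w ∈ centralizer (U : Set G) := mem_centralizer_iff.2 fun v hv =>
    commute_of_cyclic (hUW hv) hwW
  -- an involution in the coset of `a w`
  obtain ⟨c, hc2, hc⟩ : ∃ c, c * c = 1 ∧ π c = π a * π w := by
    rcases hh with hh | hh
    · refine ⟨h * a * h⁻¹, by rw [show h * a * h⁻¹ * (h * a * h⁻¹) = h * (a * a) * h⁻¹ by group, haa]; group, ?_⟩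
      rw [map_mul, map_mul, map_inv, hh]
    · have hmem : π (h * x * h⁻¹) = π a * π w := by rw [map_mul, map_mul, map_inv, hh]
      have hxC' : x ∈ centralizer (U : Set G) := by
        have h1 : (a * w)⁻¹ * (h * x * h⁻¹) ∈ U :=
          (hπU _).1 (by rw [map_mul, map_inv, hmem, map_mul, inv_mul_cancel])
        have h2 : h * x * h⁻¹ ∈ centralizer (U : Set G) := by
          rw [show h * x * h⁻¹ = (a * w) * ((a * w)⁻¹ * (h * x * h⁻¹)) by group]
          exact mul_mem (mul_mem haC hwC) (mem_centralizer_iff.2 fun v hv =>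
            commute_of_cyclic (hUW hv) (hUW h1))
        have h3 := (inferInstance : (centralizer (U : Set G)).Normal).conj_mem _ h2 h⁻¹
        simpa [mul_assoc] using h3
      refine ⟨h * x * h⁻¹, ?_, hmem⟩
      rw [show h * x * h⁻¹ * (h * x * h⁻¹) = h * (x * x) * h⁻¹ by group, hxC hxC']
      group
  obtain ⟨v, hv⟩ : ∃ v, v = a * c := ⟨_, rfl⟩
  have hπv : π v = π w := by rw [hv, map_mul, hc, ← mul_assoc, hA, one_mul]
  have hvw : w⁻¹ * v ∈ U := (hπU _).1 (by rw [map_mul, map_inv, hπv, inv_mul_cancel])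
  have hvW : v ∈ W := by
    have := mul_mem hwW (hUW hvw)
    rwa [mul_inv_cancel_left] at this
  have hv2 : v * v ∈ U := (hπU _).1 (by rw [map_mul, hπv, hw2])
  have hav : a * v * a⁻¹ = v⁻¹ := by
    rw [hv, mul_inv_rev, inv_eq_of_mul_eq_one_right hc2, inv_eq_of_mul_eq_one_right haa,
      ← mul_assoc a a c, haa, one_mul]
  have hv4 : v ^ 4 = 1 := by
    have h1 : a * (v * v) * a⁻¹ = v * v := by
      rw [← mem_centralizer_iff.1 haC _ hv2, mul_inv_cancel_right]
    have h2 : a * (v * v) * a⁻¹ = (v * v)⁻¹ := by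
      rw [show a * (v * v) * a⁻¹ = (a * v * a⁻¹) * (a * v * a⁻¹) by group, hav, mul_inv_rev]
    have h3 : v * v * (v * v) = 1 := by
      conv_lhs => arg 1; rw [← h1, h2]
      rw [inv_mul_cancel]
    rw [show (4 : ℕ) = 2 * 2 from rfl, pow_mul, pow_two, pow_two]
    exact h3
  have hvU : v ∈ U := by
    obtain ⟨j, hj⟩ := h4
    exact mem_of_pow_card hUW hvW (by rw [hj, pow_mul, hv4, one_pow])
  exact hw1 (by rw [← hπv]; exact (hπU v).2 hvU)

/-- A four-subgroup over the involution of `U`, normalized by a given Sylow subgroup. -/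
theorem exists_pair (hns : ¬ Group.IsSolvable G) {U : Subgroup G} [U.Normal] [IsCyclic U]
    (hUp : IsPGroup 2 U) (h4 : 4 ∣ Nat.card U) {z : G} (hz : orderOf z = 2) (hzU : z ∈ U)
    (S : Sylow 2 G) (hUS : U ≤ (S : Subgroup G)) :
    ∃ b ∈ (S : Subgroup G), orderOf b = 2 ∧ b ∈ centralizer (U : Set G) ∧ b ∉ U ∧
      ∀ s ∈ (S : Subgroup G), s * b * s⁻¹ = b ∨ s * b * s⁻¹ = z * b := by
  classical
  haveI : Fact (Nat.Prime 2) := ⟨Nat.prime_two⟩
  set C := centralizer (U : Set G) with hC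
  haveI : C.Normal := inferInstanceAs (centralizer (U : Set G)).Normal
  set P := (S : Subgroup G) ⊓ C with hP
  have hSP : (S : Subgroup G) ≤ normalizer (P : Set G) := Cfsg.Lib.Core.le_normalizer_iff_conj_mem.2
    fun s hs v hv => ⟨mul_mem (mul_mem hs hv.1) ((S : Subgroup G).inv_mem hs), ‹C.Normal›.conj_mem v hv.2 s⟩
  have hUC : U ≤ C := fun v hv => mem_centralizer_iff.2 fun e he => commute_of_cyclic he hv
  obtain ⟨V, ⟨hUV, hVP, hVc, hVn⟩, hVmax⟩ := exists_maximal_of_wellFoundedGT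
    (fun V : Subgroup G => U ≤ V ∧ V ≤ P ∧ IsCyclic V ∧ (S : Subgroup G) ≤ normalizer (V : Set G))
    ⟨U, le_rfl, le_inf hUS hUC, inferInstance, by rw [normalizer_eq_top]; exact le_top⟩
  haveI := hVc
  have hne : V ≠ P := by
    intro e
    refine hns (isSolvable_of_centralizer (U := U) ?_)
    obtain ⟨Q, hQ⟩ := Cfsg.Lib.Local.exists_sylow_inf S C
    haveI : IsCyclic (Q : Subgroup C) := by
      haveI : IsCyclic P := e ▸ hVc
      refine isCyclic_of_injective
        (((Q : Subgroup C).equivMapOfInjective C.subtype C.subtype_injective).trans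
          (MulEquiv.subgroupCongr (by rw [hQ, subgroupOf_map_subtype]))).toMonoidHom (MulEquiv.injective _)
    exact MetacyclicSylow.solvable_of_complement (fun H _ _ h => Cfsg.Agent.S0205.result h)
      (MetacyclicSylow.complement_of_cyclic Q)
  have hVS : V ≤ (S : Subgroup G) := hVP.trans inf_le_left
  -- an element of the top layer
  obtain ⟨g, hgP, hgV, hg2, hgc⟩ : ∃ g ∈ P, g ∉ V ∧ g * g ∈ V ∧
      ∀ s ∈ (S : Subgroup G), s * g * s⁻¹ * g⁻¹ ∈ V := by
    haveI : (V.subgroupOf (S : Subgroup G)).Normal := (normal_subgroupOf_iff_le_normalizer hVS).2 hVn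
    set θ := QuotientGroup.mk' (V.subgroupOf (S : Subgroup G))
    haveI hPn : ((P.subgroupOf (S : Subgroup G)).map θ).Normal :=
      ((normal_subgroupOf_iff_le_normalizer inf_le_left).2 hSP).map θ (QuotientGroup.mk'_surjective _)
    have hp : IsPGroup 2 (↥(S : Subgroup G) ⧸ V.subgroupOf (S : Subgroup G)) := S.isPGroup'.to_quotient _
    have h0 : (P.subgroupOf (S : Subgroup G)).map θ ≠ ⊥ := by
      intro e
      refine hne (le_antisymm hVP fun v hv => ?_)
      have h1 : θ ⟨v, hv.1⟩ = 1 := Subgroup.mem_bot.1 (e ▸ mem_map_of_mem θ (mem_subgroupOf.2 hv))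
      exact mem_subgroupOf.1 ((QuotientGroup.eq_one_iff _).1 h1)
    have h1 := Cfsg.Lib.Thompson.inf_centralizer_ne_bot_of_isPGroup (hp.to_subgroup _) (hp.to_subgroup ⊤)
      (by rw [normalizer_eq_top (H := (P.subgroupOf (S : Subgroup G)).map θ)]) h0
    obtain ⟨k, hk, hk'⟩ := (hp.to_subgroup _).nontrivial_iff_card.1
      ((nontrivial_iff_ne_bot _).2 h1)
    obtain ⟨⟨e, ⟨f, hf, rfl⟩, hec⟩, he⟩ := exists_prime_orderOf_dvd_card' 2 (hk' ▸ dvd_pow_self 2 hk.ne')
    rw [← orderOf_coe] at he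
    change orderOf (θ f) = 2 at he
    refine ⟨f, mem_subgroupOf.1 hf, fun h => ?_, ?_, fun s hs => ?_⟩
    · have h2 : θ f = 1 := (QuotientGroup.eq_one_iff f).2 (mem_subgroupOf.2 h)
      rw [h2, orderOf_one] at he
      exact absurd he (by norm_num)
    · have h2 : θ (f * f) = 1 := by
        have h2' := pow_orderOf_eq_one (θ f)
        rw [he, pow_two] at h2'
        rw [map_mul]; exact h2'
      exact mem_subgroupOf.1 ((QuotientGroup.eq_one_iff _).1 h2)
    · have h2 := mem_centralizer_iff.1 hec (θ ⟨s, hs⟩) (mem_top _)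
      have h3 : θ (⟨s, hs⟩ * f * (⟨s, hs⟩ : ↥(S : Subgroup G))⁻¹ * f⁻¹) = 1 := by
        rw [map_mul, map_mul, map_mul, map_inv, map_inv, h2, mul_inv_cancel_right, mul_inv_cancel]
      exact mem_subgroupOf.1 ((QuotientGroup.eq_one_iff _).1 h3)
  have hgN : ∀ v ∈ V, g * v * g⁻¹ ∈ V := fun v hv =>
    (mem_normalizer_iff.1 (hVn hgP.1) v).1 hv
  let φ : ↥V →* ↥V := MonoidHom.mk' (fun v => ⟨(v : G) * (g * v * g⁻¹), mul_mem v.2 (hgN v v.2)⟩)
    fun v v' => Subtype.ext (by
      show (v : G) * v' * (g * (v * v') * g⁻¹) = (v : G) * (g * v * g⁻¹) * ((v' : G) * (g * v' * g⁻¹))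
      rw [show g * ((v : G) * v') * g⁻¹ = (g * v * g⁻¹) * (g * v' * g⁻¹) by group]
      have hc := commute_of_cyclic v'.2 (hgN v v.2)
      generalize g * (v : G) * g⁻¹ = A at hc ⊢
      generalize g * (v' : G) * g⁻¹ = B
      rw [mul_assoc (v : G), ← mul_assoc (v' : G), hc]
      simp only [mul_assoc])
  have hVp : IsPGroup 2 V := S.isPGroup'.to_le hVS
  have hker : ∀ v : V, φ v = 1 → (v : G) = 1 ∨ (v : G) = z := by
    intro v hv
    have hinv : g * (v : G) * g⁻¹ = (v : G)⁻¹ :=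
      eq_inv_of_mul_eq_one_right (congrArg Subtype.val hv)
    have hvU : (v : G) ∈ U := by
      obtain ⟨i, hi⟩ := hVp.to_le (zpowers_le.2 v.2) |>.exists_card_eq
      obtain ⟨j, hj⟩ := hUp.exists_card_eq
      rcases le_total i j with h | h
      · refine mem_of_pow_card hUV v.2 ?_
        rw [hj]
        refine orderOf_dvd_iff_pow_eq_one.1 ?_
        rw [← Nat.card_zpowers, hi]
        exact pow_dvd_pow 2 h
      · exfalso
        obtain ⟨u, hu⟩ := IsCyclic.exists_generator (α := U)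
        have huv : (u : G) ∈ zpowers (v : G) := mem_of_pow_card (zpowers_le.2 v.2) (hUV u.2) (by
          rw [hi]
          refine orderOf_dvd_iff_pow_eq_one.1 ?_
          rw [orderOf_coe, orderOf_eq_card_of_forall_mem_zpowers hu, hj]
          exact pow_dvd_pow 2 h)
        obtain ⟨t, ht⟩ := mem_zpowers_iff.1 huv
        have h1 : g * (u : G) * g⁻¹ = (u : G) := by
          rw [← mem_centralizer_iff.1 hgP.2 u u.2, mul_inv_cancel_right]
        have h2 : g * (u : G) * g⁻¹ = (u : G)⁻¹ := by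
          rw [← ht, ← conj_zpow, hinv, inv_zpow]
        have h3 : u ^ 2 = 1 := Subtype.ext (by
          rw [pow_two]
          exact mul_eq_one_iff_eq_inv.2 (h1.symm.trans h2))
        have h4' := orderOf_dvd_of_pow_eq_one h3
        rw [orderOf_eq_card_of_forall_mem_zpowers hu] at h4'
        exact absurd (h4.trans h4') (by norm_num)
    by_cases h1 : (v : G) = 1
    · exact Or.inl h1
    refine Or.inr (involution_unique hvU hzU (orderOf_eq_prime ?_ h1) hz)
    have h2 : g * (v : G) * g⁻¹ = v := by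
      rw [← mem_centralizer_iff.1 hgP.2 v hvU, mul_inv_cancel_right]
    rw [pow_two]
    exact mul_eq_one_iff_eq_inv.2 (h2.symm.trans hinv)
  -- `g²` is a value of `φ`
  have hrange : (⟨g * g, hg2⟩ : V)⁻¹ ∈ φ.range := by
    by_contra hno
    rw [inv_mem_iff] at hno
    set e : V := ⟨g * g, hg2⟩
    have hcard : Nat.card V ≤ 2 * Nat.card φ.range := by
      rw [← φ.ker.card_mul_index, Subgroup.index_ker]
      refine Nat.mul_le_mul_right _ ?_
      have hinj : Function.Injective (fun v : φ.ker => decide ((v : V) = (1 : V))) := by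
        intro v₁ v₂ hd
        simp only [decide_eq_decide] at hd
        refine Subtype.ext (Subtype.ext ?_)
        rcases hker v₁ v₁.2 with h1 | h1 <;> rcases hker v₂ v₂.2 with h2 | h2
        · rw [h1, h2]
        · rw [h1, congrArg Subtype.val (hd.1 (Subtype.ext h1))]; rfl
        · rw [h2, congrArg Subtype.val (hd.2 (Subtype.ext h2))]; rfl
        · rw [h1, h2]
      simpa [Nat.card_eq_fintype_card (α := Bool)] using Nat.card_le_card_of_injective _ hinj
    have he : Nat.card (zpowers e) = Nat.card V := by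
      obtain ⟨i, hi⟩ := ((hVp.to_subgroup (zpowers e))).exists_card_eq
      obtain ⟨j, hj⟩ := ((hVp.to_subgroup φ.range)).exists_card_eq
      obtain ⟨n, hn⟩ := hVp.exists_card_eq
      have hij : j < i := by
        by_contra hle
        push Not at hle
        refine hno ?_
        have hmem : (e : G) ∈ φ.range.map V.subtype := mem_of_pow_card (map_subtype_le _) e.2 (by
          rw [Subgroup.card_map_of_injective V.subtype_injective, hj]
          refine orderOf_dvd_iff_pow_eq_one.1 ?_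
          rw [orderOf_coe, ← Nat.card_zpowers, hi]
          exact pow_dvd_pow 2 hle)
        obtain ⟨f, hf, hfe⟩ := hmem
        obtain rfl : f = e := Subtype.ext hfe
        exact hf
      have hle : i ≤ n := (Nat.pow_dvd_pow_iff_le_right (le_refl 2)).1
        (hi ▸ hn ▸ Subgroup.card_subgroup_dvd_card _)
      have hge : n ≤ j + 1 := by
        refine (Nat.pow_le_pow_iff_right (le_refl 2)).1 ?_
        rw [pow_succ, mul_comm, ← hn, ← hj]
        exact hcard
      rw [hi, hn, show i = n by omega]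
    have hVg : V ≤ zpowers g := by
      have h1 : V = zpowers (g * g) := by
        refine (Subgroup.eq_of_le_of_card_ge (zpowers_le.2 hg2) ?_).symm
        rw [Nat.card_zpowers, ← he, Nat.card_zpowers]
        exact (orderOf_coe e).symm.le
      rw [h1]
      exact zpowers_le.2 (mul_mem (mem_zpowers g) (mem_zpowers g))
    refine hgV (hVmax ⟨hUV.trans hVg, zpowers_le.2 hgP, inferInstance, ?_⟩ hVg (mem_zpowers g))
    have hconj : ∀ s ∈ (S : Subgroup G), s * g * s⁻¹ ∈ zpowers g := fun s hs => by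
      have := mul_mem (hVg (hgc s hs)) (mem_zpowers g)
      rwa [inv_mul_cancel_right] at this
    refine Cfsg.Lib.Core.le_normalizer_iff_conj_mem.2 fun s hs v hv => ?_
    obtain ⟨i, rfl⟩ := mem_zpowers_iff.1 hv
    rw [← conj_zpow]
    exact zpow_mem (hconj s hs) i
  obtain ⟨v, hv⟩ := hrange
  have hv' : (v : G) * (g * v * g⁻¹) = (g * g)⁻¹ := congrArg Subtype.val hv
  have hvg2 : (v : G) * g * ((v : G) * g) = 1 := by
    calc (v : G) * g * ((v : G) * g) = (v : G) * (g * v * g⁻¹) * (g * g) := by group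
      _ = 1 := by rw [hv']; group
  have hvgV : (v : G) * g ∉ V := fun h => hgV (by
    have := mul_mem (inv_mem v.2) h
    rwa [inv_mul_cancel_left] at this)
  refine ⟨v * g, mul_mem (hVS v.2) hgP.1, orderOf_eq_prime (by rw [pow_two]; exact hvg2)
    (fun h => hvgV (h ▸ one_mem V)), mul_mem (hVP v.2).2 hgP.2, fun h => hvgV (hUV h), fun s hs => ?_⟩
  set v' := s * (v : G) * s⁻¹ * (s * g * s⁻¹ * g⁻¹) with hv'def
  have hv'V : v' ∈ V := mul_mem ((mem_normalizer_iff.1 (hVn hs) v).1 v.2) (hgc s hs)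
  have he : s * ((v : G) * g) * s⁻¹ = v' * g := by rw [hv'def]; group
  have hφ : φ ⟨v', hv'V⟩ = φ v := by
    rw [hv]
    refine Subtype.ext ?_
    show v' * (g * v' * g⁻¹) = (g * g)⁻¹
    refine eq_inv_of_mul_eq_one_left ?_
    calc v' * (g * v' * g⁻¹) * (g * g) = (v' * g) * (v' * g) := by group
      _ = s * (((v : G) * g) * ((v : G) * g)) * s⁻¹ := by rw [← he]; group
      _ = 1 := by rw [hvg2]; group
  rw [he]
  rcases hker (⟨v', hv'V⟩ * v⁻¹) (by rw [map_mul, map_inv, hφ, mul_inv_cancel]) with h | h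
  · exact Or.inl (congrArg (· * g) (mul_inv_eq_one.1 (show v' * (v : G)⁻¹ = 1 from h)))
  · refine Or.inr ?_
    change v' * (v : G)⁻¹ = z at h
    rw [← mul_assoc, ← h, inv_mul_cancel_right]

/-- The largest normal 2-subgroup is central. -/
theorem pCore_le_center (hG : CycInt G) (hO : Cfsg.oddCore G = ⊥) (hns : ¬ Group.IsSolvable G) :
    Cfsg.pCore 2 G ≤ center G := by
  classical
  haveI : Fact (Nat.Prime 2) := ⟨Nat.prime_two⟩
  set U := Cfsg.pCore 2 G with hU
  haveI : U.Normal := inferInstanceAs (Cfsg.pCore 2 G).Normal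
  have hUp : IsPGroup 2 U := Cfsg.Lib.Core.pCore_isPGroup 2 G
  haveI : IsCyclic U := isCyclic_pCore hG hns
  set C := centralizer (U : Set G) with hC
  haveI hCn : C.Normal := inferInstanceAs (centralizer (U : Set G)).Normal
  by_contra hcen
  have hCtop : C ≠ ⊤ := fun e => hcen fun v hv => mem_center_iff.2 fun g =>
    (mem_centralizer_iff.1 (e ▸ mem_top g : g ∈ C) v hv).symm
  have hodd : ∀ {g : G}, Odd (orderOf g) → g ∈ C := fun h => mem_centralizer_of_odd hUp h
  have hUC : U ≤ C := fun v hv => mem_centralizer_iff.2 fun e he => commute_of_cyclic he hv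
  obtain ⟨u, hu⟩ := IsCyclic.exists_generator (α := U)
  obtain ⟨n, hn⟩ := hUp.exists_card_eq
  have hn2 : 2 ≤ n := by
    by_contra hlt
    refine hCtop (eq_top_iff.2 fun g _ => mem_centralizer_iff.2 fun v hv => ?_)
    have hsq : ∀ e : U, e = 1 ∨ e = u := by
      intro e
      obtain ⟨i, hi, rfl⟩ := exists_lt_of_mem_zpowers (hu e)
      have : orderOf u ≤ 2 := by
        rw [orderOf_eq_card_of_forall_mem_zpowers hu, hn]
        calc 2 ^ n ≤ 2 ^ 1 := Nat.pow_le_pow_right two_pos (by omega)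
          _ = 2 := pow_one 2
      rcases (show i = 0 ∨ i = 1 by omega) with rfl | rfl <;> simp
    by_cases hv1 : v = 1
    · simp [hv1]
    have h1 : g * v * g⁻¹ ∈ U := ‹U.Normal›.conj_mem v hv g
    have h2 : g * v * g⁻¹ ≠ 1 := fun e => hv1 (by simpa using e)
    have h3 : g * v * g⁻¹ = v := by
      rcases hsq ⟨v, hv⟩ with e | e
      · exact absurd (congrArg Subtype.val e) hv1
      rcases hsq ⟨_, h1⟩ with e' | e'
      · exact absurd (congrArg Subtype.val e') h2
      · exact congrArg Subtype.val (e'.trans e.symm)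
    exact (mul_inv_eq_iff_eq_mul.1 h3).symm
  have h4 : 4 ∣ Nat.card U := hn ▸ pow_dvd_pow 2 hn2
  obtain ⟨z0, hz0⟩ := exists_prime_orderOf_dvd_card' (G := U) 2 ((show 2 ∣ 4 by norm_num).trans h4)
  set z : G := (z0 : G) with hzdef
  have hz : orderOf z = 2 := by rw [hzdef, orderOf_coe, hz0]
  have hzU : z ∈ U := z0.2
  have hzz : z * z = 1 := by rw [← pow_two, ← hz, pow_orderOf_eq_one]
  have hzc : ∀ g : G, g * z = z * g := fun g => by
    have : g * z * g⁻¹ = z := involution_unique (‹U.Normal›.conj_mem z hzU g) hzU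
      (by rw [Cfsg.Lib.Invol.orderOf_conj_eq, hz]) hz
    exact mul_inv_eq_iff_eq_mul.1 this
  let S : Sylow 2 G := default
  have hUS : U ≤ (S : Subgroup G) := Cfsg.Lib.Core.pCore_le_sylow S
  obtain ⟨b, hbS, hb, hbC, hbU, hbn⟩ := exists_pair hns hUp h4 hz hzU S hUS
  -- elements squaring into `U` centralize it
  have hNY : ∀ y : G, y * y ∈ U → y ∈ C := by
    intro y hy
    by_contra hyC
    obtain ⟨h, hh⟩ := exists_conj_mod hG hU h4 hz hzU hb hbC hbU hy (fun e => hyC (hUC e))
      (fun e => absurd e hyC)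
    refine hyC ?_
    rw [show y = (h * b * h⁻¹ * y⁻¹)⁻¹ * (h * b * h⁻¹) by group]
    exact mul_mem (inv_mem (hUC hh)) (hCn.conj_mem b hbC h)
  -- a Sylow normalizer and a complement
  set H := normalizer ((S : Subgroup G) : Set G) with hH
  have hSidx : Odd ((S : Subgroup G).relIndex H) := by
    have h1 := relIndex_dvd_index_of_le (le_normalizer : (S : Subgroup G) ≤ H)
    exact (Nat.odd_iff.2 (by have := S.not_dvd_index; omega)).of_dvd_nat h1
  obtain ⟨kS, hkS⟩ := S.isPGroup'.exists_card_eq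
  have hcop : (Nat.card (S : Subgroup G)).Coprime ((S : Subgroup G).relIndex H) :=
    hkS ▸ (Nat.coprime_two_left.2 hSidx).pow_left kS
  obtain ⟨K, hKH, hKc, hSK⟩ := Cfsg.Lib.Coprime.exists_complement_of_coprime
    (le_normalizer : (S : Subgroup G) ≤ H) le_rfl hcop
  have hKodd : Odd (Nat.card K) := hKc ▸ hSidx
  have hKC : K ≤ C := fun k hk => hodd (hKodd.of_dvd_nat (Subgroup.orderOf_dvd_natCard _ hk))
  -- an element of `S` outside `C` centralized by `K`
  obtain ⟨x, hxS, hxK, hxC⟩ : ∃ x ∈ (S : Subgroup G), x ∈ centralizer (K : Set G) ∧ x ∉ C := by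
    by_contra h
    push Not at h
    set f := QuotientGroup.mk' C with hf
    have h1 := Cfsg.Lib.Coprime.map_inf_centralizer_eq f hKH
      (by rw [hKc]; exact hcop.symm) (Or.inr (by haveI := S.isPGroup'.isNilpotent; infer_instance))
    have h2 : K.map f = ⊥ := by rw [Subgroup.map_eq_bot_iff, hf, QuotientGroup.ker_mk']; exact hKC
    have h3 : ((S : Subgroup G) ⊓ centralizer (K : Set G)).map f = ⊥ := by
      rw [Subgroup.map_eq_bot_iff, hf, QuotientGroup.ker_mk']; exact fun x hx => h x hx.1 hx.2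
    rw [h3, h2] at h1
    have h4' : (S : Subgroup G).map f = ⊥ := by
      rw [eq_bot_iff, h1]
      exact le_inf le_rfl fun e _ => mem_centralizer_iff.2 fun d hd => by
        rw [Subgroup.mem_bot.1 hd, one_mul, mul_one]
    rw [Subgroup.map_eq_bot_iff, hf, QuotientGroup.ker_mk'] at h4'
    refine hCtop (eq_top_iff.2 fun g _ => ?_)
    obtain ⟨k, m, hm, he⟩ := Nat.exists_eq_pow_mul_and_not_dvd (orderOf_pos g).ne' 2 (by norm_num)
    have hg1 : (f g) ^ m = 1 := by
      rw [← map_pow, hf]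
      refine (QuotientGroup.eq_one_iff _).2 ?_
      have hp : IsPGroup 2 (zpowers (g ^ m)) := fun e => ⟨k, Subtype.ext (by
        obtain ⟨i, hi⟩ := mem_zpowers_iff.1 e.2
        show (e : G) ^ 2 ^ k = 1
        rw [← hi, ← zpow_natCast, ← zpow_mul, mul_comm i, zpow_mul, zpow_natCast, ← pow_mul,
          mul_comm m, ← he, pow_orderOf_eq_one, one_zpow])⟩
      obtain ⟨T, hT⟩ := hp.exists_le_sylow
      obtain ⟨c, rfl⟩ := MulAction.exists_smul_eq G S T
      obtain ⟨d, hd, hde⟩ := hT (mem_zpowers (g ^ m))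
      rw [← hde]
      exact hCn.conj_mem d (h4' hd) c
    have hg2 : (f g) ^ 2 ^ k = 1 := by
      rw [← map_pow, hf]
      refine (QuotientGroup.eq_one_iff _).2 (hodd ?_)
      rw [orderOf_pow' _ (pow_ne_zero k two_ne_zero), he, Nat.gcd_mul_right_left,
        Nat.mul_div_cancel_left _ (pow_pos two_pos k)]
      exact Nat.odd_iff.2 (Nat.two_dvd_ne_zero.1 hm)
    have h5 : orderOf (f g) = 1 := Nat.eq_one_of_dvd_coprimes
      ((Nat.coprime_two_left.2 (Nat.odd_iff.2 (Nat.two_dvd_ne_zero.1 hm))).pow_left k)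
      (orderOf_dvd_of_pow_eq_one hg2) (orderOf_dvd_of_pow_eq_one hg1)
    rw [orderOf_eq_one_iff, hf] at h5
    exact (QuotientGroup.eq_one_iff g).1 h5
  -- an involution centralized by `K`
  obtain ⟨a, haS, haK, ha, haC, haU⟩ : ∃ a ∈ (S : Subgroup G), a ∈ centralizer (K : Set G) ∧
      orderOf a = 2 ∧ a ∈ C ∧ a ∉ U := by
    have hex : ∃ i : ℕ, x ^ 2 ^ i ∈ U := by
      obtain ⟨i, hi⟩ := S.isPGroup' ⟨x, hxS⟩
      exact ⟨i, by rw [show x ^ 2 ^ i = 1 from congrArg Subtype.val hi]; exact one_mem U⟩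
    obtain ⟨j, hj⟩ : ∃ j, Nat.find hex = j + 1 := by
      refine ⟨Nat.find hex - 1, ?_⟩
      have : Nat.find hex ≠ 0 := fun e => hxC (hUC (by
        have h := Nat.find_spec hex
        rwa [e, pow_zero, pow_one] at h))
      omega
    obtain ⟨q, hq⟩ : ∃ q, q = x ^ 2 ^ j := ⟨_, rfl⟩
    have hqU : q ∉ U := fun h => Nat.find_min hex (show j < Nat.find hex by omega) (hq ▸ h)
    have hq2 : q * q ∈ U := by
      have h := Nat.find_spec hex
      rw [hj, pow_succ, pow_mul, ← hq, pow_two] at h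
      exact h
    have hqC : q ∈ C := hNY q hq2
    obtain ⟨e, -, he⟩ := exists_lt_of_mem_zpowers (hu ⟨q * q, hq2⟩)
    have he' : (u : G) ^ e = q * q := congrArg Subtype.val he
    rcases Nat.even_or_odd e with ⟨i, hi⟩ | hoe
    · have hqu : Commute q ((u : G) ^ i) :=
        ((show Commute (u : G) q from mem_centralizer_iff.1 hqC u u.2).pow_left i).symm
      refine ⟨q * ((u : G) ^ i)⁻¹, ?_, ?_, orderOf_eq_prime ?_ ?_, ?_, fun h => hqU ?_⟩
      · exact mul_mem (hq ▸ pow_mem hxS _) (inv_mem (pow_mem (hUS u.2) i))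
      · exact mul_mem (hq ▸ pow_mem hxK _) (inv_mem (pow_mem (mem_centralizer_iff.2 fun k hk =>
          (mem_centralizer_iff.1 (hKC hk) u u.2).symm) i))
      · rw [pow_two, show q * ((u : G) ^ i)⁻¹ * (q * ((u : G) ^ i)⁻¹) =
          q * q * (((u : G) ^ i) * (u : G) ^ i)⁻¹ by
          rw [mul_inv_rev, mul_assoc, ← mul_assoc ((u : G) ^ i)⁻¹, ← hqu.inv_right.eq]; group,
          ← pow_add, ← hi, he', mul_inv_cancel]
      · intro h
        refine hqU ?_
        rw [mul_inv_eq_one.1 h]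
        exact pow_mem u.2 i
      · exact mul_mem hqC (inv_mem (pow_mem (hUC u.2) i))
      · have := mul_mem h (pow_mem u.2 i)
        rwa [inv_mul_cancel_right] at this
    · exfalso
      refine hxC (mem_centralizer_iff.2 fun v hv => ?_)
      have hco : (orderOf (u : G)).Coprime e := by
        rw [orderOf_coe, orderOf_eq_card_of_forall_mem_zpowers hu, hn]
        exact (Nat.coprime_two_left.2 hoe).pow_left n
      obtain ⟨t, ht⟩ := exists_pow_eq_self_of_coprime hco.symm
      have hxu : Commute x (u : G) := by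
        rw [← ht, he', hq]
        exact ((((Commute.refl x).pow_right _).mul_right ((Commute.refl x).pow_right _))).pow_right t
      obtain ⟨i, hi⟩ := mem_zpowers_iff.1 (hu ⟨v, hv⟩)
      rw [← show (u : G) ^ i = v from congrArg Subtype.val hi]
      exact (hxu.zpow_right i).eq.symm
  -- involutions other than `z` are conjugates of `a` up to `z`
  have hF3 : ∀ c : G, orderOf c = 2 → c ≠ z → ∃ h : G, h * a * h⁻¹ = c ∨ h * a * h⁻¹ = z * c := by
    intro c hc hcz
    have hcU : c ∉ U := fun h => hcz (involution_unique h hzU hc hz)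
    have hcc : c * c = 1 := by rw [← pow_two, ← hc, pow_orderOf_eq_one]
    obtain ⟨h, hh⟩ := exists_conj_mod hG hU h4 hz hzU ha haC haU
      (show c * c ∈ U by rw [hcc]; exact one_mem U) hcU (fun _ => hcc)
    obtain ⟨t, ht⟩ : ∃ t, t = h * a * h⁻¹ * c⁻¹ := ⟨_, rfl⟩
    have htC : Commute t (h * a * h⁻¹) :=
      mem_centralizer_iff.1 (hCn.conj_mem a haC h) t (ht ▸ hh)
    have htt : t * t = 1 := by
      have h1 : c = t⁻¹ * (h * a * h⁻¹) := by rw [ht]; group
      have h2 : h * a * h⁻¹ * (h * a * h⁻¹) = 1 := by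
        rw [show h * a * h⁻¹ * (h * a * h⁻¹) = h * (a * a) * h⁻¹ by group, ← pow_two, ← ha,
          pow_orderOf_eq_one]
        group
      have h3 : t⁻¹ * t⁻¹ = 1 := by
        calc t⁻¹ * t⁻¹ = t⁻¹ * t⁻¹ * ((h * a * h⁻¹) * (h * a * h⁻¹)) := by rw [h2, mul_one]
          _ = c * c := by
              rw [h1, htC.inv_left.mul_mul_mul_comm]
          _ = 1 := hcc
      rw [← inv_inj, mul_inv_rev, h3, inv_one]
    refine ⟨h, ?_⟩
    by_cases ht1 : t = 1
    · exact Or.inl (mul_inv_eq_one.1 (ht.symm.trans ht1))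
    · refine Or.inr ?_
      rw [← involution_unique (ht ▸ hh : t ∈ U) hzU (orderOf_eq_prime (by rw [pow_two, htt]) ht1) hz,
        ht, inv_mul_cancel_right]
  have haz : a ≠ z := fun e => haU (e ▸ hzU)
  -- conjugates of `a` in `S` are conjugates in `S`
  have hcl : ∀ h : G, h * a * h⁻¹ ∈ (S : Subgroup G) →
      ∃ s ∈ (S : Subgroup G), h * a * h⁻¹ = s * a * s⁻¹ := by
    intro h hh
    have hhS : h • S = S := by
      refine eq_of_involutions hG (x := h * a * h⁻¹) (y := z) ?_ hh ?_ (hUS hzU)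
        (by rw [Cfsg.Lib.Invol.orderOf_conj_eq, ha]) hz ?_
      · exact ⟨a, haS, rfl⟩
      · exact ⟨z, hUS hzU, by
          show h * z * h⁻¹ = z
          rw [hzc h, mul_inv_cancel_right]⟩
      · intro e
        exact haz (by
          have := congrArg (fun t => h⁻¹ * t * h) e
          simpa [mul_assoc, hzc h⁻¹, inv_mul_cancel_left] using
            this.trans (by rw [hzc h⁻¹, inv_mul_cancel_right]))
    have hhH : h ∈ (S : Subgroup G) ⊔ K := hSK.symm ▸ Sylow.smul_eq_iff_mem_normalizer.1 hhS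
    obtain ⟨s, hs, k, hk, rfl⟩ := Cfsg.Lib.Coprime.exists_mul_of_mem_sup hKH hhH
    refine ⟨s, hs, ?_⟩
    rw [show s * k * a * (s * k)⁻¹ = s * (k * a * k⁻¹) * s⁻¹ by group,
      mem_centralizer_iff.1 haK k hk, mul_inv_cancel_right]
  -- the only involutions of `S`
  have hzb : ∀ t : G, t = b ∨ t = z * b → ∀ s ∈ (S : Subgroup G), s * t * s⁻¹ = b ∨ s * t * s⁻¹ = z * b := by
    rintro t (rfl | rfl) s hs
    · exact hbn s hs
    · have e : s * (z * b) * s⁻¹ = z * (s * b * s⁻¹) := by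
        rw [show s * (z * b) * s⁻¹ = (s * z) * b * s⁻¹ by group, hzc s]; group
      rcases hbn s hs with h | h
      · exact Or.inr (by rw [e, h])
      · exact Or.inl (by rw [e, h, ← mul_assoc, hzz, one_mul])
  have hab : a = b ∨ a = z * b := by
    have hbz : b ≠ z := fun e => hbU (e ▸ hzU)
    obtain ⟨h, hh⟩ := hF3 b hb hbz
    have hmem : h * a * h⁻¹ ∈ (S : Subgroup G) := by
      rcases hh with e | e <;> rw [e]
      · exact hbS
      · exact mul_mem (hUS hzU) hbS
    obtain ⟨s, hs, hse⟩ := hcl h hmem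
    rw [hse] at hh
    have h2 := hzb _ hh s⁻¹ (inv_mem hs)
    rwa [show s⁻¹ * (s * a * s⁻¹) * s⁻¹⁻¹ = a by group] at h2
  have hinv : ∀ c ∈ (S : Subgroup G), orderOf c = 2 → c ≠ z → c = b ∨ c = z * b := by
    intro c hcS hc hcz
    obtain ⟨h, hh⟩ := hF3 c hc hcz
    have hmem : h * a * h⁻¹ ∈ (S : Subgroup G) := by
      rcases hh with e | e <;> rw [e]
      · exact hcS
      · exact mul_mem (hUS hzU) hcS
    obtain ⟨s, hs, hse⟩ := hcl h hmem
    rw [hse] at hh
    have h1 := hzb a hab s hs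
    rcases hh with e | e <;> rw [e] at h1
    · exact h1
    · rcases h1 with h1 | h1
      · exact Or.inr (by rw [← h1, ← mul_assoc, hzz, one_mul])
      · exact Or.inl (mul_left_cancel h1)
  -- `b` is isolated modulo `z`
  set Z := zpowers z with hZdef
  haveI : Z.Normal := ⟨fun v hv g => by
    obtain ⟨i, rfl⟩ := mem_zpowers_iff.1 hv
    rw [((show Commute g z from hzc g).zpow_right i).eq, mul_inv_cancel_right]
    exact hv⟩
  have hZcases : ∀ v ∈ Z, v = 1 ∨ v = z := by
    intro v hv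
    obtain ⟨i, hi, rfl⟩ := exists_lt_of_mem_zpowers hv
    rw [hz] at hi
    interval_cases i
    · exact Or.inl (pow_zero z)
    · exact Or.inr (pow_one z)
  set π := QuotientGroup.mk' Z with hπdef
  have hπ : ∀ v : G, π v = 1 ↔ v ∈ Z := fun v => QuotientGroup.eq_one_iff v
  have hbz : b ∉ Z := fun h => hbU (by
    rcases hZcases b h with e | e <;> rw [e]
    · exact one_mem U
    · exact hzU)
  have hbb : b * b = 1 := by rw [← pow_two, ← hb, pow_orderOf_eq_one]
  have hiso : Cfsg.IsIsolatedInvolution (π b) := by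
    refine ⟨orderOf_eq_prime ?_ fun h => hbz ((hπ b).1 h), fun g hg => ?_⟩
    · rw [pow_two, ← map_mul, hbb, map_one]
    obtain ⟨g, rfl⟩ := QuotientGroup.mk'_surjective Z g
    obtain ⟨c, hc⟩ : ∃ c, c = g * b * g⁻¹ := ⟨_, rfl⟩
    have hπc : π c = π g * π b * (π g)⁻¹ := by rw [hc, map_mul, map_mul, map_inv]
    rw [← hπc] at hg ⊢
    have hcc : c * c = 1 := by
      rw [hc, show g * b * g⁻¹ * (g * b * g⁻¹) = g * (b * b) * g⁻¹ by group, hbb]; group
    have hp : IsPGroup 2 ↥((zpowers (π b) ⊔ zpowers (π c)).comap π) := by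
      refine IsPGroup.comap_of_ker_isPGroup ?_ π (by
        rw [hπdef, QuotientGroup.ker_mk']
        exact IsPGroup.of_card (n := 1) (by rw [hZdef, Nat.card_zpowers, hz, pow_one]))
      have h2 : ∀ t : G, t * t = 1 → IsPGroup 2 ↥(zpowers (π t)) := fun t ht => by
        intro e
        refine ⟨1, Subtype.ext ?_⟩
        obtain ⟨i, hi⟩ := mem_zpowers_iff.1 e.2
        show (e : G ⧸ Z) ^ 2 ^ 1 = 1
        rw [← hi, ← zpow_natCast, ← zpow_mul, mul_comm, zpow_mul]
        norm_num [pow_two, ← map_mul, ht]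
      refine IsPGroup.to_sup_of_normal_left' (h2 b hbb) (h2 c hcc) ?_
      exact zpowers_le.2 (centralizer_le_normalizer _ (mem_centralizer_iff.2 fun e he => by
        obtain ⟨i, rfl⟩ := mem_zpowers_iff.1 he
        exact (hg.zpow_left i).eq))
    obtain ⟨T, hT⟩ := hp.exists_le_sylow
    have hTS : T = S := eq_of_involutions hG (hT (mem_sup_left (mem_zpowers (π b)))) hbS
      (Cfsg.Lib.Core.pCore_le_sylow T hzU) (hUS hzU) hb hz (fun e => hbU (e ▸ hzU))
    have hcS : c ∈ (S : Subgroup G) := hTS ▸ hT (mem_sup_right (mem_zpowers (π c)))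
    have hc2 : orderOf c = 2 := by rw [hc, Cfsg.Lib.Invol.orderOf_conj_eq, hb]
    have hcz : c ≠ z := by
      intro e
      refine hbU ?_
      rw [show b = g⁻¹ * c * g by rw [hc]; group, e, hzc g⁻¹, inv_mul_cancel_right]
      exact hzU
    rcases hinv c hcS hc2 hcz with e | e
    · rw [e]
    · rw [e, map_mul, (hπ z).2 (mem_zpowers z), one_mul]
  have hO' : Cfsg.oddCore (G ⧸ Z) = ⊥ := by
    set M := (Cfsg.oddCore (G ⧸ Z)).comap π
    haveI : Group.IsSolvable ↥(Cfsg.oddCore (G ⧸ Z)) :=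
      Cfsg.Agent.S0205.result Cfsg.Lib.ZStar.odd_card_oddCore
    haveI : Group.IsSolvable ↥Z := inferInstance
    have hM : Group.IsSolvable ↥M := by
      refine Group.isSolvable_of_ker_le_range (Subgroup.inclusion (show Z ≤ M from fun v hv => by
        show π v ∈ Cfsg.oddCore (G ⧸ Z)
        rw [(hπ v).2 hv]; exact one_mem _)) (π.subgroupComap (Cfsg.oddCore (G ⧸ Z))) ?_
      intro v hv
      exact ⟨⟨v, (hπ _).1 (congrArg Subtype.val (MonoidHom.mem_ker.1 hv))⟩, rfl⟩
    have hMU := le_pCore_of_solvable hG hO hns M hM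
    refine eq_bot_iff.2 fun v hv => Subgroup.mem_bot.2 ?_
    obtain ⟨w, rfl⟩ := QuotientGroup.mk'_surjective Z v
    obtain ⟨k, hk⟩ := hUp ⟨w, hMU hv⟩
    have h1 : (π w) ^ 2 ^ k = 1 := by
      rw [← map_pow, show w ^ 2 ^ k = 1 from congrArg Subtype.val hk, map_one]
    exact orderOf_eq_one_iff.1 (Nat.eq_one_of_dvd_coprimes
      ((Nat.coprime_two_left.2 (Cfsg.Lib.ZStar.odd_orderOf_oddCore hv)).pow_left k)
      (orderOf_dvd_of_pow_eq_one h1) dvd_rfl)
  have hcentre := Cfsg.Lib.ZStar.mem_center_of_isolated hO' hiso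
  refine hbU ?_
  rw [hU]
  refine Cfsg.Lib.Core.le_pCore' (normalClosure_normal (s := ({b} : Set G))) (S.isPGroup'.to_le ?_)
    (subset_normalClosure rfl)
  rw [normalClosure, closure_le]
  intro t ht
  obtain ⟨s, hs, hst⟩ := Group.mem_conjugatesOfSet_iff.1 ht
  obtain ⟨g, rfl⟩ := isConj_iff.1 hst
  rw [Set.mem_singleton_iff] at hs
  rw [hs]
  have h1 : b⁻¹ * (g * b * g⁻¹) ∈ Z := (hπ _).1 (by
    rw [map_mul, map_mul, map_mul, map_inv, map_inv, mem_center_iff.1 hcentre (π g),
      mul_inv_cancel_right, inv_mul_cancel])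
  rw [show g * b * g⁻¹ = b * (b⁻¹ * (g * b * g⁻¹)) by group]
  exact mul_mem hbS ((zpowers_le.2 (hUS hzU)) h1)

/-- Modulo the odd core. -/
theorem cycInt_quotient (hG : CycInt G) : CycInt (G ⧸ Cfsg.oddCore G) := by
  haveI : Fact (Nat.Prime 2) := ⟨Nat.prime_two⟩
  set O := Cfsg.oddCore G with hO
  set π := QuotientGroup.mk' O with hπ
  have hcop : (Nat.card O).Coprime 2 := Cfsg.Lib.Core.pPrimeCore_coprime 2 G
  have hdisj : ∀ {Q : Subgroup G}, IsPGroup 2 Q → ∀ v ∈ Q, π v = 1 → v = 1 := by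
    intro Q hQ v hv h1
    obtain ⟨k, hk⟩ := hQ ⟨v, hv⟩
    exact orderOf_eq_one_iff.1 (Nat.eq_one_of_dvd_coprimes (hcop.pow_right k)
      (Subgroup.orderOf_dvd_natCard _ ((QuotientGroup.eq_one_iff v).1 h1))
      (orderOf_dvd_of_pow_eq_one (congrArg Subtype.val hk)))
  have hlift : ∀ (T : Sylow 2 (G ⧸ O)) (Q : Subgroup G), IsPGroup 2 Q → Q.map π ≤ (T : Subgroup (G ⧸ O)) →
      ∃ R : Sylow 2 G, Q ≤ (R : Subgroup G) ∧ (R : Subgroup G).map π = T := by
    intro T Q hQ hQT
    set M := (T : Subgroup (G ⧸ O)).comap π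
    have hQM : Q ≤ M := map_le_iff_le_comap.1 hQT
    obtain ⟨P, hP⟩ := (hQ.comap_subtype (K := M)).exists_le_sylow
    obtain ⟨R, hR⟩ := ((P.isPGroup').map M.subtype).exists_le_sylow
    refine ⟨R, fun v hv => hR ⟨⟨v, hQM hv⟩, hP (mem_subgroupOf.2 hv), rfl⟩, ?_⟩
    obtain ⟨R₀, hR₀⟩ := Sylow.mapSurjective_surjective (f := π) (QuotientGroup.mk'_surjective O) 2 T
    have hR₀M : (R₀ : Subgroup G) ≤ M := fun v hv => by
      show π v ∈ T
      rw [← hR₀]
      exact mem_map_of_mem π hv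
    have hcard : Nat.card (P : Subgroup M) = Nat.card (R₀ : Subgroup G) := by
      have h1 := P.card_eq_multiplicity
      let R₁ : Sylow 2 M := R₀.subtype hR₀M
      rw [h1, ← R₁.card_eq_multiplicity]
      exact Nat.card_congr (subgroupOfEquivOfLe hR₀M).toEquiv
    have he : (P : Subgroup M).map M.subtype = (R : Subgroup G) := by
      refine eq_of_le_of_card_ge hR (le_of_eq ?_)
      rw [Subgroup.card_map_of_injective M.subtype_injective, hcard, R.card_eq_multiplicity,
        R₀.card_eq_multiplicity]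
    have hle : (R : Subgroup G).map π ≤ (T : Subgroup (G ⧸ O)) := by
      rw [← he]
      rintro _ ⟨_, ⟨p, -, rfl⟩, rfl⟩
      exact p.2
    refine (T.is_maximal' (R.isPGroup'.map π) ?_)
    have hinj : ∀ (R' : Sylow 2 G), Nat.card ((R' : Subgroup G).map π) = Nat.card (R' : Subgroup G) :=
      fun R' => (Nat.card_congr (Equiv.ofBijective
        (fun v : (R' : Subgroup G) => (⟨π v, mem_map_of_mem π v.2⟩ : ↥((R' : Subgroup G).map π)))
        ⟨fun v w e => Subtype.ext (mul_inv_eq_one.1 (hdisj R'.isPGroup' _ (mul_mem v.2 (inv_mem w.2))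
            (by rw [map_mul, map_inv, show π (v : G) = π w from congrArg Subtype.val e, mul_inv_cancel]))),
          fun ⟨_, v, hv, rfl⟩ => ⟨⟨v, hv⟩, rfl⟩⟩)).symm
    refine (eq_of_le_of_card_ge hle (le_of_eq ?_)).ge
    rw [← hR₀, Sylow.coe_mapSurjective, hinj, hinj, R.card_eq_multiplicity, R₀.card_eq_multiplicity]
  intro A B hAB
  set M := ((A : Subgroup (G ⧸ O)) ⊓ (B : Subgroup (G ⧸ O))).comap π
  let Q : Sylow 2 M := default
  have hsur : Function.Surjective (π.subgroupComap ((A : Subgroup (G ⧸ O)) ⊓ (B : Subgroup (G ⧸ O)))) :=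
    fun ⟨y, hy⟩ => by
      obtain ⟨v, rfl⟩ := QuotientGroup.mk'_surjective O y
      exact ⟨⟨v, hy⟩, rfl⟩
  have hQimg := Q.mapSurjective hsur |>.is_maximal' (IsPGroup.of_equiv
    (A.isPGroup'.to_le inf_le_left) Subgroup.topEquiv.symm) le_top
  have hQp : IsPGroup 2 ((Q : Subgroup M).map M.subtype) := Q.isPGroup'.map _
  have hQA : ∀ C : Subgroup (G ⧸ O), (A : Subgroup (G ⧸ O)) ⊓ (B : Subgroup (G ⧸ O)) ≤ C →
      ((Q : Subgroup M).map M.subtype).map π ≤ C := by
    rintro C hC _ ⟨_, ⟨p, -, rfl⟩, rfl⟩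
    exact hC p.2
  obtain ⟨R₁, hQ₁, hR₁⟩ := hlift A _ hQp (hQA _ inf_le_left)
  obtain ⟨R₂, hQ₂, hR₂⟩ := hlift B _ hQp (hQA _ inf_le_right)
  haveI := hG R₁ R₂ fun e => hAB (Sylow.ext (hR₁.symm.trans (e ▸ hR₂)))
  haveI : IsCyclic (Q : Subgroup M) := isCyclic_of_injective
    ((Subgroup.inclusion (le_inf hQ₁ hQ₂)).comp
      ((Q : Subgroup M).equivMapOfInjective M.subtype M.subtype_injective).toMonoidHom)
    ((Subgroup.inclusion_injective (le_inf hQ₁ hQ₂)).comp (MulEquiv.injective _))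
  refine isCyclic_of_surjective
    ((π.subgroupComap ((A : Subgroup (G ⧸ O)) ⊓ (B : Subgroup (G ⧸ O)))).comp (Q : Subgroup M).subtype) ?_
  intro y
  obtain ⟨q, hq, rfl⟩ : y ∈ (Q.mapSurjective hsur : Subgroup _) := hQimg ▸ mem_top y
  exact ⟨⟨q, hq⟩, rfl⟩

/-- The statement for a solvable normal subgroup. -/
theorem main (hG : CycInt G) (hns : ¬ Group.IsSolvable G) (N : Subgroup G) [N.Normal]
    (hN : Group.IsSolvable N) :
    IsCyclic ↥(N.map (QuotientGroup.mk' (Cfsg.oddCore G))) ∧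
      IsPGroup 2 ↥(N.map (QuotientGroup.mk' (Cfsg.oddCore G))) ∧
      N.map (QuotientGroup.mk' (Cfsg.oddCore G)) ≤ center (G ⧸ Cfsg.oddCore G) := by
  haveI : Fact (Nat.Prime 2) := ⟨Nat.prime_two⟩
  have hq := cycInt_quotient hG
  set O := Cfsg.oddCore G with hO
  have hbot : Cfsg.oddCore (G ⧸ O) = ⊥ := Cfsg.Lib.Core.pPrimeCore_quotient_eq_bot
  haveI : Group.IsSolvable ↥O := Cfsg.Agent.S0205.result Cfsg.Lib.ZStar.odd_card_oddCore
  have hns' : ¬ Group.IsSolvable (G ⧸ O) := fun h => hns (by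
    haveI := h
    exact Group.isSolvable_of_ker_le_range O.subtype (QuotientGroup.mk' O) (by simp))
  haveI : (N.map (QuotientGroup.mk' O)).Normal :=
    ‹N.Normal›.map _ (QuotientGroup.mk'_surjective O)
  haveI := hN
  have hsol : Group.IsSolvable ↥(N.map (QuotientGroup.mk' O)) :=
    Group.isSolvable_of_surjective ((QuotientGroup.mk' O).subgroupMap_surjective N)
  have hle := le_pCore_of_solvable hq hbot hns' _ hsol
  haveI := isCyclic_pCore hq hns'
  exact ⟨isCyclic_of_injective (Subgroup.inclusion hle) (Subgroup.inclusion_injective hle),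
    (Cfsg.Lib.Core.pCore_isPGroup 2 _).to_le hle, hle.trans (pCore_le_center hq hbot hns')⟩

end Cfsg.Lib.FTCons.CyclicIntersection
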