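import Cfsg.Agent.Lib.FTCons.ClassTwoComplement
import Cfsg.Agent.Lib.PGroup.ClassTwo
import Cfsg.Agent.Lib.PGroup.Elements

/-!
# Coprime operators with a nilpotent maximal invariant subgroup

If `A` acts coprimely on `G` and some maximal proper invariant subgroup is nilpotent with Sylow
`2`-subgroup of class at most two, then `G` is solvable (the Deskins–Janko theorem with operators);
this uses the solvability of groups of odd order.
-/

set_option autoImplicit false
set_option linter.style.haveILetI false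
set_option linter.unusedSectionVars false
set_option maxHeartbeats 800000

namespace Cfsg.Lib.FTCons.DeskinsJanko

open Subgroup Cfsg Cfsg.Lib.Fusion
open scoped commutatorElement

universe u v

/-- Commutators of `2`-elements of `M` commute with `2`-elements of `M`. -/
def TwoClass {G : Type u} [Group G] (M : Subgroup G) : Prop :=
  ∀ a ∈ M, ∀ b ∈ M, ∀ c ∈ M, (∃ i, a ^ 2 ^ i = 1) → (∃ i, b ^ 2 ^ i = 1) → (∃ i, c ^ 2 ^ i = 1) →
    c * ⁅a, b⁆ = ⁅a, b⁆ * c

variable {A : Type v} [Group A] [Finite A]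

section Core

variable {G : Type u} [Group G] [Finite G] [MulDistribMulAction A G] {M : Subgroup G}
  (hMi : AInv A M) (hMtop : M ≠ ⊤)
  (hMmax : ∀ H : Subgroup G, M ≤ H → H ≠ ⊤ → AInv A H → H = M)
  (hmin : ∀ N : Subgroup G, N.Normal → AInv A N → N ≤ M → N = ⊥)

include hMmax hmin

theorem normalizer_eq {U : Subgroup G} (hU1 : U ≠ ⊥) (hUM : U ≤ M) (hU : AInv A U)
    (hn : M ≤ normalizer (U : Set G)) : normalizer (U : Set G) = M :=
  hMmax _ hn (fun h => hU1 (hmin U (normalizer_eq_top_iff.1 h) hU hUM)) (aInv_normalizer hU)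

include hMi

theorem exists_sylow (hnil : Group.IsNilpotent M) {q : ℕ} [hq : Fact q.Prime]
    (hqM : q ∣ Nat.card M) :
    ∃ P : Sylow q G, (P : Subgroup G) ≤ M ∧ M ≤ normalizer ((P : Subgroup G) : Set G) ∧
      (P : Subgroup G) ≠ ⊥ ∧ AInv A (P : Subgroup G) := by
  haveI := hnil
  obtain ⟨S⟩ : Nonempty (Sylow q M) := inferInstance
  have hSn : (S : Subgroup M).Normal :=
    Sylow.normal_of_normalizerCondition Group.normalizerCondition_of_isNilpotent S
  set P := (S : Subgroup M).map M.subtype with hP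
  have hPM : P ≤ M := map_subtype_le _
  have hmem : ∀ y ∈ M, ∀ k : ℕ, y ^ q ^ k = 1 → y ∈ P := by
    intro y hy k hk
    have hz : IsPGroup q (zpowers (⟨y, hy⟩ : M)) := by
      rintro ⟨z, hz⟩
      obtain ⟨m, rfl⟩ := mem_zpowers_iff.1 hz
      refine ⟨k, Subtype.ext ?_⟩
      simp only [SubmonoidClass.coe_pow, OneMemClass.coe_one]
      rw [← zpow_natCast, ← zpow_mul, mul_comm, zpow_mul, zpow_natCast,
        show (⟨y, hy⟩ : M) ^ q ^ k = 1 from Subtype.ext hk, one_zpow]
    obtain ⟨Q', hQ'⟩ := IsPGroup.exists_le_sylow hz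
    obtain ⟨c, hc⟩ := MulAction.exists_smul_eq M S Q'
    haveI := hSn
    rw [Sylow.smul_eq_of_normal] at hc
    exact ⟨⟨y, hy⟩, by rw [hc]; exact hQ' (mem_zpowers _), rfl⟩
  have hPA : AInv A P := fun a x hx => by
    obtain ⟨k, hk⟩ := (S.2.map M.subtype : IsPGroup q P) ⟨x, hx⟩
    exact hmem _ (hMi a x (hPM hx)) k (by
      rw [← smul_pow', show x ^ q ^ k = 1 from congrArg Subtype.val hk, smul_one])
  have hMN : M ≤ normalizer (P : Set G) := by
    have h : (P.subgroupOf M).Normal := by
      rw [hP, subgroupOf, comap_map_eq_self_of_injective M.subtype_injective]; exact hSn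
    exact (normal_subgroupOf_iff_le_normalizer hPM).1 h
  have hPne : P ≠ ⊥ := by
    rw [hP, Ne, map_eq_bot_iff_of_injective _ M.subtype_injective]
    exact S.ne_bot_of_dvd_card hqM
  have hN := normalizer_eq hMmax hmin hPne hPM hPA hMN
  obtain ⟨Q, hQ⟩ := (S.2.map M.subtype : IsPGroup q P).exists_le_sylow
  have hQP : (Q : Subgroup G) = P := by
    rcases eq_or_lt_of_le hQ with h | h
    · exact h.symm
    exfalso
    haveI := Q.isPGroup'.isNilpotent
    have h1 : P.subgroupOf Q < normalizer ((P.subgroupOf (Q : Subgroup G) :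
        Subgroup (Q : Subgroup G)) : Set (Q : Subgroup G)) :=
      Group.normalizerCondition_of_isNilpotent _ (lt_top_iff_ne_top.mpr fun e =>
        h.not_ge (subgroupOf_eq_top.mp e))
    obtain ⟨w, hw, hwn⟩ := SetLike.exists_of_lt h1
    refine hwn (mem_subgroupOf.mpr ?_)
    have hwM : (w : G) ∈ M := by
      rw [← hN]
      refine mem_normalizer_iff.mpr fun x => ⟨fun hx => ?_, fun hx => ?_⟩
      · exact (mem_normalizer_iff.mp hw ⟨x, hQ hx⟩).mp hx
      · have hxQ : x ∈ (Q : Subgroup G) := by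
          have := (Q : Subgroup G).mul_mem ((Q : Subgroup G).mul_mem (inv_mem w.2) (hQ hx)) w.2
          simpa [mul_assoc] using this
        exact (mem_normalizer_iff.mp hw ⟨x, hxQ⟩).mpr hx
    obtain ⟨k, hk⟩ := Q.isPGroup' w
    exact hmem _ hwM k (congrArg Subtype.val hk)
  exact ⟨Q, hQP ▸ hPM, hQP ▸ hMN, hQP ▸ hPne, hQP ▸ hPA⟩

variable (hcop : (Nat.card A).Coprime (Nat.card G))
include hcop

theorem hasNormalPComplement (hnil : Group.IsNilpotent M) (h2 : TwoClass M) {q : ℕ}
    [hq : Fact q.Prime] (hqM : q ∣ Nat.card M) : HasNormalPComplement q G := by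
  haveI := hnil
  obtain ⟨P, hPM, hMN, hPne, hPA⟩ := exists_sylow hMi hMmax hmin hnil hqM
  by_cases hq2 : q = 2
  · subst hq2
    have hel : ∀ x ∈ (P : Subgroup G), ∃ i, x ^ 2 ^ i = 1 := fun x hx => by
      obtain ⟨i, hi⟩ := P.2 ⟨x, hx⟩
      exact ⟨i, congrArg Subtype.val hi⟩
    refine ClassTwo.hasNormalPComplement_two hcop P hPA
      (fun a ha b hb c hc => h2 a (hPM ha) b (hPM hb) c (hPM hc) (hel a ha) (hel b hb) (hel c hc))
      fun U hU1 hUP hUA hPU => ?_
    have hMU : M ≤ normalizer (U : Set G) := by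
      intro m hm
      set k := (orderOf m).factorization 2 with hk
      set r := orderOf m / 2 ^ k with hr
      have hodd : (m ^ 2 ^ k) ∈ normalizer (U : Set G) := by
        refine centralizer_le_normalizer _ fun x hx => ?_
        obtain ⟨i, hi⟩ := hel x (hUP hx)
        have hco := (ClassTwo.coprime_orderOf_pow m).symm.pow_left i
        have h := Cfsg.Lib.PGroup.commute_of_coprime_orderOf (⟨x, hPM (hUP hx)⟩ : M)
          ((⟨m, hm⟩ : M) ^ 2 ^ k) ?_
        · exact congrArg Subtype.val h.eq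
        rw [← Subgroup.orderOf_coe, ← Subgroup.orderOf_coe]
        exact Nat.Coprime.coprime_dvd_left (orderOf_dvd_of_pow_eq_one hi) hco
      have hrk : 2 ^ k * r = orderOf m := Nat.mul_div_cancel' (Nat.ordProj_dvd _ 2)
      have hev : (m ^ r) ∈ normalizer (U : Set G) := by
        refine hPU ?_
        have h1 : (m ^ r) ^ 2 ^ k = 1 := by
          rw [← pow_mul, mul_comm, hrk, pow_orderOf_eq_one]
        obtain ⟨R, hR⟩ : ∃ R : Sylow 2 M, (⟨m, hm⟩ : M) ^ r ∈ (R : Subgroup M) := by
          have hz : IsPGroup 2 (zpowers ((⟨m, hm⟩ : M) ^ r)) := by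
            rintro ⟨z, hz⟩
            obtain ⟨j, rfl⟩ := mem_zpowers_iff.1 hz
            refine ⟨k, Subtype.ext ?_⟩
            simp only [SubmonoidClass.coe_pow, OneMemClass.coe_one]
            rw [← zpow_natCast, ← zpow_mul, mul_comm, zpow_mul, zpow_natCast,
              show ((⟨m, hm⟩ : M) ^ r) ^ 2 ^ k = 1 from Subtype.ext h1, one_zpow]
          obtain ⟨R, hR⟩ := hz.exists_le_sylow
          exact ⟨R, hR (mem_zpowers _)⟩
        haveI : ((P.subtype hPM : Sylow 2 M) : Subgroup M).Normal :=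
          Sylow.normal_of_normalizerCondition Group.normalizerCondition_of_isNilpotent _
        obtain ⟨c, hc⟩ := MulAction.exists_smul_eq M (P.subtype hPM) R
        rw [Sylow.smul_eq_of_normal] at hc
        rw [← hc] at hR
        exact hR
      have hcr : (2 ^ k).Coprime r := by
        have := Nat.coprime_ordCompl Nat.prime_two (orderOf_pos m).ne'
        exact this.pow_left k
      obtain ⟨a, b, hab⟩ := Int.isCoprime_iff_gcd_eq_one.2
        (show Int.gcd ((2 ^ k : ℕ) : ℤ) (r : ℤ) = 1 by rw [Int.gcd_natCast_natCast]; exact hcr)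
      have : m = (m ^ 2 ^ k) ^ a * (m ^ r) ^ b := by
        conv_lhs => rw [← zpow_one m, ← hab, zpow_add, mul_comm a, mul_comm b, zpow_mul, zpow_mul,
          zpow_natCast, zpow_natCast]
      rw [this]
      exact mul_mem (zpow_mem hodd a) (zpow_mem hev b)
    rw [normalizer_eq hMmax hmin hU1 (hUP.trans hPM) hUA hMU]
    exact Thompson.hasNormalPComplement_of_isNilpotent
  · set W := centerThompsonOf q (P : Subgroup G) with hW
    have hWP : W ≤ P := inf_le_left.trans (Thompson.thompsonSubgroupOf_le _)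
    have hWne : W ≠ ⊥ := Local.GlaubermanZJ.centerThompsonOf_ne_bot P.2 hPne
    have hWA : AInv A W := fun a x hx => by
      have h := Local.GlaubermanZJ.map_centerThompsonOf (p := q)
        (MulDistribMulAction.toMulAut A G a).toMonoidHom (MulEquiv.injective _) (P : Subgroup G)
      rw [hPA.map_eq a] at h
      exact h.le ⟨x, hx, rfl⟩
    have hMW : M ≤ normalizer (W : Set G) := fun g hg => by
      have hgP := hMN hg
      rw [mem_normalizer_iff_map_conj_eq] at hgP ⊢
      have h := Local.GlaubermanZJ.map_centerThompsonOf (p := q)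
        (MulAut.conj g : G →* G) (MulAut.conj g).injective (P : Subgroup G)
      exact h.trans (congrArg (centerThompsonOf q) hgP)
    refine Local.GlaubermanZJ.complement_of_centerThompson hq2 P ?_
    rw [← hW, normalizer_eq hMmax hmin hWne (hWP.trans hPM) hWA hMW]
    exact Thompson.hasNormalPComplement_of_isNilpotent

include hMtop

theorem solvable_of_core (hA : Group.IsSolvable A) (hnil : Group.IsNilpotent M) (h2 : TwoClass M) :
    Group.IsSolvable G := by
  classical
  let K : Subgroup G := ⨅ p : {p : ℕ // p.Prime ∧ p ∣ Nat.card M}, pResidual p.1 G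
  haveI hKn : K.Normal := normal_iInf_normal fun p => Fusion.pResidual_normal p.1 G
  have hKA : AInv A K := fun a x hx =>
    mem_iInf.2 fun p => aInv_pResidual p.1 a x (mem_iInf.1 hx p)
  have hcopK : (Nat.card M).Coprime (Nat.card K) := Nat.coprime_of_dvd fun r hr h1 h2' => by
    have := Fact.mk hr
    exact hr.coprime_iff_not_dvd.1 (hasNormalPComplement_iff_coprime.1
      (hasNormalPComplement hMi hMmax hmin hcop hnil h2 h1)).symm
      (h2'.trans (card_dvd_of_le (iInf_le (fun p : {p : ℕ // p.Prime ∧ p ∣ Nat.card M} =>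
        pResidual p.1 G) ⟨r, hr, h1⟩)))
  have hKM : Disjoint K M := Cfsg.Lib.Coprime.disjoint_of_coprime_card hcopK.symm
  have hK1 : K ≠ ⊥ := by
    intro hK
    obtain ⟨r, hr, hrd⟩ := Nat.exists_prime_and_dvd (fun h => hMtop (index_eq_one.1 h))
    have := Fact.mk hr
    by_cases hrM : r ∣ Nat.card M
    · obtain ⟨P, hPM, -⟩ := exists_sylow hMi hMmax hmin hnil hrM
      exact P.not_dvd_index (hrd.trans (index_dvd_of_le hPM))
    obtain ⟨x, hx⟩ := exists_prime_orderOf_dvd_card' (G := G) r
      (hrd.trans (index_dvd_card M))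
    have hxK : x ∈ K := mem_iInf.mpr fun ⟨p, hp, hpM⟩ => by
      have hpr : r ≠ p := fun e => hrM (e ▸ hpM)
      exact Fusion.mem_pResidual_of_coprime (by rw [hx]; exact (Nat.coprime_primes hr hp).2 hpr)
    rw [hK, mem_bot] at hxK
    rw [hxK, orderOf_one] at hx
    exact hr.ne_one hx.symm
  -- the operators `M A` inside the semidirect product
  let φ : A →* MulAut G := MulDistribMulAction.toMulAut A G
  haveI : Finite (G ⋊[φ] A) := Finite.of_equiv _ SemidirectProduct.equivProd.symm
  let B : Subgroup (G ⋊[φ] A) :=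
    { carrier := {x | x.left ∈ M}
      one_mem' := by show (1 : G ⋊[φ] A).left ∈ M; rw [SemidirectProduct.one_left]; exact one_mem M
      mul_mem' := fun {x y} (hx : x.left ∈ M) (hy : y.left ∈ M) => by
        show (x * y).left ∈ M
        rw [SemidirectProduct.mul_left]
        exact mul_mem hx (hMi _ _ hy)
      inv_mem' := fun {x} (hx : x.left ∈ M) => by
        show x⁻¹.left ∈ M
        rw [SemidirectProduct.inv_left]
        exact hMi _ _ (inv_mem hx) }
  let eB : B ≃ M × A :=
    { toFun := fun x => (⟨x.1.left, x.2⟩, x.1.right)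
      invFun := fun x => ⟨⟨x.1.1, x.2⟩, x.1.2⟩
      left_inv := fun x => rfl
      right_inv := fun x => rfl }
  have hBcard : Nat.card B = Nat.card M * Nat.card A := by
    rw [Nat.card_congr eB, Nat.card_prod]
  haveI := hA
  haveI hBsol : Group.IsSolvable B := by
    let fM : M →* B :=
      { toFun := fun m => ⟨SemidirectProduct.inl (m : G), m.2⟩
        map_one' := Subtype.ext (map_one _)
        map_mul' := fun a b => Subtype.ext (map_mul _ _ _) }
    haveI : Group.IsSolvable M := inferInstance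
    refine Group.isSolvable_of_ker_le_range fM (SemidirectProduct.rightHom.comp B.subtype) ?_
    rintro ⟨x, hx⟩ hker
    have hr : x.right = 1 := hker
    exact ⟨⟨x.left, hx⟩, Subtype.ext (SemidirectProduct.ext rfl hr.symm)⟩
  let N : Subgroup (G ⋊[φ] A) := K.map SemidirectProduct.inl
  haveI hNn : N.Normal := by
    refine ⟨?_⟩
    rintro _ ⟨k, hk, rfl⟩ x
    refine ⟨x.left * (φ x.right k) * x.left⁻¹, hKn.conj_mem _ (hKA _ _ hk) _, ?_⟩
    conv_rhs => rw [← SemidirectProduct.inl_left_mul_inr_right x]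
    rw [map_mul, map_mul, map_inv, SemidirectProduct.inl_aut]
    simp only [map_inv]
    group
  let eN : K ≃* N := K.equivMapOfInjective _ SemidirectProduct.inl_injective
  obtain ⟨r, hr, hrd⟩ := Nat.exists_prime_and_dvd (fun h => hK1 (eq_bot_of_card_eq K h))
  have := Fact.mk hr
  obtain ⟨Q, hQ⟩ := Coprime.exists_invariant_sylow (A := B) (G := N) le_normalizer_of_normal
    (by
      rw [hBcard, ← Nat.card_congr eN.toEquiv]
      exact hcopK.mul_left (hcop.coprime_dvd_right (card_subgroup_dvd_card K)))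
    (Or.inl hBsol) r
  set R := ((Q : Subgroup N).map N.subtype).comap (SemidirectProduct.inl : G →* G ⋊[φ] A) with hR
  have hRK : R ≤ K := fun x hx => by
    obtain ⟨k, hk, e⟩ := (map_subtype_le (Q : Subgroup N)) hx
    exact SemidirectProduct.inl_injective e ▸ hk
  have hRA : AInv A R := fun a x hx => by
    have h := (mem_normalizer_iff.1
      (hQ (show (SemidirectProduct.inr a : G ⋊[φ] A) ∈ B from one_mem M)) _).1 hx
    rw [← map_inv, ← SemidirectProduct.inl_aut] at h
    exact h
  have hMR : M ≤ normalizer (R : Set G) := fun m hm => mem_normalizer_iff.2 fun x => by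
    rw [hR, mem_comap, mem_comap, map_mul, map_mul, map_inv]
    exact mem_normalizer_iff.1 (hQ (show (SemidirectProduct.inl m : G ⋊[φ] A) ∈ B from hm)) _
  have hRr : IsPGroup r R :=
    (Q.2.map N.subtype).comap_of_injective _ SemidirectProduct.inl_injective
  have hR1 : R ≠ ⊥ := by
    intro h
    refine Q.ne_bot_of_dvd_card (by rwa [← Nat.card_congr eN.toEquiv]) ?_
    refine eq_bot_iff.2 fun y hy => mem_bot.2 (Subtype.ext ?_)
    obtain ⟨k, hk, e⟩ := y.2
    have : k ∈ R := ⟨y, hy, e.symm⟩
    rw [h, mem_bot] at this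
    rw [← e, this, map_one]; rfl
  have htop : R ⊔ M = ⊤ := by
    by_contra h
    have h1 := hMmax (R ⊔ M) le_sup_right h (aInv_sup hRA hMi)
    exact hR1 (le_bot_iff.1 ((le_inf hRK (le_sup_left.trans h1.le)).trans hKM.le_bot))
  have hKR : K ≤ R := fun k hk => by
    have hk' : k ∈ M ⊔ R := sup_comm R M ▸ htop ▸ mem_top k
    obtain ⟨m, hm, y, hy, rfl⟩ := (Cfsg.Lib.Core.mem_sup_of_le_normalizer hMR).1 hk'
    have : m ∈ K ⊓ M := ⟨by simpa using K.mul_mem hk (inv_mem (hRK hy)), hm⟩
    rw [hKM.eq_bot, mem_bot] at this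
    rwa [this, one_mul]
  haveI : Group.IsSolvable K := by
    haveI := (hRr.to_le hKR).isNilpotent
    infer_instance
  haveI : Group.IsSolvable M := inferInstance
  haveI : Group.IsSolvable (G ⧸ K) := by
    refine Group.isSolvable_of_surjective (f := (QuotientGroup.mk' K).comp M.subtype) fun x => ?_
    obtain ⟨g, rfl⟩ := QuotientGroup.mk'_surjective K x
    have hg : g ∈ M ⊔ R := sup_comm R M ▸ htop ▸ mem_top g
    obtain ⟨m, hm, y, hy, rfl⟩ := (Cfsg.Lib.Core.mem_sup_of_le_normalizer hMR).1 hg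
    refine ⟨⟨m, hm⟩, ?_⟩
    show (m : G ⧸ K) = ((m * y : G) : G ⧸ K)
    rw [QuotientGroup.mk_mul, (QuotientGroup.eq_one_iff y).mpr (hRK hy), mul_one]
  exact (Group.isSolvable_iff_subgroup_quotient K).2 ⟨inferInstance, inferInstance⟩

end Core

variable (hFT : OddSolvable.{u}) (hFT' : OddSolvable.{v})
include hFT hFT'

theorem solvable_aux : ∀ (n : ℕ) (G : Type u) [Group G] [Finite G] [MulDistribMulAction A G],
    Nat.card G = n → (Nat.card A).Coprime (Nat.card G) → ∀ M : Subgroup G, AInv A M → M ≠ ⊤ →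
    (∀ H : Subgroup G, M ≤ H → H ≠ ⊤ → AInv A H → H = M) → Group.IsNilpotent M → TwoClass M →
    Group.IsSolvable G := by
  intro n
  induction n using Nat.strong_induction_on with
  | _ n ih =>
  intro G _ _ _ hn hcop M hMi hMtop hMmax hnil h2
  by_cases hodd : Odd (Nat.card G)
  · exact hFT G hodd
  have hA : Group.IsSolvable A := by
    refine hFT' A ?_
    rw [Nat.not_odd_iff_even, even_iff_two_dvd] at hodd
    exact Nat.coprime_two_right.1 (hcop.coprime_dvd_right hodd)
  by_cases hmin : ∀ N : Subgroup G, N.Normal → AInv A N → N ≤ M → N = ⊥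
  · exact solvable_of_core hMi hMtop hMmax hmin hcop hA hnil h2
  push Not at hmin
  obtain ⟨N, hNn, hNi, hNM, hN1⟩ := hmin
  set π := QuotientGroup.mk' N with hπ
  have hπs := QuotientGroup.mk'_surjective N
  have hker : π.ker = N := QuotientGroup.ker_mk' N
  let bar : A →* MulAut (G ⧸ N) :=
    { toFun := fun a => QuotientGroup.congr N N (MulDistribMulAction.toMulAut A G a) (hNi.map_eq a)
      map_one' := MulEquiv.ext fun q => by
        obtain ⟨g, rfl⟩ := QuotientGroup.mk'_surjective N q
        exact congrArg π (one_smul A g)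
      map_mul' := fun a b => MulEquiv.ext fun q => by
        obtain ⟨g, rfl⟩ := QuotientGroup.mk'_surjective N q
        exact congrArg π (mul_smul a b g) }
  letI : MulDistribMulAction A (G ⧸ N) := MulDistribMulAction.compHom _ bar
  have hsmul : ∀ (a : A) (g : G), a • π g = π (a • g) := fun a g => rfl
  have hcm : (M.map π).comap π = M := by rw [comap_map_eq, hker, sup_of_le_left hNM]
  have hq : Group.IsSolvable (G ⧸ N) := by
    refine ih _ (hn ▸ Cfsg.Lib.Core.card_quotient_lt hN1) (G ⧸ N) rfl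
      (hcop.coprime_dvd_right (card_quotient_dvd_card N)) (M.map π) ?_ ?_ ?_ ?_ ?_
    · rintro a _ ⟨x, hx, rfl⟩
      exact ⟨a • x, hMi a x hx, (hsmul a x).symm⟩
    · intro h
      apply hMtop
      rw [← hcm, h, comap_top]
    · intro H hMH hH hHi
      have h1 : H.comap π = M := hMmax _ (hcm ▸ comap_mono hMH)
        (fun e => hH (by rw [← map_comap_eq_self_of_surjective hπs H, e, map_top_of_surjective π hπs]))
        (fun a x hx => by rw [mem_comap, ← hsmul]; exact hHi a _ hx)
      rw [← map_comap_eq_self_of_surjective hπs H, h1]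
    · exact Group.nilpotent_of_surjective (h := hnil) (π.subgroupMap M) (π.subgroupMap_surjective M)
    · have lift : ∀ y ∈ M.map π, (∃ i, y ^ 2 ^ i = 1) → ∃ x ∈ M, (∃ i, x ^ 2 ^ i = 1) ∧ π x = y := by
        rintro _ ⟨x, hx, rfl⟩ ⟨i, hi⟩
        set k := (orderOf x).factorization 2 with hk
        set r := orderOf x / 2 ^ k with hr
        have hrk : 2 ^ k * r = orderOf x := Nat.mul_div_cancel' (Nat.ordProj_dvd _ 2)
        have hcr : (2 ^ i).Coprime r :=
          (Nat.coprime_ordCompl Nat.prime_two (orderOf_pos x).ne').pow_left i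
        obtain ⟨a, b, hab⟩ := Int.isCoprime_iff_gcd_eq_one.2
          (show Int.gcd ((2 ^ i : ℕ) : ℤ) (r : ℤ) = 1 by rw [Int.gcd_natCast_natCast]; exact hcr)
        refine ⟨(x ^ r) ^ b, zpow_mem (pow_mem hx r) b, ⟨k, ?_⟩, ?_⟩
        · rw [← zpow_natCast, ← zpow_mul, mul_comm, zpow_mul, zpow_natCast, ← pow_mul,
            mul_comm r, hrk, pow_orderOf_eq_one, one_zpow]
        · rw [map_zpow, map_pow]
          conv_rhs => rw [← zpow_one (π x), ← hab, zpow_add, mul_comm a, mul_comm b, zpow_mul,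
            zpow_mul, zpow_natCast, zpow_natCast, hi, one_zpow, one_mul]
      intro a ha b hb c hc hai hbi hci
      obtain ⟨a', ha', hai', rfl⟩ := lift a ha hai
      obtain ⟨b', hb', hbi', rfl⟩ := lift b hb hbi
      obtain ⟨c', hc', hci', rfl⟩ := lift c hc hci
      have h := h2 a' ha' b' hb' c' hc' hai' hbi' hci'
      rw [← map_commutatorElement, ← map_mul, ← map_mul, h]
  haveI : Group.IsSolvable M := by haveI := hnil; infer_instance
  haveI : Group.IsSolvable N :=
    Group.isSolvable_of_isSolvable_injective (f := Subgroup.inclusion hNM)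
      (Subgroup.inclusion_injective hNM)
  exact (Group.isSolvable_iff_subgroup_quotient N).2 ⟨inferInstance, hq⟩

/-- The theorem in terms of a homomorphism into the automorphism group. -/
theorem solvable {G : Type u} [Group G] [Finite G] (φ : A →* MulAut G)
    (hcop : (Nat.card A).Coprime (Nat.card G)) (M : Subgroup G) (hMtop : M ≠ ⊤)
    (hMinv : ∀ a : A, ∀ m : G, m ∈ M → φ a m ∈ M)
    (hMmax : ∀ H : Subgroup G, M ≤ H → H ≠ ⊤ → (∀ a : A, ∀ h : G, h ∈ H → φ a h ∈ H) → H = M)
    (hnil : Group.IsNilpotent M)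
    (h2 : ∀ S : Sylow 2 ↥M, Group.nilpotencyClass ↥(S : Subgroup ↥M) ≤ 2) :
    Group.IsSolvable G := by
  letI : MulDistribMulAction A G := MulDistribMulAction.compHom G φ
  refine solvable_aux hFT hFT' _ G rfl hcop M hMinv hMtop hMmax hnil ?_
  haveI := hnil
  obtain ⟨S⟩ : Nonempty (Sylow 2 M) := inferInstance
  haveI hSn : (S : Subgroup M).Normal :=
    Sylow.normal_of_normalizerCondition Group.normalizerCondition_of_isNilpotent S
  haveI := S.2.isNilpotent
  have hel : ∀ y : M, (∃ i, (y : G) ^ 2 ^ i = 1) → y ∈ (S : Subgroup M) := by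
    rintro y ⟨i, hi⟩
    have hz : IsPGroup 2 (zpowers y) := by
      rintro ⟨z, hz⟩
      obtain ⟨m, rfl⟩ := mem_zpowers_iff.1 hz
      refine ⟨i, Subtype.ext ?_⟩
      simp only [SubmonoidClass.coe_pow, OneMemClass.coe_one]
      rw [← zpow_natCast, ← zpow_mul, mul_comm, zpow_mul, zpow_natCast,
        show y ^ 2 ^ i = 1 from Subtype.ext hi, one_zpow]
    obtain ⟨Q, hQ⟩ := hz.exists_le_sylow
    obtain ⟨c, hc⟩ := MulAction.exists_smul_eq M S Q
    rw [Sylow.smul_eq_of_normal] at hc
    rw [hc]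
    exact hQ (mem_zpowers y)
  intro a ha b hb c hc hai hbi hci
  have h := mem_center_iff.1 (Cfsg.Lib.PGroup.commutator_le_center_of_nilpotencyClass_le (h2 S)
    (commutator_mem_commutator (mem_top (⟨⟨a, ha⟩, hel _ hai⟩ : (S : Subgroup M)))
      (mem_top (⟨⟨b, hb⟩, hel _ hbi⟩ : (S : Subgroup M))))) ⟨⟨c, hc⟩, hel _ hci⟩
  exact congrArg (fun x : (S : Subgroup M) => ((x : M) : G)) h

end Cfsg.Lib.FTCons.DeskinsJanko
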