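import Cfsg.Agent.Lib.ZStar.Main
import Cfsg.Agent.Lib.Invol.Isolated

/-!
# Central elements of a complementary direct factor of a Sylow 2-subgroup

A group `X` has a normal subgroup `G` and a complement `T` centralising a Sylow 2-subgroup `S` of
`G`, with `S T` a Sylow 2-subgroup of `X`. Central elements of `T` lying in the derived subgroup,
or in the commutator with an automorphism fixing `S`, have no other conjugate in `S T`.
-/

set_option autoImplicit false
set_option linter.style.haveILetI false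
set_option linter.unusedSectionVars false

namespace Cfsg.Lib.FTCons

open Subgroup

variable {X : Type*} [Group X] [Finite X]

/-- A normal subgroup, a complement and a direct decomposition of a Sylow 2-subgroup. -/
structure Direct (G S T : Subgroup X) (P : Sylow 2 X) : Prop where
  norm : G.Normal
  le : S ≤ G
  disj : G ⊓ T = ⊥
  top : G ⊔ T = ⊤
  sup : (P : Subgroup X) = S ⊔ T
  comm : ∀ s ∈ S, ∀ t ∈ T, Commute s t

variable {G S T : Subgroup X} {P : Sylow 2 X} (D : Direct G S T P)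
include D

theorem Direct.S_le : S ≤ (P : Subgroup X) := D.sup ▸ le_sup_left

theorem Direct.T_le : T ≤ (P : Subgroup X) := D.sup ▸ le_sup_right

theorem Direct.mem_sylow {x : X} (hx : x ∈ (P : Subgroup X)) : ∃ s ∈ S, ∃ t ∈ T, x = s * t := by
  rw [D.sup, sup_eq_closure] at hx
  induction hx using closure_induction with
  | mem x h =>
    rcases h with h | h
    · exact ⟨x, h, 1, one_mem _, (mul_one x).symm⟩
    · exact ⟨1, one_mem _, x, h, (one_mul x).symm⟩
  | one => exact ⟨1, one_mem _, 1, one_mem _, (one_mul 1).symm⟩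
  | inv x _ hx =>
    obtain ⟨s, hs, t, ht, rfl⟩ := hx
    exact ⟨s⁻¹, inv_mem hs, t⁻¹, inv_mem ht, by rw [mul_inv_rev, (D.comm _ (inv_mem hs) _ (inv_mem ht)).eq]⟩
  | mul x y _ _ hx hy =>
    obtain ⟨s, hs, t, ht, rfl⟩ := hx
    obtain ⟨s', hs', t', ht', rfl⟩ := hy
    refine ⟨s * s', mul_mem hs hs', t * t', mul_mem ht ht', ?_⟩
    rw [mul_assoc s t, ← mul_assoc t s', ← (D.comm s' hs' t ht).eq]
    simp only [mul_assoc]

theorem Direct.mem_left {x : X} (hx : x ∈ (P : Subgroup X)) (hG : x ∈ G) : x ∈ S := by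
  obtain ⟨s, hs, t, ht, rfl⟩ := D.mem_sylow hx
  have : t ∈ G ⊓ T := ⟨by simpa using mul_mem (inv_mem (D.le hs)) hG, ht⟩
  rw [D.disj, mem_bot] at this
  rwa [this, mul_one]

theorem Direct.split (x : X) : ∃ t ∈ T, ∃ g ∈ G, x = t * g := by
  haveI := D.norm
  have hx : x ∈ T ⊔ G := by rw [sup_comm, D.top]; trivial
  obtain ⟨t, ht, g, hg, e⟩ := mem_sup_of_normal_right.1 hx
  exact ⟨t, ht, g, hg, e.symm⟩

/-- An element of `G` moving a subgroup of `S` into `S` and `T` into `S T`. -/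
theorem Direct.exists_move {u x : X} (hu : u ∈ T) (hcu : ∀ t ∈ T, Commute t u) {g : X}
    (hg : g * u * g⁻¹ = x) (W : Subgroup X) (hW : IsPGroup 2 W) (hWx : ∀ w ∈ W, Commute w x) :
    ∃ h ∈ G, h * x * h⁻¹ = u ∧ ∀ w ∈ W, h * w * h⁻¹ ∈ (P : Subgroup X) := by
  have hPu : (P : Subgroup X) ≤ centralizer ({u} : Set X) := fun w hw => by
    obtain ⟨s, hs, t, ht, rfl⟩ := D.mem_sylow hw
    exact mem_centralizer_singleton_iff.2 ((D.comm s hs u hu).mul_left (hcu t ht)).eq
  set C := centralizer ({u} : Set X) with hC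
  set W' := W.map (MulAut.conj g⁻¹).toMonoidHom with hW'
  have hW'C : W' ≤ C := by
    rintro _ ⟨w, hw, rfl⟩
    rw [hC, mem_centralizer_singleton_iff]
    show g⁻¹ * w * g⁻¹⁻¹ * u = u * (g⁻¹ * w * g⁻¹⁻¹)
    have e := (hWx w hw).eq
    rw [← hg] at e
    calc g⁻¹ * w * g⁻¹⁻¹ * u = g⁻¹ * (w * (g * u * g⁻¹)) * g := by group
      _ = g⁻¹ * (g * u * g⁻¹ * w) * g := by rw [e]
      _ = u * (g⁻¹ * w * g⁻¹⁻¹) := by group
  obtain ⟨R, hR⟩ := ((hW.map (MulAut.conj g⁻¹).toMonoidHom).comap_subtype :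
    IsPGroup 2 (W'.subgroupOf C)).exists_le_sylow
  obtain ⟨c, hc⟩ := MulAction.exists_smul_eq C R (P.subtype hPu)
  have hmem : ∀ w ∈ W, ((c : X) * g⁻¹) * w * ((c : X) * g⁻¹)⁻¹ ∈ (P : Subgroup X) := by
    intro w hw
    have h1 : (MulAut.conj g⁻¹).toMonoidHom w ∈ W' := mem_map_of_mem _ hw
    have h2 : (c * ⟨_, hW'C h1⟩ * c⁻¹ : C) ∈ ((c • R : Sylow 2 C) : Subgroup C) := by
      show _ ∈ ((R : Subgroup C).map (MulAut.conj c).toMonoidHom)
      exact ⟨⟨_, hW'C h1⟩, hR (mem_subgroupOf.2 h1), rfl⟩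
    rw [hc] at h2
    have h3 : (c : X) * (g⁻¹ * w * g⁻¹⁻¹) * (c : X)⁻¹ ∈ (P : Subgroup X) := h2
    convert h3 using 1
    group
  obtain ⟨t, ht, h, hh, e⟩ := D.split ((c : X) * g⁻¹)
  refine ⟨h, hh, ?_, fun w hw => ?_⟩
  · have hcu' : (c : X) * u * (c : X)⁻¹ = u := by
      rw [mem_centralizer_singleton_iff.1 c.2, mul_inv_cancel_right]
    have e1 : h = t⁻¹ * ((c : X) * g⁻¹) := by rw [e]; group
    calc h * x * h⁻¹ = t⁻¹ * ((c : X) * u * (c : X)⁻¹) * t := by rw [e1, ← hg]; group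
      _ = t⁻¹ * (u * t) := by rw [hcu', mul_assoc]
      _ = u := by rw [← (hcu t ht).eq, inv_mul_cancel_left]
  · have := mul_mem (mul_mem (inv_mem (D.T_le ht)) (hmem w hw)) (D.T_le ht)
    rw [e] at this
    convert this using 1
    group

omit [Finite X] in
/-- The part in `G` of the conjugate of an element of `T`. -/
def shift (h t : X) : X := h * t * h⁻¹ * t⁻¹

theorem Direct.shift_mem {h t : X} (hh : h ∈ G) (ht : t ∈ T)
    (hP : h * t * h⁻¹ ∈ (P : Subgroup X)) : shift h t ∈ S :=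
  D.mem_left (mul_mem hP (inv_mem (D.T_le ht))) (by
    have := mul_mem hh (D.norm.conj_mem _ (inv_mem hh) t)
    simpa [shift, mul_assoc] using this)

theorem Direct.shift_mul {h a b : X} (ha : a ∈ T) (hb : shift h b ∈ S) :
    shift h (a * b) = shift h a * shift h b := by
  calc shift h (a * b) = shift h a * (a * shift h b * a⁻¹) := by unfold shift; group
    _ = shift h a * shift h b := by rw [← (D.comm _ hb a ha).eq, mul_inv_cancel_right]

omit D

/-- The centraliser in `S` of an element. -/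
abbrev cS (S : Subgroup X) (s : X) : Subgroup X := S ⊓ centralizer ({s} : Set X)

/-- A conjugate of `u` in `S u` other than `u`. -/
def Bad (S : Subgroup X) (u s : X) : Prop := s ∈ S ∧ s ≠ 1 ∧ ∃ g : X, g * u * g⁻¹ = s * u

/-- A bad element with the largest centraliser. -/
def MaxBad (S : Subgroup X) (u s : X) : Prop :=
  Bad S u s ∧ ∀ s', Bad S u s' → Nat.card (cS S s') ≤ Nat.card (cS S s)

theorem exists_maxBad {u s : X} (h : Bad S u s) : ∃ s', MaxBad S u s' := by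
  classical
  obtain ⟨s', hs', hmax⟩ := Set.exists_max_image {s' : X | Bad S u s'}
    (fun s' => Nat.card (cS S s')) (Set.toFinite _) ⟨s, h⟩
  exact ⟨s', hs', fun a ha => hmax a ha⟩

include D

variable {u s : X}

/-- What moving the centraliser of a maximal bad conjugate into `S T` does. -/
theorem Direct.moved (hu : u ∈ T) (hcu : ∀ t ∈ T, Commute t u) (hs : MaxBad S u s) {h : X}
    (hh : h ∈ G) (hP : ∀ w ∈ cS S s ⊔ T, h * w * h⁻¹ ∈ (P : Subgroup X)) :
    (∀ e ∈ cS S s, h * e * h⁻¹ ∈ S) ∧ (∀ t ∈ T, shift h t ∈ S) ∧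
      (∀ t ∈ T, ∀ e ∈ cS S s, Commute (shift h t) (h * e * h⁻¹)) ∧
      ∀ t ∈ T, ∃ e ∈ cS S s, shift h t = h * e * h⁻¹ := by
  haveI := D.norm
  have h1 : ∀ e ∈ cS S s, h * e * h⁻¹ ∈ S := fun e he =>
    D.mem_left (hP e (mem_sup_left he)) (D.norm.conj_mem e (D.le he.1) h)
  have h2 : ∀ t ∈ T, shift h t ∈ S := fun t ht => D.shift_mem hh ht (hP t (mem_sup_right ht))
  have h3 : ∀ t ∈ T, ∀ e ∈ cS S s, Commute (shift h t) (h * e * h⁻¹) := by
    intro t ht e he
    have a : Commute (h * t * h⁻¹) (h * e * h⁻¹) :=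
      (D.comm e he.1 t ht).symm.map (MulAut.conj h).toMonoidHom
    have b : Commute t⁻¹ (h * e * h⁻¹) := (D.comm _ (h1 e he) t ht).symm.inv_left
    exact a.mul_left b
  refine ⟨h1, h2, h3, fun t ht => ?_⟩
  obtain ⟨hsS, hs1, g, hg⟩ := hs.1
  have hsE : s ∈ cS S s := ⟨hsS, mem_centralizer_singleton_iff.2 rfl⟩
  have hsu : ∀ t ∈ T, Commute (shift h t) (shift h u) := by
    intro t ht
    show shift h t * shift h u = shift h u * shift h t
    rw [← D.shift_mul ht (h2 u hu), ← D.shift_mul hu (h2 t ht), (hcu t ht).eq]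
  have hEu : ∀ e ∈ cS S s, Commute (h * e * h⁻¹) (shift h u) := fun e he => (h3 u hu e he).symm
  have hEs : ∀ e ∈ cS S s, Commute (h * e * h⁻¹) (h * s * h⁻¹) := fun e he =>
    (show Commute e s from mem_centralizer_singleton_iff.1 he.2).map (MulAut.conj h).toMonoidHom
  have hts : Commute (shift h t) (h * s * h⁻¹) := h3 t ht s hsE
  obtain ⟨s', hbad, hEle, htle⟩ : ∃ s', Bad S u s' ∧
      (∀ e ∈ cS S s, Commute (h * e * h⁻¹) s') ∧ Commute (shift h t) s' := by
    by_cases hc : h * s * h⁻¹ * shift h u = 1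
    · refine ⟨shift h u, ⟨h2 u hu, fun e => hs1 ?_, h, by unfold shift; group⟩, hEu, hsu t ht⟩
      rw [e, mul_one, conj_eq_one_iff] at hc
      exact hc
    · refine ⟨h * s * h⁻¹ * shift h u, ⟨mul_mem (h1 s hsE) (h2 u hu), hc, h * g, ?_⟩,
        fun e he => (hEs e he).mul_right (hEu e he), hts.mul_right (hsu t ht)⟩
      calc h * g * u * (h * g)⁻¹ = h * (g * u * g⁻¹) * h⁻¹ := by group
        _ = h * s * h⁻¹ * shift h u * u := by rw [hg]; unfold shift; group
  have hle : (cS S s).map (MulAut.conj h).toMonoidHom ≤ cS S s' := by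
    rintro _ ⟨e, he, rfl⟩
    exact ⟨h1 e he, mem_centralizer_singleton_iff.2 (hEle e he).eq⟩
  have hcard : Nat.card (cS S s') ≤ Nat.card ((cS S s).map (MulAut.conj h).toMonoidHom) := by
    rw [card_map_of_injective (MulAut.conj h).injective]
    exact hs.2 s' hbad
  have hmem : shift h t ∈ cS S s' := ⟨h2 t ht, mem_centralizer_singleton_iff.2 htle.eq⟩
  rw [← eq_of_le_of_card_ge hle hcard] at hmem
  obtain ⟨e, he, h'⟩ := hmem
  exact ⟨e, he, h'.symm⟩

theorem Direct.isPGroup_cS_sup (s : X) : IsPGroup 2 ↥(cS S s ⊔ T) :=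
  P.2.to_le (sup_le (inf_le_left.trans D.S_le) D.T_le)

/-- A 2-element of `G` centralising the centraliser in `S` of a maximal bad conjugate and
moving `T` within it centralises `T`. -/
theorem Direct.stab_trivial (hu : u ∈ T) (hcu : ∀ t ∈ T, Commute t u) (hs : MaxBad S u s) {l : X}
    (hl : l ∈ G) (hl2 : ∃ k : ℕ, l ^ 2 ^ k = 1) (hE : ∀ e ∈ cS S s, Commute l e)
    (hT : ∀ t ∈ T, l * t * l⁻¹ * t⁻¹ ∈ cS S s) : ∀ t ∈ T, Commute l t := by
  haveI := D.norm
  set W := cS S s ⊔ T with hWdef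
  have hconj : ∀ l' : X, (∀ e ∈ cS S s, l' * e * l'⁻¹ ∈ W) → (∀ t ∈ T, l' * t * l'⁻¹ ∈ W) →
      l' ∈ normalizer (W : Set X) := by
    intro l' h1 h2
    have hle : W.map (MulAut.conj l').toMonoidHom ≤ W := by
      rw [hWdef, Subgroup.map_sup]
      exact sup_le (by rintro _ ⟨e, he, rfl⟩; exact h1 e he) (by rintro _ ⟨t, ht, rfl⟩; exact h2 t ht)
    have heq := eq_of_le_of_card_ge hle (by rw [card_map_of_injective (MulAut.conj l').injective])
    refine mem_normalizer_iff.2 fun w => ⟨fun hw => hle (mem_map_of_mem _ hw), fun hw => ?_⟩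
    rw [← heq] at hw
    obtain ⟨w', hw', e⟩ := hw
    rwa [← (MulAut.conj l').injective e]
  have hlN : l ∈ normalizer (W : Set X) := hconj l
    (fun e he => by rw [(hE e he).eq, mul_inv_cancel_right]; exact mem_sup_left he)
    (fun t ht => by
      simpa [mul_assoc] using mul_mem (mem_sup_left (hT t ht)) (mem_sup_right ht : t ∈ W))
  have hzp : IsPGroup 2 (zpowers l) := by
    obtain ⟨k, hk⟩ := hl2
    rintro ⟨y, hy⟩
    obtain ⟨m, rfl⟩ := mem_zpowers_iff.1 hy
    refine ⟨k, Subtype.ext ?_⟩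
    simp only [SubmonoidClass.coe_pow, OneMemClass.coe_one]
    rw [← zpow_natCast, ← zpow_mul, mul_comm, zpow_mul, zpow_natCast, hk, one_zpow]
  have hLW : IsPGroup 2 ↥(zpowers l ⊔ W) :=
    hzp.to_sup_of_normal_right' (D.isPGroup_cS_sup s) (zpowers_le.2 hlN)
  obtain ⟨R, hR⟩ := hLW.exists_le_sylow
  obtain ⟨j₀, hj₀⟩ := MulAction.exists_smul_eq X R P
  obtain ⟨t₀, ht₀, j, hj, e⟩ := D.split j₀
  have hjP : ∀ w ∈ zpowers l ⊔ W, j * w * j⁻¹ ∈ (P : Subgroup X) := by
    intro w hw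
    have h2 : j₀ * w * j₀⁻¹ ∈ ((j₀ • R : Sylow 2 X) : Subgroup X) := ⟨w, hR hw, rfl⟩
    rw [hj₀] at h2
    have := mul_mem (mul_mem (inv_mem (D.T_le ht₀)) h2) (D.T_le ht₀)
    rw [e] at this
    convert this using 1
    group
  obtain ⟨h1, h2, h3, h4⟩ := D.moved hu hcu hs hj fun w hw => hjP w (mem_sup_right hw)
  have hjl : j * l * j⁻¹ ∈ S :=
    D.mem_left (hjP l (mem_sup_left (mem_zpowers l))) (D.norm.conj_mem l hl j)
  intro t ht
  obtain ⟨e', he', heq⟩ := h4 t ht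
  have c1 : Commute (j * l * j⁻¹) (shift j t) := by
    rw [heq]; exact (hE e' he').map (MulAut.conj j).toMonoidHom
  have c2 : Commute (j * l * j⁻¹) (shift j t * t) := c1.mul_right (D.comm _ hjl t ht)
  have c3 := c2.map (MulAut.conj j⁻¹).toMonoidHom
  simpa [shift, mul_assoc] using c3

/-- A maximal bad conjugate, moved to `u`. -/
theorem Direct.exists_push (hu : u ∈ T) (hcu : ∀ t ∈ T, Commute t u) (hs : MaxBad S u s) :
    ∃ h ∈ G, (∀ w ∈ cS S s ⊔ T, h * w * h⁻¹ ∈ (P : Subgroup X)) ∧ shift h u ≠ 1 := by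
  obtain ⟨hsS, hs1, g, hg⟩ := hs.1
  have hW : ∀ w ∈ cS S s ⊔ T, Commute w (s * u) := by
    intro w hw
    refine (mem_centralizer_singleton_iff.1 (show w ∈ centralizer ({s * u} : Set X) from ?_))
    refine (sup_le (fun e he => ?_) (fun t ht => ?_) : cS S s ⊔ T ≤ _) hw
    · exact mem_centralizer_singleton_iff.2
        ((show Commute e s from mem_centralizer_singleton_iff.1 he.2).mul_right (D.comm e he.1 u hu)).eq
    · exact mem_centralizer_singleton_iff.2 ((D.comm s hsS t ht).symm.mul_right (hcu t ht)).eq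
  obtain ⟨h, hh, hxu, hP⟩ := D.exists_move hu hcu hg _ (D.isPGroup_cS_sup s) hW
  refine ⟨h, hh, hP, fun e => hs1 ?_⟩
  have : h * s * h⁻¹ * shift h u = 1 := by
    calc h * s * h⁻¹ * shift h u = h * (s * u) * h⁻¹ * u⁻¹ := by unfold shift; group
      _ = 1 := by rw [hxu, mul_inv_cancel]
  rw [e, mul_one, conj_eq_one_iff] at this
  exact this

omit D in
/-- Being killed by all homomorphisms given by such moves. -/
theorem shift_closure (D : Direct G S T P) {h : X} (hS : ∀ t ∈ T, shift h t ∈ S) {A : Set X}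
    (hA : A ⊆ T) (h0 : ∀ a ∈ A, shift h a = 1) {x : X} (hx : x ∈ closure A) : shift h x = 1 := by
  suffices x ∈ T ∧ shift h x = 1 from this.2
  induction hx using closure_induction with
  | mem a ha => exact ⟨hA ha, h0 a ha⟩
  | one => exact ⟨one_mem _, by unfold shift; group⟩
  | mul a b _ _ ha hb => exact ⟨mul_mem ha.1 hb.1, by rw [D.shift_mul ha.1 (hS b hb.1), ha.2, hb.2, one_mul]⟩
  | inv a _ ha =>
    have := D.shift_mul (h := h) (inv_mem ha.1) (hS a ha.1)
    rw [inv_mul_cancel, ha.2, mul_one] at this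
    exact ⟨inv_mem ha.1, this.symm.trans (by unfold shift; group)⟩

/-- Without bad conjugates, `u` has no other conjugate in the Sylow subgroup. -/
theorem Direct.conj_eq (hu : u ∈ T) (hcu : ∀ t ∈ T, Commute t u) (hbad : ∀ s, ¬ Bad S u s) (x : X)
    (hx : x * u * x⁻¹ ∈ (P : Subgroup X)) : x * u * x⁻¹ = u := by
  haveI := D.norm
  obtain ⟨t₀, ht₀, g, hg, rfl⟩ := D.split x
  have e0 : t₀ * g * u * (t₀ * g)⁻¹ = t₀ * (g * u * g⁻¹) * t₀⁻¹ := by group
  have hgP : g * u * g⁻¹ ∈ (P : Subgroup X) := by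
    have := mul_mem (mul_mem (inv_mem (D.T_le ht₀)) hx) (D.T_le ht₀)
    rw [e0] at this
    convert this using 1
    group
  have hS := D.shift_mem hg hu hgP
  by_cases h1 : shift g u = 1
  · rw [shift, mul_inv_eq_one] at h1
    rw [e0, h1, (hcu t₀ ht₀).eq, mul_inv_cancel_right]
  · exact absurd ⟨hS, h1, g, by unfold shift; group⟩ (hbad (shift g u))

/-- Central elements of `T` in its derived subgroup. -/
theorem Direct.conj_eq_of_derived (hcu : ∀ t ∈ T, Commute t u) (hu : u ∈ ⁅T, T⁆) (x : X)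
    (hx : x * u * x⁻¹ ∈ (P : Subgroup X)) : x * u * x⁻¹ = u := by
  have huT : u ∈ T := commutator_le.2 (fun a ha b hb => by
    rw [commutatorElement_def]
    exact mul_mem (mul_mem (mul_mem ha hb) (inv_mem ha)) (inv_mem hb)) hu
  refine D.conj_eq huT hcu (fun s₀ hs₀ => ?_) x hx
  obtain ⟨s, hs⟩ := exists_maxBad hs₀
  obtain ⟨h, hh, hP, hne⟩ := D.exists_push huT hcu hs
  obtain ⟨h1, h2, h3, h4⟩ := D.moved huT hcu hs hh hP
  rw [Subgroup.commutator_def] at hu
  refine hne (shift_closure D h2 ?_ ?_ hu)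
  · rintro _ ⟨a, ha, b, hb, rfl⟩
    rw [commutatorElement_def]
    exact mul_mem (mul_mem (mul_mem ha hb) (inv_mem ha)) (inv_mem hb)
  · rintro _ ⟨a, ha, b, hb, rfl⟩
    obtain ⟨e, he, heq⟩ := h4 b hb
    have hc : Commute (shift h a) (shift h b) := heq ▸ h3 a ha e he
    have hinv : ∀ c ∈ T, shift h c⁻¹ = (shift h c)⁻¹ := fun c hc => by
      have := D.shift_mul (h := h) (inv_mem hc) (h2 c hc)
      rw [inv_mul_cancel, show shift h (1 : X) = 1 by unfold shift; group] at this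
      exact eq_inv_of_mul_eq_one_left this.symm
    rw [commutatorElement_def, D.shift_mul (mul_mem (mul_mem ha hb) (inv_mem ha)) (h2 _ (inv_mem hb)),
      D.shift_mul (mul_mem ha hb) (h2 _ (inv_mem ha)), D.shift_mul ha (h2 b hb), hinv a ha, hinv b hb,
      hc.eq, mul_inv_cancel_right, mul_inv_cancel]

/-- Central elements of `T` in its commutator with an automorphism fixing `S`. -/
theorem Direct.conj_eq_of_aut (hu : u ∈ T) (hcu : ∀ t ∈ T, Commute t u) (β : MulAut X)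
    (hβG : ∀ g ∈ G, β g ∈ G) (hβS : ∀ a ∈ S, β a = a) (hβT : ∀ t ∈ T, β t ∈ T)
    (hmem : u ∈ closure ((fun t => t⁻¹ * β t) '' (T : Set X))) (x : X)
    (hx : x * u * x⁻¹ ∈ (P : Subgroup X)) : x * u * x⁻¹ = u := by
  haveI := D.norm
  refine D.conj_eq hu hcu (fun s₀ hs₀ => ?_) x hx
  obtain ⟨s, hs⟩ := exists_maxBad hs₀
  obtain ⟨h, hh, hP, hne⟩ := D.exists_push hu hcu hs
  obtain ⟨h1, h2, h3, h4⟩ := D.moved hu hcu hs hh hP
  refine hne (shift_closure D h2 ?_ ?_ hmem)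
  · rintro _ ⟨t, ht, rfl⟩
    exact mul_mem (inv_mem ht) (hβT t ht)
  rintro _ ⟨t, ht, rfl⟩
  set c := h⁻¹ * β h with hc
  have hcG : c ∈ G := mul_mem (inv_mem hh) (hβG h hh)
  have hcE : ∀ e ∈ cS S s, Commute c e := by
    intro e he
    have e1 : β h * e * (β h)⁻¹ = h * e * h⁻¹ := by
      conv_lhs => rw [← hβS e he.1, ← map_inv, ← map_mul, ← map_mul, hβS _ (h1 e he)]
    show c * e = e * c
    calc c * e = h⁻¹ * (β h * e * (β h)⁻¹) * β h := by rw [hc]; group
      _ = e * c := by rw [e1, hc]; group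
  have hcT : ∀ r ∈ T, c * β r * c⁻¹ * (β r)⁻¹ = h⁻¹ * (shift h r * (shift h (β r))⁻¹) * h := by
    intro r hr
    have e1 : β h * β r * (β h)⁻¹ = shift h r * β r := by
      rw [← map_inv, ← map_mul, ← map_mul]
      conv_rhs => rw [← hβS _ (h2 r hr), ← map_mul]
      congr 1
      unfold shift; group
    calc c * β r * c⁻¹ * (β r)⁻¹ = h⁻¹ * (β h * β r * (β h)⁻¹) * h * (β r)⁻¹ := by rw [hc]; group
      _ = _ := by rw [e1]; unfold shift; group
  -- the automorphism is onto `T`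
  have honto : ∀ r' ∈ T, ∃ r ∈ T, β r = r' := by
    intro r' hr'
    have heq : T.map β.toMonoidHom = T :=
      eq_of_le_of_card_ge (by rintro _ ⟨r, hr, rfl⟩; exact hβT r hr)
        (by rw [card_map_of_injective β.injective])
    rw [← heq] at hr'
    obtain ⟨r, hr, e⟩ := hr'
    exact ⟨r, hr, e⟩
  have hcT' : ∀ r' ∈ T, c * r' * c⁻¹ * r'⁻¹ ∈ cS S s := by
    intro r' hr'
    obtain ⟨r, hr, rfl⟩ := honto r' hr'
    obtain ⟨a, ha, ea⟩ := h4 r hr
    obtain ⟨b, hb, eb⟩ := h4 (β r) hr'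
    rw [hcT r hr, ea, eb]
    convert mul_mem ha (inv_mem hb) using 1
    group
  have hpow : ∀ n : ℕ, ∀ r ∈ T, c ^ n * r * (c ^ n)⁻¹ * r⁻¹ = (c * r * c⁻¹ * r⁻¹) ^ n := by
    intro n r hr
    induction n with
    | zero => simp
    | succ n ih =>
      have hτ : Commute c ((c * r * c⁻¹ * r⁻¹) ^ n) := (hcE _ (hcT' r hr)).pow_right n
      calc c ^ (n + 1) * r * (c ^ (n + 1))⁻¹ * r⁻¹
          = c * (c ^ n * r * (c ^ n)⁻¹ * r⁻¹) * c⁻¹ * (c * r * c⁻¹ * r⁻¹) := by
            rw [pow_succ']; group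
        _ = (c * r * c⁻¹ * r⁻¹) ^ n * (c * r * c⁻¹ * r⁻¹) := by
            rw [ih, hτ.eq, mul_inv_cancel_right]
        _ = _ := (pow_succ _ n).symm
  obtain ⟨k, m, hm, hcard⟩ := Nat.exists_eq_two_pow_mul_odd (orderOf_pos c).ne'
  obtain ⟨a, ha⟩ := IsPGroup.iff_card.1 (P.2.to_le (inf_le_left.trans D.S_le) : IsPGroup 2 (cS S s))
  have hm' : ∀ r ∈ T, Commute (c ^ m) r := by
    refine D.stab_trivial hu hcu hs (pow_mem hcG m) ⟨k, ?_⟩ (fun e he => (hcE e he).pow_left m)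
      fun r hr => by rw [hpow m r hr]; exact pow_mem (hcT' r hr) m
    rw [← pow_mul, mul_comm m, ← hcard, pow_orderOf_eq_one]
  have h2a : ∀ r ∈ T, Commute (c ^ 2 ^ a) r := by
    intro r hr
    have := hpow (2 ^ a) r hr
    rw [show (c * r * c⁻¹ * r⁻¹) ^ 2 ^ a = 1 from by
      have h' : (⟨_, hcT' r hr⟩ : cS S s) ^ Nat.card (cS S s) = 1 := pow_card_eq_one'
      rw [ha] at h'
      exact congrArg Subtype.val h', mul_inv_eq_one, mul_inv_eq_iff_eq_mul] at this
    exact this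
  have hcc : ∀ r ∈ T, Commute c r := by
    intro r hr
    have hco : Nat.Coprime m (2 ^ a) := (hm.coprime_two_right).pow_right a
    have hg := Nat.gcd_eq_gcd_ab m (2 ^ a)
    rw [hco.gcd_eq_one, Nat.cast_one] at hg
    have : c = (c ^ m) ^ (Nat.gcdA m (2 ^ a)) * (c ^ 2 ^ a) ^ (Nat.gcdB m (2 ^ a)) := by
      rw [← zpow_natCast c m, ← zpow_natCast c (2 ^ a), ← zpow_mul, ← zpow_mul, ← zpow_add, ← hg,
        zpow_one]
    rw [this]
    exact ((hm' r hr).zpow_left _).mul_left ((h2a r hr).zpow_left _)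
  have e2 := hcT t ht
  rw [(hcc _ (hβT t ht)).eq, mul_inv_cancel_right, mul_inv_cancel] at e2
  have e3 : shift h t = shift h (β t) := by
    rw [← mul_inv_eq_one]
    have e4 : shift h t * (shift h (β t))⁻¹ =
        h * (h⁻¹ * (shift h t * (shift h (β t))⁻¹) * h) * h⁻¹ := by group
    rw [e4, ← e2]; group
  have hi := D.shift_mul (h := h) (inv_mem ht) (h2 t ht)
  rw [inv_mul_cancel, show shift h (1 : X) = 1 by unfold shift; group] at hi
  rw [D.shift_mul (inv_mem ht) (h2 _ (hβT t ht)), ← e3]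
  exact hi.symm

end Cfsg.Lib.FTCons
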