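import Cfsg.Agent.Lib.FTCons.ComplementConj
import Cfsg.Agent.Lib.Perm.HallSym.Dom
import Cfsg.Agent.Lib.Core.PSolvable
import Mathlib.GroupTheory.SchurZassenhaus

/-!
# Hall subgroups in extensions

Extensions of groups with conjugate Hall subgroups have conjugate Hall subgroups, and the
separable groups have the full analogue of the theorems of Sylow, given that groups of odd order
are solvable.
-/

set_option autoImplicit false
set_option linter.style.haveILetI false

namespace Cfsg.Lib.FTCons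

open Subgroup
open Cfsg.Lib.HallSym (Dominated)

universe u v

variable {G : Type u} [Group G] [Finite G] {π : Set ℕ}

theorem coprime_of_pi {a b : ℕ} (ha : ∀ p : ℕ, p.Prime → p ∣ a → p ∈ π)
    (hb : ∀ p : ℕ, p.Prime → p ∈ π → ¬ p ∣ b) : a.Coprime b :=
  Nat.coprime_of_dvd fun p hp h1 h2 => hb p hp (ha p hp h1) h2

theorem dvd_or_dvd_of_prime_dvd_mul {p a b : ℕ} (hp : p.Prime) (h : p ∣ a * b) : p ∣ a ∨ p ∣ b :=
  (Nat.Prime.dvd_mul hp).1 h

theorem card_comap_surjective {X : Type*} [Group X] [Finite X] {Y : Type*} [Group Y] (f : X →* Y)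
    (hf : Function.Surjective f) (T : Subgroup Y) :
    Nat.card (T.comap f) = Nat.card f.ker * Nat.card T := by
  haveI : Finite Y := Finite.of_surjective f hf
  rw [← card_mul_index (⊤ : Subgroup T), index_top, mul_one, card_top]
  have h1 := (T.comap f).card_mul_index
  rw [index_comap_of_surjective T hf] at h1
  have h2 := f.ker.card_mul_index
  rw [index_ker, MonoidHom.range_eq_top.2 hf, card_top, ← T.card_mul_index] at h2
  rw [← h2, ← mul_assoc] at h1
  exact Nat.eq_of_mul_eq_mul_right (Nat.pos_of_ne_zero Subgroup.index_ne_zero_of_finite) h1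

theorem hall_comap_of_pi {X : Type*} [Group X] [Finite X] {Y : Type*} [Group Y] (f : X →* Y)
    (hf : Function.Surjective f) (hk : ∀ p : ℕ, p.Prime → p ∣ Nat.card f.ker → p ∈ π) {T : Subgroup Y}
    (hT : IsPiHall π T) : IsPiHall π (T.comap f) := by
  refine ⟨fun p hp hd => ?_, fun p hp hπ hd => hT.2 p hp hπ (by rwa [index_comap_of_surjective T hf] at hd)⟩
  rw [card_comap_surjective f hf] at hd
  rcases dvd_or_dvd_of_prime_dvd_mul hp hd with h | h
  exacts [hk p hp h, hT.1 p hp h]

/-- A Hall subgroup of a quotient by a kernel of order prime to the set lifts. -/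
theorem exists_hall_of_piPrime {X : Type*} [Group X] [Finite X] {Y : Type*} [Group Y] (f : X →* Y)
    (hf : Function.Surjective f) (hk : ∀ p : ℕ, p.Prime → p ∈ π → ¬ p ∣ Nat.card f.ker) {T : Subgroup Y}
    (hT : IsPiHall π T) :
    ∃ H : Subgroup X, IsPiHall π H ∧ T.comap f = f.ker ⊔ H := by
  haveI : Finite Y := Finite.of_surjective f hf
  set L := T.comap f with hL
  have hKL : f.ker ≤ L := ker_le_comap f T
  have hLcard := card_comap_surjective f hf T
  have hkc : Nat.card (f.ker.subgroupOf L) = Nat.card f.ker :=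
    Nat.card_congr (subgroupOfEquivOfLe hKL).toEquiv
  have hidx : (f.ker.subgroupOf L).index = Nat.card T := by
    have := (f.ker.subgroupOf L).card_mul_index
    rw [hkc, hLcard] at this
    exact Nat.eq_of_mul_eq_mul_left Nat.card_pos this
  obtain ⟨C, hC⟩ := exists_right_complement'_of_coprime (N := f.ker.subgroupOf L) (by
    rw [hkc, hidx]; exact (coprime_of_pi hT.1 hk).symm)
  have hCcard : Nat.card (C.map L.subtype) = Nat.card T := by
    rw [card_map_of_injective L.subtype_injective, ← hidx]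
    exact hC.symm.index_eq_card.symm
  refine ⟨C.map L.subtype, ⟨fun p hp hd => hT.1 p hp (hCcard ▸ hd), fun p hp hπ hd => ?_⟩, ?_⟩
  · have h1 := (C.map L.subtype).card_mul_index
    have h2 := L.card_mul_index
    rw [hLcard, hL, index_comap_of_surjective T hf, mul_comm (Nat.card f.ker), mul_assoc] at h2
    rw [hCcard, ← h2] at h1
    rw [Nat.eq_of_mul_eq_mul_left Nat.card_pos h1] at hd
    rcases dvd_or_dvd_of_prime_dvd_mul hp hd with h | h
    exacts [hk p hp hπ h, hT.2 p hp hπ h]
  · have h1 := congrArg (fun S : Subgroup L => S.map L.subtype) hC.sup_eq_top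
    simp only [Subgroup.map_sup, subgroupOf_map_subtype] at h1
    rw [← MonoidHom.range_eq_map, Subgroup.range_subtype, inf_eq_left.2 hKL] at h1
    exact h1.symm

/-- One step of separability. -/
theorem dominated_of_quotient (hFT : OddSolvable.{u}) (M : Subgroup G) [M.Normal]
    (hM : (∀ p : ℕ, p.Prime → p ∣ Nat.card M → p ∈ π) ∨ ∀ p : ℕ, p.Prime → p ∣ Nat.card M → p ∉ π)
    (h : Dominated π (G ⧸ M)) : Dominated π G := by
  obtain ⟨T, hT, hdom⟩ := h
  set f := QuotientGroup.mk' M with hfdef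
  have hf : Function.Surjective f := QuotientGroup.mk'_surjective M
  have hker : f.ker = M := QuotientGroup.ker_mk' M
  have himg : ∀ K : Subgroup G, IsPiSubgroup π K → ∃ g : G, ∀ k ∈ K, g⁻¹ * k * g ∈ T.comap f := by
    intro K hK
    obtain ⟨gb, hgb⟩ := hdom (K.map f) fun p hp hd => hK p hp (hd.trans (card_map_dvd K f))
    obtain ⟨g, rfl⟩ := hf gb
    refine ⟨g, fun k hk => ?_⟩
    obtain ⟨t, ht, e⟩ := hgb (mem_map_of_mem f hk)
    show f (g⁻¹ * k * g) ∈ T
    rw [map_mul, map_mul, map_inv, ← e]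
    simpa [mul_assoc] using ht
  rcases hM with hM | hM
  · refine ⟨T.comap f, hall_comap_of_pi f hf (by rwa [hker]) hT, fun K hK => ?_⟩
    obtain ⟨g, hg⟩ := himg K hK
    exact ⟨g, fun k hk => ⟨_, hg k hk, by simp [mul_assoc]⟩⟩
  · obtain ⟨H, hH, hLH⟩ := exists_hall_of_piPrime f hf
      (fun p hp hπ hd => hM p hp (hker ▸ hd) hπ) hT
    rw [hker] at hLH
    refine ⟨H, hH, fun K hK => ?_⟩
    obtain ⟨g, hg⟩ := himg K hK
    set K' := K.map (MulAut.conj g⁻¹).toMonoidHom with hK'
    have hK'card : Nat.card K' = Nat.card K := card_map_of_injective (MulAut.conj g⁻¹).injective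
    have hK'le : K' ≤ M ⊔ H := by
      rw [← hLH]
      rintro _ ⟨k, hk, rfl⟩
      simpa using hg k hk
    set H₁ := H ⊓ (M ⊔ K') with hH₁
    have hcopK : (Nat.card M).Coprime (Nat.card K') := by
      rw [hK'card]
      exact (coprime_of_pi hK fun p hp hπ hd => hM p hp hd hπ).symm
    have hcopH : (Nat.card M).Coprime (Nat.card H₁) :=
      ((coprime_of_pi hH.1 fun p hp hπ hd => hM p hp hd hπ).symm).coprime_dvd_right
        (card_dvd_of_le inf_le_left)
    have hle : K' ≤ M ⊔ H₁ := fun k hk => by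
      obtain ⟨m, hm, a, ha, e⟩ := mem_sup_mul le_normalizer_of_normal (hK'le hk)
      rw [← e]
      refine mul_mem_sup hm (mem_inf.2 ⟨ha, ?_⟩)
      rw [show a = m⁻¹ * k by rw [← e, inv_mul_cancel_left]]
      exact mul_mem_sup (inv_mem hm) hk
    have hc : Nat.card H₁ = Nat.card K' := le_antisymm
      (card_le_and_sup le_normalizer_of_normal inf_le_right (inf_eq_bot_of_coprime' hcopH)).1
      (card_le_and_sup le_normalizer_of_normal hle (inf_eq_bot_of_coprime' hcopK)).1
    obtain ⟨x, -, hx⟩ := conj_compl hFT hle hc hcopK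
    refine ⟨g * x⁻¹, fun k hk => ⟨x * (g⁻¹ * k * g) * x⁻¹, ?_, by simp [mul_assoc]⟩⟩
    refine (mem_inf.1 (?_ : _ ∈ H₁)).1
    rw [← hx]
    exact ⟨g⁻¹ * k * g, ⟨k, hk, by simp⟩, by simp⟩

/-- The factor condition of separability. -/
def PiFactor (π : Set ℕ) (d : ℕ) : Prop :=
  (∀ q : ℕ, q.Prime → q ∣ d → q ∈ π) ∨ ∀ q : ℕ, q.Prime → q ∣ d → q ∉ π

theorem piFactor_dvdClosed : Cfsg.Lib.Core.DvdClosed (PiFactor π) := fun a b hab h =>
  h.imp (fun h q hq hd => h q hq (hd.trans hab)) (fun h q hq hd => h q hq (hd.trans hab))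

/-- Separable groups have the full analogue of the theorems of Sylow. -/
theorem dominated_of_chain (hFT : OddSolvable.{u}) : ∀ (m : ℕ) (G : Type u) [Group G] [Finite G],
    Nat.card G ≤ m → Cfsg.Lib.Core.HasFactorChain (PiFactor π) G → Dominated π G := by
  intro m
  induction m with
  | zero => intro G _ _ h; exact absurd h (by have := Nat.card_pos (α := G); omega)
  | succ m ih =>
    intro G _ _ hm hG
    rcases subsingleton_or_nontrivial G with hs | hs
    · refine Cfsg.Lib.HallSym.dominated_of_all fun p hp hd => ?_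
      rw [Nat.card_of_subsingleton (1 : G)] at hd
      exact absurd hd hp.not_dvd_one
    obtain ⟨M, hM⟩ := Cfsg.Lib.Core.exists_isMinNormal_univ (G := G)
    haveI := hM.1
    refine dominated_of_quotient hFT M (hG.minimal_normal piFactor_dvdClosed hM) ?_
    refine ih (G ⧸ M) ?_ (hG.quotient piFactor_dvdClosed M)
    have := Cfsg.Lib.Core.card_quotient_lt hM.2.1
    omega

/-- The Hall theorems for separable groups. -/
theorem separable_hall (hFT : OddSolvable.{u})
    (hsep : ∃ (n : ℕ) (H : Fin (n + 1) → Subgroup G), H 0 = ⊥ ∧ H (Fin.last n) = ⊤ ∧ Monotone H ∧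
      (∀ i, (H i).Normal) ∧
      ∀ i : Fin n, (∀ q : ℕ, q.Prime → q ∣ (H i.castSucc).relIndex (H i.succ) → q ∈ π) ∨
        (∀ q : ℕ, q.Prime → q ∣ (H i.castSucc).relIndex (H i.succ) → q ∉ π)) :
    (∃ K : Subgroup G, Cfsg.IsPiHall π K) ∧
      (∀ K L : Subgroup G, Cfsg.IsPiHall π K → Cfsg.IsPiHall π L →
        ∃ g : G, L = K.map (MulAut.conj g).toMonoidHom) ∧
      ∀ U : Subgroup G, (∀ q : ℕ, q.Prime → q ∣ Nat.card U → q ∈ π) →
        ∃ K : Subgroup G, Cfsg.IsPiHall π K ∧ U ≤ K := by
  have hd : Dominated π G := dominated_of_chain hFT _ G le_rfl hsep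
  exact ⟨hd.isCPiGroup.1, hd.isCPiGroup.2, fun U hU => hd.exists_hall_ge hU⟩

theorem hall_image {A H : Subgroup G} [A.Normal] (hH : IsPiHall π H) :
    IsPiHall π (H.map (QuotientGroup.mk' A)) := by
  refine ⟨fun p hp hd => hH.1 p hp (hd.trans (card_map_dvd H _)), fun p hp hπ hd => ?_⟩
  exact hH.2 p hp hπ (hd.trans (index_map_dvd H (QuotientGroup.mk'_surjective A)))

theorem hall_inf {A H : Subgroup G} [A.Normal] (hH : IsPiHall π H) :
    IsPiHall π ((H ⊓ A).subgroupOf A) := by
  refine ⟨fun p hp hd => hH.1 p hp ?_, fun p hp hπ hd => hH.2 p hp hπ ?_⟩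
  · rw [Nat.card_congr (subgroupOfEquivOfLe inf_le_right).toEquiv] at hd
    exact hd.trans (card_dvd_of_le inf_le_left)
  · have h1 := relIndex_mul_index (inf_le_left : H ⊓ A ≤ H)
    have h2 := relIndex_mul_index (inf_le_right : H ⊓ A ≤ A)
    rw [inf_relIndex_left] at h1
    have h3 : A.relIndex H = Nat.card (H.map (QuotientGroup.mk' A)) := by
      rw [← relIndex_ker (K := H) (QuotientGroup.mk' A), QuotientGroup.ker_mk']
    have h4 : A.index = Nat.card (H.map (QuotientGroup.mk' A)) * (H.map (QuotientGroup.mk' A)).index := by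
      rw [card_mul_index, Subgroup.index_eq_card]
    rw [h3, ← h2, h4, mul_left_comm] at h1
    have h5 := Nat.eq_of_mul_eq_mul_left Nat.card_pos h1
    rw [h5]
    exact Dvd.dvd.mul_right hd _

theorem conj_map_inf {A H : Subgroup G} [A.Normal] (g : G) :
    H.map (MulAut.conj g).toMonoidHom ⊓ A = (H ⊓ A).map (MulAut.conj g).toMonoidHom := by
  rw [Subgroup.map_inf _ _ _ (MulAut.conj g).injective]
  congr 1
  ext x
  constructor
  · intro hx
    exact ⟨g⁻¹ * x * g, by simpa using (inferInstance : A.Normal).conj_mem x hx g⁻¹, by simp [mul_assoc]⟩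
  · rintro ⟨y, hy, rfl⟩
    exact (inferInstance : A.Normal).conj_mem y hy g

theorem relIndex_dvd_of_sub {A B C : Subgroup G} (hAB : A ≤ B) (hCB : C ≤ B)
    (hC : C ≤ normalizer (A : Set G)) : A.relIndex C ∣ A.relIndex B := by
  have hA : A ≤ normalizer (A : Set G) := le_normalizer
  have h1 : A.relIndex C = A.relIndex (C ⊔ A) := by
    haveI : (A.subgroupOf (C ⊔ A)).Normal := normal_subgroupOf_of_le_normalizer (sup_le hC hA)
    rw [← relIndex_subgroupOf (H := A) (le_sup_left : C ≤ C ⊔ A),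
      ← relIndex_sup_left (C.subgroupOf (C ⊔ A)) (A.subgroupOf (C ⊔ A)),
      ← subgroupOf_sup le_sup_right le_sup_left, sup_comm A C, relIndex_subgroupOf le_rfl]
  rw [h1]
  exact Dvd.intro _ (relIndex_mul_relIndex A (C ⊔ A) B le_sup_right (sup_le hCB hAB))

/-- Extensions preserve the conjugacy of Hall subgroups. -/
theorem cPi_extension (hFT : OddSolvable.{u}) (A : Subgroup G) [A.Normal]
    (hA : IsCPiGroup π A) (hQ : IsCPiGroup π (G ⧸ A)) : IsCPiGroup π G := by
  classical
  obtain ⟨⟨HA', hHA'⟩, hAconj⟩ := hA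
  set HA := HA'.map A.subtype with hHAdef
  have hHAA : HA ≤ A := map_subtype_le HA'
  have hHAsub : HA.subgroupOf A = HA' := comap_map_eq_self_of_injective A.subtype_injective HA'
  have hHAcard : Nat.card HA = Nat.card HA' := card_map_of_injective A.subtype_injective
  have hHApi : ∀ p : ℕ, p.Prime → p ∣ Nat.card HA → p ∈ π := fun p hp hd => hHA'.1 p hp (hHAcard ▸ hd)
  set N := normalizer (HA : Set G) with hNdef
  have hHAN : HA ≤ N := le_normalizer
  -- the argument of Frattini
  have hcov : ∀ g : G, ∃ a ∈ A, a * g ∈ N := by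
    intro g
    have hc1 : HA.map (MulAut.conj g).toMonoidHom ≤ A := by
      rintro _ ⟨x, hx, rfl⟩
      exact (inferInstance : A.Normal).conj_mem x (hHAA hx) g
    have hgc : Nat.card (HA.map (MulAut.conj g).toMonoidHom) = Nat.card HA :=
      card_map_of_injective (MulAut.conj g).injective
    have hH2 : IsPiHall π ((HA.map (MulAut.conj g).toMonoidHom).subgroupOf A) := by
      have hc2 : Nat.card ((HA.map (MulAut.conj g).toMonoidHom).subgroupOf A) = Nat.card HA' := by
        rw [Nat.card_congr (subgroupOfEquivOfLe hc1).toEquiv, hgc, hHAcard]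
      refine ⟨fun p hp hd => hHA'.1 p hp (hc2 ▸ hd), fun p hp hπ hd => hHA'.2 p hp hπ ?_⟩
      have h1 := ((HA.map (MulAut.conj g).toMonoidHom).subgroupOf A).card_mul_index
      rw [hc2, ← HA'.card_mul_index] at h1
      rwa [Nat.eq_of_mul_eq_mul_left Nat.card_pos h1] at hd
    obtain ⟨a, ha⟩ := hAconj _ _ hHA' hH2
    refine ⟨(a : G)⁻¹, inv_mem a.2, ?_⟩
    rw [hNdef, mem_normalizer_iff_map_conj_eq]
    have h1 := congrArg (fun S : Subgroup A => S.map A.subtype) ha
    simp only [subgroupOf_map_subtype, inf_eq_left.2 hc1] at h1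
    simp only [Subgroup.map_map] at h1
    have h2 : A.subtype.comp (MulAut.conj a).toMonoidHom =
        (MulAut.conj (a : G)).toMonoidHom.comp A.subtype := by
      ext x; simp
    rw [h2, ← Subgroup.map_map, ← hHAdef] at h1
    have e : ((MulAut.conj ((a : G)⁻¹ * g) : MulAut G) : G →* G) =
        (MulAut.conj (a : G)⁻¹).toMonoidHom.comp (MulAut.conj g).toMonoidHom := by
      ext x; simp [mul_assoc]
    rw [e, ← Subgroup.map_map, h1, Subgroup.map_map]
    convert Subgroup.map_id HA using 2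
    ext x
    simp [mul_assoc]
  haveI hn : (HA.subgroupOf N).Normal := Subgroup.normal_in_normalizer
  set f := QuotientGroup.mk' (HA.subgroupOf N) with hfdef
  have hf : Function.Surjective f := QuotientGroup.mk'_surjective _
  have hfker : f.ker = HA.subgroupOf N := QuotientGroup.ker_mk' _
  set r : N →* G ⧸ A := (QuotientGroup.mk' A).comp N.subtype with hr
  have hrker : r.ker = A.subgroupOf N := by
    rw [hr, ← MonoidHom.comap_ker, QuotientGroup.ker_mk']
    rfl
  set M := (A.subgroupOf N).map f with hMdef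
  haveI : M.Normal := Subgroup.Normal.map inferInstance f hf
  have hMpi : ∀ p : ℕ, p.Prime → p ∈ π → ¬ p ∣ Nat.card M := by
    intro p hp hπ hd
    refine hHA'.2 p hp hπ (hd.trans ?_)
    have h1 : Nat.card M = (HA.subgroupOf N).relIndex (A.subgroupOf N) := by
      rw [hMdef, ← relIndex_ker, hfker]
    rw [h1, ← hHAsub]
    show (HA.subgroupOf N).relIndex (A.subgroupOf N) ∣ HA.relIndex A
    rw [← inf_subgroupOf_right A N, relIndex_subgroupOf inf_le_right]
    exact relIndex_dvd_of_sub hHAA inf_le_left (inf_le_right.trans hNdef.le)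
  constructor
  · obtain ⟨T, hT⟩ := hQ.1
    have hle : HA.subgroupOf N ≤ r.ker := by rw [hrker]; exact comap_mono hHAA
    set s : N ⧸ HA.subgroupOf N →* G ⧸ A := QuotientGroup.lift _ r hle with hs
    have hssurj : Function.Surjective s := by
      intro x
      obtain ⟨g, rfl⟩ := QuotientGroup.mk'_surjective A x
      obtain ⟨a, ha, hag⟩ := hcov g
      refine ⟨f ⟨a * g, hag⟩, ?_⟩
      show QuotientGroup.mk' A (a * g) = QuotientGroup.mk' A g
      rw [map_mul, show QuotientGroup.mk' A a = 1 from (QuotientGroup.eq_one_iff a).2 ha, one_mul]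
    have hsker : s.ker = M := by
      rw [hs, QuotientGroup.ker_lift, hMdef, hrker]
    obtain ⟨T₁, hT₁, -⟩ := exists_hall_of_piPrime s hssurj (by rwa [hsker]) hT
    have hT₂ := hall_comap_of_pi f hf (π := π) (fun p hp hd => by
      rw [hfker, Nat.card_congr (subgroupOfEquivOfLe hHAN).toEquiv] at hd
      exact hHApi p hp hd) hT₁
    refine ⟨(T₁.comap f).map N.subtype, fun p hp hd => hT₂.1 p hp ?_, fun p hp hπ hd => ?_⟩
    · rwa [card_map_of_injective N.subtype_injective] at hd
    · rw [Subgroup.index_map_subtype] at hd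
      rcases dvd_or_dvd_of_prime_dvd_mul hp hd with h | h
      · exact hT₂.2 p hp hπ h
      · refine hHA'.2 p hp hπ (h.trans ?_)
        have htop : N ⊔ A = ⊤ := eq_top_iff.2 fun g _ => by
          obtain ⟨a, ha, hag⟩ := hcov g
          rw [← inv_mul_cancel_left a g]
          exact mul_mem (mem_sup_right (inv_mem ha)) (mem_sup_left hag)
        have hidx : N.index = N.relIndex A := by
          have e1 := relIndex_mul_index (inf_le_left : N ⊓ A ≤ N)
          have e2 := relIndex_mul_index (inf_le_right : N ⊓ A ≤ A)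
          rw [inf_relIndex_left] at e1
          rw [inf_relIndex_right] at e2
          have e3 : A.relIndex N = A.index := by
            rw [← relIndex_top_right, ← htop, sup_comm, relIndex_sup_left]
          rw [e3, ← e2, mul_comm] at e1
          exact Nat.eq_of_mul_eq_mul_right (Nat.pos_of_ne_zero Subgroup.index_ne_zero_of_finite) e1
        rw [hidx, ← hHAsub]
        exact relIndex_dvd_of_le_left A hHAN
  · intro H K hH hK
    obtain ⟨gb, hgb⟩ := hQ.2 _ _ (hall_image (A := A) hH) (hall_image (A := A) hK)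
    obtain ⟨g, rfl⟩ := QuotientGroup.mk'_surjective A gb
    set H₁ := H.map (MulAut.conj g).toMonoidHom with hH₁def
    have hH₁ : IsPiHall π H₁ := Cfsg.Lib.HallSym.isPiHall_conj hH g
    have hmap : K.map (QuotientGroup.mk' A) = H₁.map (QuotientGroup.mk' A) := by
      rw [hgb, hH₁def, Subgroup.map_map, Subgroup.map_map]
      congr 1
    -- make the intersections with A equal to HA
    obtain ⟨a, ha⟩ := hAconj _ _ (hall_inf (A := A) hH₁) hHA'
    obtain ⟨b, hb⟩ := hAconj _ _ (hall_inf (A := A) hK) hHA'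
    have hfix : ∀ (S : Subgroup G) (c : A), HA' = ((S ⊓ A).subgroupOf A).map (MulAut.conj c).toMonoidHom →
        S.map (MulAut.conj (c : G)).toMonoidHom ⊓ A = HA := by
      intro S c hc
      have h1 := congrArg (fun T : Subgroup A => T.map A.subtype) hc
      have h2 : A.subtype.comp (MulAut.conj c).toMonoidHom =
          (MulAut.conj (c : G)).toMonoidHom.comp A.subtype := by
        ext x; simp
      simp only [Subgroup.map_map, h2] at h1
      rw [← Subgroup.map_map, subgroupOf_map_subtype, inf_eq_left.2 inf_le_right, ← hHAdef] at h1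
      rw [conj_map_inf, h1]
    set H₂ := H₁.map (MulAut.conj (a : G)).toMonoidHom
    set K₂ := K.map (MulAut.conj (b : G)).toMonoidHom
    have hH₂A : H₂ ⊓ A = HA := hfix H₁ a ha
    have hK₂A : K₂ ⊓ A = HA := hfix K b hb
    have hH₂ : IsPiHall π H₂ := Cfsg.Lib.HallSym.isPiHall_conj hH₁ _
    have hK₂ : IsPiHall π K₂ := Cfsg.Lib.HallSym.isPiHall_conj hK _
    have hnorm : ∀ S : Subgroup G, S ⊓ A = HA → S ≤ N := by
      intro S hS
      rw [hNdef, ← hS]
      refine le_normalizer_of_conj_mem fun s hs x hx => mem_inf.2 ⟨?_, ?_⟩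
      · exact mul_mem (mul_mem hs (mem_inf.1 hx).1) (inv_mem hs)
      · exact (inferInstance : A.Normal).conj_mem x (mem_inf.1 hx).2 s
    have hH₂N := hnorm H₂ hH₂A
    have hK₂N := hnorm K₂ hK₂A
    have hmapA : ∀ (S : Subgroup G) (c : A),
        (S.map (MulAut.conj (c : G)).toMonoidHom).map (QuotientGroup.mk' A) = S.map (QuotientGroup.mk' A) := by
      intro S c
      rw [Subgroup.map_map]
      congr 1
      ext x
      simp [(QuotientGroup.eq_one_iff (c : G)).2 c.2]
    have hKH : K₂.map (QuotientGroup.mk' A) = H₂.map (QuotientGroup.mk' A) := by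
      rw [hmapA K b, hmapA H₁ a, hmap]
    have hcards : Nat.card H₂ = Nat.card K₂ := Nat.dvd_antisymm
      (Cfsg.Lib.HallSym.card_dvd_card_hall hK₂ hH₂.1) (Cfsg.Lib.HallSym.card_dvd_card_hall hH₂ hK₂.1)
    set Hb := (H₂.subgroupOf N).map f
    set Kb := (K₂.subgroupOf N).map f
    have hcardb : ∀ S : Subgroup G, S ≤ N → HA ≤ S →
        Nat.card HA * Nat.card ((S.subgroupOf N).map f) = Nat.card S := by
      intro S hSN hAS
      rw [← relIndex_ker (K := S.subgroupOf N) f, hfker, ← Nat.card_congr (subgroupOfEquivOfLe hSN).toEquiv,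
        ← Nat.card_congr (subgroupOfEquivOfLe hHAN).toEquiv]
      have h := relIndex_mul_relIndex (⊥ : Subgroup N) _ _ bot_le (comap_mono hAS : HA.subgroupOf N ≤ S.subgroupOf N)
      rwa [relIndex_bot_left, relIndex_bot_left] at h
    have hle : Kb ≤ M ⊔ Hb := by
      rintro _ ⟨k, hk, rfl⟩
      obtain ⟨h, hh, e⟩ : QuotientGroup.mk' A (k : G) ∈ H₂.map (QuotientGroup.mk' A) :=
        hKH ▸ mem_map_of_mem _ hk
      have h2 : (k : G) * h⁻¹ ∈ A := by
        rw [← QuotientGroup.eq_one_iff]
        show QuotientGroup.mk' A ((k : G) * h⁻¹) = 1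
        rw [map_mul, map_inv, e, mul_inv_cancel]
      have h3 : k = (⟨(k : G) * h⁻¹, mul_mem k.2 (inv_mem (hH₂N hh))⟩ : N) * ⟨h, hH₂N hh⟩ :=
        Subtype.ext (inv_mul_cancel_right _ _).symm
      rw [h3, map_mul]
      exact mul_mem_sup (mem_map_of_mem f h2) (mem_map_of_mem f hh)
    have hHA_H : HA ≤ H₂ := hH₂A ▸ inf_le_left
    have hHA_K : HA ≤ K₂ := hK₂A ▸ inf_le_left
    have hc : Nat.card Hb = Nat.card Kb := Nat.eq_of_mul_eq_mul_left (Nat.card_pos (α := HA))
      (by rw [hcardb H₂ hH₂N hHA_H, hcardb K₂ hK₂N hHA_K, hcards])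
    have hcop : (Nat.card M).Coprime (Nat.card Kb) := by
      refine (coprime_of_pi (fun p hp hd => hK₂.1 p hp (hd.trans ?_)) hMpi).symm
      exact Dvd.intro_left _ (hcardb K₂ hK₂N hHA_K)
    obtain ⟨x, -, hx⟩ := conj_compl hFT hle hc hcop
    obtain ⟨y, rfl⟩ := hf x
    have hyN : K₂.map (MulAut.conj (y : G)).toMonoidHom = H₂ := by
      refine eq_of_le_of_card_ge ?_
        (hcards.trans (Nat.card_congr (equivMapOfInjective K₂ _ (MulAut.conj (y : G)).injective).toEquiv)).le
      rintro _ ⟨k, hk, rfl⟩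
      have h1 : f (y * ⟨k, hK₂N hk⟩ * y⁻¹) ∈ Hb := by
        rw [← hx]
        exact ⟨f ⟨k, hK₂N hk⟩, mem_map_of_mem f hk, by simp⟩
      have h2 : y * ⟨k, hK₂N hk⟩ * y⁻¹ ∈ (H₂.subgroupOf N) ⊔ f.ker := by
        rw [← comap_map_eq]; exact h1
      rw [hfker] at h2
      exact (sup_le le_rfl (comap_mono hHA_H : HA.subgroupOf N ≤ H₂.subgroupOf N)) h2
    refine ⟨(b : G)⁻¹ * (y : G)⁻¹ * a * g, ?_⟩
    have hK0 : K = (H₂.map (MulAut.conj (y : G)⁻¹).toMonoidHom).map (MulAut.conj (b : G)⁻¹).toMonoidHom := by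
      rw [← hyN]
      simp only [K₂, Subgroup.map_map]
      conv_lhs => rw [← Subgroup.map_id K]
      congr 1
      ext z
      simp [mul_assoc]
    rw [hK0]
    simp only [H₂, hH₁def, Subgroup.map_map]
    congr 1
    ext z
    simp [mul_assoc]

end Cfsg.Lib.FTCons
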