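import Cfsg.Agent.Lib.ZStar.Main
import Cfsg.Agent.Lib.PGroup.Basic
import Cfsg.Agent.Lib.FTCons.AutSylow

/-!
# Klein four subgroups of simple groups

By Glauberman's theorem a group with a unique involution in a Sylow 2-subgroup and trivial odd core
has a central involution.
-/

set_option autoImplicit false
set_option linter.style.haveILetI false

namespace Cfsg.Lib.FTCons

open Subgroup

universe u

theorem exists_isKleinFour (hFT : OddSolvable.{u}) {G : Type u} [Group G] [Finite G] [IsSimpleGroup G]
    (hG : ¬ IsCyclic G) : ∃ E : Subgroup G, IsKleinFour E := by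
  haveI : Fact (Nat.Prime 2) := ⟨Nat.prime_two⟩
  have hab : ¬ (∀ a b : G, a * b = b * a) := fun h => by
    letI : CommGroup G := { (inferInstance : Group G) with mul_comm := h }
    exact hG inferInstance
  have heven : 2 ∣ Nat.card G := by
    by_contra h
    haveI := hFT G (Nat.not_even_iff_odd.1 fun e => h e.two_dvd)
    exact hab (IsSimpleGroup.comm_iff_isSolvable.2 ‹_›)
  have hO : Cfsg.oddCore G = ⊥ :=
    (inferInstance : (Cfsg.oddCore G).Normal).eq_bot_or_eq_top.resolve_right fun h => by
      have := ZStar.odd_card_oddCore (G := G)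
      rw [h, Subgroup.card_top] at this
      exact Nat.not_even_iff_odd.2 this (even_iff_two_dvd.2 heven)
  obtain ⟨S⟩ : Nonempty (Sylow 2 G) := inferInstance
  have hS : (⊤ : Subgroup (S : Subgroup G)) ≠ ⊥ := by
    haveI : Nontrivial (S : Subgroup G) := (nontrivial_iff_ne_bot _).2 (S.ne_bot_of_dvd_card heven)
    exact top_ne_bot
  obtain ⟨z, -, hz, hzc⟩ := exists_central_involution S.2 hS
  have hz' : orderOf (z : G) = 2 := (orderOf_coe z).trans hz
  by_cases h1 : ∀ x ∈ (S : Subgroup G), orderOf x = 2 → x = z
  · exfalso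
    have hc := ZStar.mem_center_of_isolated hO (ZStar.isolated_of_unique_involution S hz' h1)
    rcases (inferInstance : (center G).Normal).eq_bot_or_eq_top with h | h
    · rw [h, mem_bot] at hc
      rw [hc, orderOf_one] at hz'
      exact absurd hz' (by norm_num)
    · exact hab fun a b => (mem_center_iff.1 (h ▸ mem_top b : b ∈ center G) a)
  push Not at h1
  obtain ⟨x, hxS, hx, hxz⟩ := h1
  have hcomm : Commute x (z : G) := congrArg Subtype.val (hzc ⟨x, hxS⟩).eq
  have hx1 : x * x = 1 := by rw [← pow_two, ← hx, pow_orderOf_eq_one]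
  have hz1 : (z : G) * z = 1 := by
    have := pow_orderOf_eq_one (z : G)
    rwa [hz', pow_two] at this
  let E : Subgroup G :=
    { carrier := {1, x, (z : G), x * z}
      one_mem' := Or.inl rfl
      mul_mem' := by
        have e1 : x * (x * z) = z := by rw [← mul_assoc, hx1, one_mul]
        have e2 : (z : G) * x = x * z := hcomm.eq.symm
        have e3 : (z : G) * (x * z) = x := by rw [← mul_assoc, e2, mul_assoc, hz1, mul_one]
        have e4 : x * z * x = z := by rw [mul_assoc, e2, e1]
        have e5 : x * z * z = x := by rw [mul_assoc, hz1, mul_one]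
        have e6 : x * z * (x * z) = 1 := by rw [← mul_assoc, e4, hz1]
        rintro a b (rfl | rfl | rfl | rfl) (rfl | rfl | rfl | rfl) <;>
          simp [hx1, hz1, e1, e2, e3, e4, e5, e6]
      inv_mem' := by
        have hxi : x⁻¹ = x := inv_eq_of_mul_eq_one_right hx1
        have hzi : (z : G)⁻¹ = z := inv_eq_of_mul_eq_one_right hz1
        rintro a (rfl | rfl | rfl | rfl) <;> simp [hxi, hzi, hcomm.eq] }
  refine ⟨E, ?_, ?_⟩
  · have e : (E : Set G) = ({1, x, (z : G), x * z} : Set G) := rfl
    have hx0 : x ≠ 1 := fun h => by rw [h, orderOf_one] at hx; exact absurd hx (by norm_num)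
    have hz0 : (z : G) ≠ 1 := fun h => by rw [h, orderOf_one] at hz'; exact absurd hz' (by norm_num)
    have hxz1 : x * z ≠ 1 := fun h => hxz ((eq_inv_of_mul_eq_one_left h).trans (inv_eq_of_mul_eq_one_right hz1))
    rw [show Nat.card E = Set.ncard (E : Set G) from rfl, e,
      Set.ncard_insert_of_notMem (by simp [Ne.symm hx0, Ne.symm hz0, Ne.symm hxz1]),
      Set.ncard_insert_of_notMem (by simp [hxz, hz0]),
      Set.ncard_pair (by simp [hx0])]
  · haveI : Nontrivial E := ⟨⟨x, Or.inr (Or.inl rfl)⟩, 1, fun h => by
      have := congrArg Subtype.val h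
      simp only [OneMemClass.coe_one] at this
      rw [this, orderOf_one] at hx
      exact absurd hx (by norm_num)⟩
    have hd : Monoid.exponent E ∣ 2 := Monoid.exponent_dvd_of_forall_pow_eq_one fun g => Subtype.ext (by
      rw [pow_two]
      obtain ⟨g, hg⟩ := g
      rcases hg with rfl | rfl | rfl | rfl
      · exact one_mul 1
      · exact hx1
      · exact hz1
      · show x * z * (x * z) = 1
        rw [hcomm.symm.mul_mul_mul_comm, hx1, hz1, one_mul])
    exact (Nat.prime_two.eq_one_or_self_of_dvd _ hd).resolve_left fun h =>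
      not_subsingleton E (Monoid.exp_eq_one_iff.1 h)

end Cfsg.Lib.FTCons
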