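import Cfsg.Prelude.Def_OddOrder
import Mathlib.GroupTheory.Solvable

/-!
# No minimal simple group of odd order

With odd-order groups solvable, the standing hypothesis of the local and character analysis
of the odd order proof cannot hold.
-/

set_option autoImplicit false

namespace Cfsg.Lib.FTCons

universe u

/-- The standing hypothesis of the odd order proof is empty once such groups are solvable. -/
theorem false_of_minSimpleOdd
    (hFT : ∀ {H : Type u} [Group H] [Finite H], Odd (Nat.card H) → Group.IsSolvable H)
    {G : Type u} [Group G] [Finite G] (hG : Cfsg.IsMinSimpleOddOrder G) : False := by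
  obtain ⟨hodd, hsimple, hnc, -⟩ := hG
  haveI := hsimple
  haveI := hFT hodd
  exact hnc ⟨⟨IsSimpleGroup.comm_iff_isSolvable.mpr inferInstance⟩⟩

end Cfsg.Lib.FTCons
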