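import Cfsg.Agent.Lib.Local.GlaubermanComplement
import Cfsg.Agent.Lib.Thompson.FixedPointFree
import Cfsg.Agent.Lib.Coprime.Action
import Cfsg.Agent.Lib.FTCons.AutSylow

/-!
# Coprime action with nilpotent maximal invariant subgroups

If all maximal invariant subgroups under a coprime action are nilpotent and the group is not, it is
solvable, of order divisible by two primes only, with a normal invariant Sylow subgroup; this uses
the solvability of groups of odd order.
-/

set_option autoImplicit false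
set_option linter.style.haveILetI false
set_option linter.unusedSectionVars false

namespace Cfsg.Lib.FTCons

open Subgroup Cfsg

universe u v

variable {A : Type v} {G : Type u} [Group A] [Group G] [Finite A] [Finite G] [MulDistribMulAction A G]

/-- Invariance under the operators. -/
def AInv (A : Type v) {G : Type u} [Group A] [Group G] [MulDistribMulAction A G] (H : Subgroup G) :
    Prop := ∀ a : A, ∀ x ∈ H, a • x ∈ H

theorem AInv.map_eq {H : Subgroup G} (h : AInv A H) (a : A) :
    H.map (MulDistribMulAction.toMulAut A G a).toMonoidHom = H :=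
  eq_of_le_of_card_ge (by rintro _ ⟨x, hx, rfl⟩; exact h a x hx)
    (card_map_of_injective (f := (MulDistribMulAction.toMulAut A G a).toMonoidHom)
      (MulEquiv.injective _)).ge

theorem AInv.mem_iff {H : Subgroup G} (h : AInv A H) (a : A) (x : G) : a • x ∈ H ↔ x ∈ H :=
  ⟨fun hx => by simpa using h a⁻¹ _ hx, h a x⟩

theorem aInv_normalizer {H : Subgroup G} (h : AInv A H) : AInv A (normalizer (H : Set G)) := by
  intro a x hx
  refine mem_normalizer_iff.2 fun y => ?_
  obtain ⟨y, rfl⟩ : ∃ y', a • y' = y := ⟨a⁻¹ • y, smul_inv_smul a y⟩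
  rw [← smul_inv', ← smul_mul', ← smul_mul', h.mem_iff, h.mem_iff]
  exact mem_normalizer_iff.1 hx y

theorem aInv_top : AInv A (⊤ : Subgroup G) := fun _ _ _ => mem_top _

theorem aInv_pResidual (p : ℕ) : AInv A (pResidual p G) := by
  intro a x hx
  induction hx using closure_induction with
  | mem y hy =>
    refine subset_closure ?_
    show (orderOf (a • y)).Coprime p
    rw [show orderOf (a • y) = orderOf y from
      orderOf_injective (MulDistribMulAction.toMonoidHom G a) (MulAction.injective a) y]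
    exact hy
  | one => rw [smul_one]; exact one_mem _
  | mul b c _ _ hb hc => rw [smul_mul']; exact mul_mem hb hc
  | inv b _ hb => rw [smul_inv']; exact inv_mem hb

theorem aInv_sup {H K : Subgroup G} (hH : AInv A H) (hK : AInv A K) : AInv A (H ⊔ K) := by
  intro a x hx
  rw [sup_eq_closure] at hx ⊢
  induction hx using closure_induction with
  | mem y hy => exact subset_closure (hy.imp (hH a y) (hK a y))
  | one => rw [smul_one]; exact one_mem _
  | mul b c _ _ hb hc => rw [smul_mul']; exact mul_mem hb hc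
  | inv b _ hb => rw [smul_inv']; exact inv_mem hb

/-- An invariant Sylow subgroup. -/
theorem exists_aInv_sylow (hFT : OddSolvable.{u}) (hFT' : OddSolvable.{v})
    (hcop : (Nat.card A).Coprime (Nat.card G)) (p : ℕ) [Fact p.Prime] :
    ∃ P : Sylow p G, AInv A (P : Subgroup G) := by
  let φ : A →* MulAut G := MulDistribMulAction.toMulAut A G
  haveI : Finite (G ⋊[φ] A) := Finite.of_equiv _ SemidirectProduct.equivProd.symm
  set N := (SemidirectProduct.inl : G →* G ⋊[φ] A).range
  set B := (SemidirectProduct.inr : A →* G ⋊[φ] A).range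
  haveI : N.Normal := by
    rw [show N = _ from SemidirectProduct.range_inl_eq_ker_rightHom]; exact MonoidHom.normal_ker _
  let eN : G ≃* N := MonoidHom.ofInjective SemidirectProduct.inl_injective
  let eB : A ≃* B := MonoidHom.ofInjective SemidirectProduct.inr_injective
  have hsol : Group.IsSolvable B ∨ Group.IsSolvable N := by
    by_cases h : Odd (Nat.card G)
    · haveI := hFT G h
      exact Or.inr (Group.isSolvable_of_surjective (f := eN.toMonoidHom) eN.surjective)
    · have hA : Odd (Nat.card A) := by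
        rw [Nat.not_odd_iff_even, even_iff_two_dvd] at h
        exact Nat.coprime_two_right.1 (hcop.coprime_dvd_right h)
      haveI := hFT' A hA
      exact Or.inl (Group.isSolvable_of_surjective (f := eB.toMonoidHom) eB.surjective)
  obtain ⟨P, hP⟩ := Coprime.exists_invariant_sylow (A := B) (G := N) le_normalizer_of_normal
    (by rwa [← Nat.card_congr eB.toEquiv, ← Nat.card_congr eN.toEquiv]) hsol p
  refine ⟨P.comapOfInjective eN.toMonoidHom eN.injective (by
    intro x _; exact ⟨eN.symm x, eN.apply_symm_apply x⟩), fun a x hx => ?_⟩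
  have h1 : (SemidirectProduct.inl x : G ⋊[φ] A) ∈ (P : Subgroup N).map N.subtype :=
    ⟨eN x, hx, rfl⟩
  have h2 := (mem_normalizer_iff.1 (hP ⟨a, rfl⟩) _).1 h1
  rw [← map_inv, ← SemidirectProduct.inl_aut] at h2
  obtain ⟨y, hy, e⟩ := h2
  have : y = eN (a • x) := Subtype.ext e
  show eN (a • x) ∈ (P : Subgroup N)
  exact this ▸ hy

variable (hFT : OddSolvable.{u}) (hFT' : OddSolvable.{v})
  (hcop : (Nat.card A).Coprime (Nat.card G))
  (hnil : ∀ H : Subgroup G, H ≠ ⊤ → AInv A H → Group.IsNilpotent H)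
include hFT hFT' hcop hnil

omit hFT hFT' hcop hnil in
theorem nilpotent_of_proper
    (hmax : ∀ H : Subgroup G, H ≠ ⊤ → AInv A H →
      (∀ K : Subgroup G, H < K → AInv A K → K = ⊤) → Group.IsNilpotent H)
    (H : Subgroup G) (h1 : H ≠ ⊤) (h2 : AInv A H) : Group.IsNilpotent H := by
  obtain ⟨M, hHM, ⟨hM1, hM2⟩, hM3⟩ := (Set.toFinite {K : Subgroup G | K ≠ ⊤ ∧ AInv A K}).exists_le_maximal
    (a := H) ⟨h1, h2⟩
  haveI := hmax M hM1 hM2 fun K hK hK2 => by
    by_contra hne
    exact hK.not_ge (hM3 ⟨hne, hK2⟩ hK.le)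
  exact Group.nilpotent_of_mulEquiv (subgroupOfEquivOfLe hHM)

theorem solvable_of_nilpotent_maximal : Group.IsSolvable G := by
  by_cases hG1 : Subsingleton G
  · exact Group.isSolvable_of_comm fun a b => Subsingleton.elim _ _
  have hGnt : Nontrivial G := not_subsingleton_iff_nontrivial.1 hG1
  obtain ⟨K, ⟨hKn, hK1, hKi⟩, hKmax⟩ := (Set.toFinite
    {K : Subgroup G | K.Normal ∧ K ≠ ⊤ ∧ AInv A K}).exists_maximal
    ⟨⊥, inferInstance, bot_ne_top, fun a x hx => by rw [mem_bot] at hx ⊢; rw [hx, smul_one]⟩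
  haveI := hnil K hK1 hKi
  suffices ∃ p : ℕ, p.Prime ∧ IsPGroup p (G ⧸ K) by
    obtain ⟨p, hp, hpg⟩ := this
    haveI : Fact p.Prime := ⟨hp⟩
    haveI := hpg.isNilpotent
    haveI : Group.IsSolvable K := IsNilpotent.to_isSolvable
    haveI : Group.IsSolvable (G ⧸ K) := IsNilpotent.to_isSolvable
    exact Group.isSolvable_of_ker_le_range K.subtype (QuotientGroup.mk' K) (by simp)
  by_cases hodd : ∃ p : ℕ, p.Prime ∧ p ≠ 2 ∧ p ∣ Nat.card (G ⧸ K)
  swap
  · refine ⟨2, Nat.prime_two, ?_⟩
    push Not at hodd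
    exact IsPGroup.of_card (Nat.eq_prime_pow_of_unique_prime_dvd Nat.card_pos.ne' fun {d} hd hdvd =>
      by_contra fun h => hodd d hd h hdvd)
  obtain ⟨p, hp, hp2, hpd⟩ := hodd
  haveI : Fact p.Prime := ⟨hp⟩
  refine ⟨p, hp, ?_⟩
  obtain ⟨P, hP⟩ := exists_aInv_sylow hFT hFT' hcop p
  set π := QuotientGroup.mk' K
  have hπ : Function.Surjective π := QuotientGroup.mk'_surjective K
  set Q := P.mapSurjective hπ
  let bar : A → (G ⧸ K) ≃* (G ⧸ K) := fun a =>
    QuotientGroup.congr K K (MulDistribMulAction.toMulAut A G a) (hKi.map_eq a)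
  have hbar : ∀ a x, bar a (π x) = π (a • x) := fun a x => rfl
  have hQbar : ∀ a, (Q : Subgroup (G ⧸ K)).map (bar a).toMonoidHom = Q := fun a => by
    rw [Sylow.coe_mapSurjective, Subgroup.map_map]
    rw [show (bar a).toMonoidHom.comp π = π.comp (MulDistribMulAction.toMulAut A G a).toMonoidHom from
      MonoidHom.ext fun x => hbar a x, ← Subgroup.map_map, hP.map_eq a]
  set W := centerThompsonOf p (Q : Subgroup (G ⧸ K))
  have hWbar : ∀ a, W.map (bar a).toMonoidHom = W := fun a => by
    rw [show W = centerThompsonOf p (Q : Subgroup (G ⧸ K)) from rfl,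
      Local.GlaubermanZJ.map_centerThompsonOf (bar a).toMonoidHom (bar a).injective, hQbar a]
  -- an invariant normal subgroup of the quotient is trivial or everything
  have hchar : ∀ M : Subgroup (G ⧸ K), M.Normal → (∀ a, M.map (bar a).toMonoidHom = M) →
      M = ⊥ ∨ M = ⊤ := by
    intro M hM hMb
    by_cases h : M.comap π = ⊤
    · exact Or.inr (by rw [← map_comap_eq_self_of_surjective hπ M, h, map_top_of_surjective π hπ])
    refine Or.inl ?_
    have hle : K ≤ M.comap π := fun x hx => by
      rw [mem_comap, show π x = 1 from (QuotientGroup.eq_one_iff x).2 hx]; exact one_mem _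
    have hmem : M.comap π ∈ {K : Subgroup G | K.Normal ∧ K ≠ ⊤ ∧ AInv A K} :=
      ⟨Subgroup.Normal.comap hM π, h, fun a x hx => by
        rw [mem_comap, ← hbar, ← hMb a]; exact mem_map_of_mem _ hx⟩
    rw [← map_comap_eq_self_of_surjective hπ M, le_antisymm (hKmax hmem hle) hle,
      QuotientGroup.map_mk'_self]
  have hQne : (Q : Subgroup (G ⧸ K)) ≠ ⊥ := Q.ne_bot_of_dvd_card hpd
  have hWne : W ≠ ⊥ := Local.GlaubermanZJ.centerThompsonOf_ne_bot Q.2 hQne
  have hWQ : W ≤ Q := inf_le_left.trans (Thompson.thompsonSubgroupOf_le _)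
  by_cases hWn : W.Normal
  · rcases hchar W hWn hWbar with h | h
    · exact absurd h hWne
    · exact (Q.2.to_le (le_top.trans (h.symm.le.trans hWQ))).of_equiv Subgroup.topEquiv
  set NW := (normalizer (W : Set (G ⧸ K))).comap π
  have hNW : NW ≠ ⊤ := fun h => hWn (normalizer_eq_top_iff.1 (by
    rw [← map_comap_eq_self_of_surjective hπ (normalizer (W : Set (G ⧸ K))),
      show comap π (normalizer (W : Set (G ⧸ K))) = ⊤ from h, map_top_of_surjective π hπ]))
  have hNWi : AInv A NW := fun a x hx => by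
    rw [mem_comap, ← hbar]
    have := Subgroup.map_equiv_normalizer_eq W (bar a)
    rw [hWbar a] at this
    rw [← this]; exact mem_map_of_mem _ hx
  haveI := hnil NW hNW hNWi
  haveI : Group.IsNilpotent ↥(normalizer (W : Set (G ⧸ K))) :=
    Group.nilpotent_of_surjective (π.subgroupComap (normalizer (W : Set (G ⧸ K))))
      (π.subgroupComap_surjective_of_surjective _ hπ)
  have hcomp := Local.GlaubermanZJ.complement_of_centerThompson hp2 Q
    (Thompson.hasNormalPComplement_of_isNilpotent)
  have hRn : (pResidual p (G ⧸ K)).Normal := Fusion.pResidual_normal p _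
  rcases hchar _ hRn (fun a => Fusion.map_pResidual_equiv (bar a)) with h | h
  · exact IsPGroup.of_equiv (Fusion.isPGroup_quotient_pResidual (G := G ⧸ K) (p := p))
      ((QuotientGroup.quotientMulEquivOfEq h).trans QuotientGroup.quotientBot)
  · exfalso
    have := Fusion.hasNormalPComplement_iff_coprime.1 hcomp
    rw [h, Subgroup.card_top] at this
    exact Nat.Prime.not_coprime_iff_dvd.2 ⟨p, hp, hpd, dvd_rfl⟩ this

/-- The structure. -/
theorem structure_of_nilpotent_maximal (hG : ¬ Group.IsNilpotent G) :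
    Group.IsSolvable G ∧
      (∃ p q a b : ℕ, p.Prime ∧ q.Prime ∧ p ≠ q ∧ Nat.card G = p ^ a * q ^ b) ∧
      ∃ (p : ℕ) (P : Sylow p G), p.Prime ∧ p ∣ Nat.card G ∧ (P : Subgroup G).Normal ∧
        (∀ a : A, ∀ x ∈ (P : Subgroup G), a • x ∈ (P : Subgroup G)) := by
  haveI hsolv := solvable_of_nilpotent_maximal hFT hFT' hcop hnil
  haveI : Nontrivial G := by
    by_contra h
    rw [not_nontrivial_iff_subsingleton] at h
    exact hG inferInstance
  refine ⟨hsolv, ?_⟩
  -- a prime with a proper residual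
  obtain ⟨p, hp, hpR⟩ : ∃ p : ℕ, p.Prime ∧ pResidual p G ≠ ⊤ := by
    have hne : commutator G ≠ ⊤ := (Group.IsSolvable.commutator_lt_top_of_nontrivial G).ne
    obtain ⟨p, hp, hpd⟩ := Nat.exists_prime_and_dvd (n := (commutator G).index)
      (fun h => hne (index_eq_one.1 h))
    refine ⟨p, hp, fun h => ?_⟩
    haveI : Fact p.Prime := ⟨hp⟩
    obtain ⟨y, hy⟩ := exists_prime_orderOf_dvd_card' (G := G ⧸ commutator G) p (by rwa [← index_eq_card])
    let C : Subgroup (G ⧸ commutator G) :=
      { carrier := {z | (orderOf z).Coprime p}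
        one_mem' := by show (orderOf (1 : G ⧸ commutator G)).Coprime p; rw [orderOf_one]; exact Nat.coprime_one_left p
        mul_mem' := fun {a b} ha hb => by
          have hab : Commute a b := by
            obtain ⟨a, rfl⟩ := QuotientGroup.mk'_surjective (commutator G) a
            obtain ⟨b, rfl⟩ := QuotientGroup.mk'_surjective (commutator G) b
            refine commutatorElement_eq_one_iff_mul_comm.1 ?_
            rw [← map_commutatorElement]
            exact (QuotientGroup.eq_one_iff _).2 (commutator_mem_commutator (mem_top a) (mem_top b))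
          exact Nat.Coprime.coprime_dvd_left hab.orderOf_mul_dvd_lcm
            (Nat.Coprime.coprime_dvd_left (Nat.lcm_dvd_mul _ _) (Nat.Coprime.mul_left ha hb))
        inv_mem' := fun {a} ha => by show (orderOf a⁻¹).Coprime p; rwa [orderOf_inv] }
    have hle : pResidual p G ≤ C.comap (QuotientGroup.mk' (commutator G)) :=
      (closure_le _).2 fun g hg => Nat.Coprime.coprime_dvd_left (orderOf_map_dvd _ g) hg
    rw [h] at hle
    obtain ⟨g, rfl⟩ := QuotientGroup.mk'_surjective (commutator G) y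
    have h1 : (orderOf (QuotientGroup.mk' (commutator G) g)).Coprime p := hle (mem_top g)
    rw [hy] at h1
    exact Nat.Prime.not_coprime_iff_dvd.2 ⟨p, hp, dvd_rfl, dvd_rfl⟩ h1
  haveI : Fact p.Prime := ⟨hp⟩
  set K := pResidual p G
  haveI := hnil K hpR (aInv_pResidual p)
  haveI : K.Normal := Fusion.pResidual_normal p G
  have hnorm : ∀ (q : ℕ) (Q : Sylow q G), q.Prime → q ≠ p → (Q : Subgroup G).Normal := by
    intro q Q hq hqp
    haveI : Fact q.Prime := ⟨hq⟩
    have hQK : (Q : Subgroup G) ≤ K := fun x hx => Fusion.mem_pResidual_of_coprime (by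
      obtain ⟨k, hk⟩ := IsPGroup.iff_card.1 Q.2
      exact Nat.Coprime.coprime_dvd_left (hk ▸ Subgroup.orderOf_dvd_natCard _ hx)
        (((Nat.coprime_primes hq hp).2 hqp).pow_left k))
    have hQn : ((Q.subtype hQK : Sylow q K) : Subgroup K).Normal :=
      (Group.isNilpotent_of_finite_tfae.out 0 3 rfl rfl).mp ‹Group.IsNilpotent K› q ‹_› _
    refine ⟨fun x hx g => ?_⟩
    obtain ⟨k, hk⟩ := (Q.2.map (MulAut.conj g).toMonoidHom) ⟨g * x * g⁻¹, ⟨x, hx, rfl⟩⟩
    have hy : g * x * g⁻¹ ∈ K := ‹K.Normal›.conj_mem x (hQK hx) g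
    have hz : IsPGroup q (zpowers (⟨g * x * g⁻¹, hy⟩ : K)) := by
      rintro ⟨z, hz⟩
      obtain ⟨m, rfl⟩ := mem_zpowers_iff.1 hz
      refine ⟨k, Subtype.ext ?_⟩
      simp only [SubmonoidClass.coe_pow, OneMemClass.coe_one]
      rw [← zpow_natCast, ← zpow_mul, mul_comm, zpow_mul, zpow_natCast,
        show (⟨g * x * g⁻¹, hy⟩ : K) ^ q ^ k = 1 from Subtype.ext (congrArg Subtype.val hk :), one_zpow]
    obtain ⟨Q', hQ'⟩ := IsPGroup.exists_le_sylow hz
    obtain ⟨c, hc⟩ := MulAction.exists_smul_eq K (Q.subtype hQK) Q'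
    haveI := hQn
    rw [Sylow.smul_eq_of_normal] at hc
    have h3 := hQ' (mem_zpowers _)
    rw [← hc] at h3
    exact mem_subgroupOf.1 h3
  obtain ⟨P, hP⟩ := exists_aInv_sylow hFT hFT' hcop p
  have hPn : ¬ (P : Subgroup G).Normal := fun h => hG ((Group.isNilpotent_of_finite_tfae.out 0 3 rfl rfl).mpr
    fun q _ Q => by
      by_cases hqp : q = p
      · subst hqp
        obtain ⟨c, hc⟩ := MulAction.exists_smul_eq G P Q
        haveI := h
        rw [Sylow.smul_eq_of_normal] at hc
        rw [← hc]; exact h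
      · exact hnorm q Q (Fact.out) hqp)
  -- some other Sylow subgroup generates with `P`
  obtain ⟨q, hq, hqp, Q, hQi, htop⟩ : ∃ q : ℕ, q.Prime ∧ q ≠ p ∧ ∃ Q : Sylow q G,
      AInv A (Q : Subgroup G) ∧ (P : Subgroup G) ⊔ Q = ⊤ := by
    by_contra hne
    push Not at hne
    refine hPn (normalizer_eq_top_iff.1 (index_eq_one.1 ?_))
    by_contra hne1
    obtain ⟨q, hq, hqd⟩ := Nat.exists_prime_and_dvd hne1
    haveI : Fact q.Prime := ⟨hq⟩
    by_cases hqp : q = p
    · subst hqp
      exact P.not_dvd_index (hqd.trans (index_dvd_of_le le_normalizer))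
    obtain ⟨Q, hQ⟩ := exists_aInv_sylow hFT hFT' hcop q
    haveI := hnil ((P : Subgroup G) ⊔ Q) (hne q hq hqp Q hQ) (aInv_sup hP hQ)
    have hn : ((P.subtype (le_sup_left : (P : Subgroup G) ≤ (P : Subgroup G) ⊔ Q) :
        Sylow p ↥((P : Subgroup G) ⊔ Q)) : Subgroup ↥((P : Subgroup G) ⊔ Q)).Normal :=
      (Group.isNilpotent_of_finite_tfae.out 0 3 rfl rfl).mp ‹_› p ‹_› _
    have hle : (P : Subgroup G) ⊔ Q ≤ normalizer ((P : Subgroup G) : Set G) :=
      (normal_subgroupOf_iff_le_normalizer le_sup_left).1 hn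
    exact Q.not_dvd_index (hqd.trans (index_dvd_of_le (le_sup_right.trans hle)))
  haveI : Fact q.Prime := ⟨hq⟩
  have hQn := hnorm q Q hq hqp
  obtain ⟨a, ha⟩ := IsPGroup.iff_card.1 P.2
  obtain ⟨b, hb⟩ := IsPGroup.iff_card.1 Q.2
  have hdisj : Disjoint (Q : Subgroup G) (P : Subgroup G) :=
    IsPGroup.disjoint_of_ne q p hqp _ _ Q.2 P.2
  have hcomp : (Q : Subgroup G).IsComplement' (P : Subgroup G) :=
    isComplement'_of_disjoint_and_mul_eq_univ hdisj
      (by rw [← normal_mul, sup_comm, htop, coe_top])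
  have hb0 : q ∣ Nat.card G := by
    by_contra h
    have : (Q : Subgroup G) = ⊥ := by
      rw [← card_eq_one, hb]
      rcases b with _ | b
      · rfl
      · exact absurd ((dvd_pow_self q b.succ_ne_zero).trans (hb ▸ card_subgroup_dvd_card _)) h
    rw [this, sup_bot_eq] at htop
    exact hPn (htop ▸ inferInstance)
  exact ⟨⟨q, p, b, a, hq, hp, hqp, by rw [← hcomp.card_mul, hb, ha]⟩, q, Q, hq, hb0, hQn, hQi⟩

end Cfsg.Lib.FTCons
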