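import Cfsg.Agent.Lib.FTCons.AutSylow
import Cfsg.Prelude.Def_KGroupFacts

/-!
# Outer automorphisms and the automorphisms of a Sylow 2-subgroup

Given that groups of odd order are solvable, the outer automorphism group is solvable as soon as
the automorphism group of a Sylow 2-subgroup is and the odd core is trivial.
-/

set_option autoImplicit false
set_option linter.style.haveILetI false

namespace Cfsg.Lib.FTCons

open Subgroup

universe u

variable {G : Type u} [Group G] [Finite G]

/-- The automorphisms of a group that map a subgroup into itself, as a subgroup. -/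
def autFix (S : Subgroup G) : Subgroup (MulAut G) where
  carrier := {a | S.map a.toMonoidHom = S}
  one_mem' := by
    ext x
    simp [mem_map]
  mul_mem' := by
    intro a b ha hb
    show S.map (a * b).toMonoidHom = S
    have : (a * b).toMonoidHom = a.toMonoidHom.comp b.toMonoidHom := rfl
    rw [this, ← map_map, hb, ha]
  inv_mem' := by
    intro a ha
    show S.map (a⁻¹).toMonoidHom = S
    conv_lhs => rw [← ha]
    rw [map_map]
    ext x
    simp [mem_map]

/-- The restriction of an automorphism to a subgroup it fixes. -/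
def autRestr (S : Subgroup G) : autFix S →* MulAut S where
  toFun a := ((a : MulAut G).subgroupMap S).trans (MulEquiv.subgroupCongr a.2)
  map_one' := by ext x; rfl
  map_mul' a b := by ext x; rfl

omit [Finite G] in
theorem autRestr_apply (S : Subgroup G) (a : autFix S) (x : S) :
    ((autRestr S a x : S) : G) = (a : MulAut G) x := rfl

theorem out_solvable (hFT : OddSolvable.{u})
    (hO : ∀ N : Subgroup G, N.Normal → Odd (Nat.card N) → N = ⊥) (S : Sylow 2 G)
    (hS : Group.IsSolvable (MulAut ↥(S : Subgroup G))) : Group.IsSolvable (Cfsg.Out G) := by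
  haveI : Fact (Nat.Prime 2) := ⟨Nat.prime_two⟩
  haveI := finite_mulAut (G := G)
  haveI := hS
  set F := autFix (S : Subgroup G)
  set r := autRestr (S : Subgroup G)
  set C := r.ker.map F.subtype with hC
  haveI : Group.IsSolvable C := (automorphisms_centralizing_sylow hFT hO S C fun a => by
    constructor
    · rintro ⟨a, ha, rfl⟩ s hs
      have h := congrArg Subtype.val (DFunLike.congr_fun (show r a = 1 from ha) ⟨s, hs⟩)
      exact h
    · intro ha
      have hF : a ∈ F := by
        show (S : Subgroup G).map a.toMonoidHom = S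
        ext x
        refine ⟨?_, fun hx => ⟨x, hx, ha x hx⟩⟩
        rintro ⟨s, hs, rfl⟩
        show a s ∈ (S : Subgroup G)
        rw [ha s hs]; exact hs
      refine ⟨⟨a, hF⟩, ?_, rfl⟩
      show r ⟨a, hF⟩ = 1
      exact MulEquiv.ext fun x => Subtype.ext (ha x x.2)).2
  haveI : Group.IsSolvable r.ker :=
    Group.isSolvable_of_surjective (f := (r.ker.equivMapOfInjective F.subtype F.subtype_injective).symm.toMonoidHom)
      (MulEquiv.surjective _)
  haveI : Group.IsSolvable F := Group.isSolvable_of_ker_le_range r.ker.subtype r (by simp)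
  refine Group.isSolvable_of_surjective (f := (QuotientGroup.mk' (Cfsg.Inn G)).comp F.subtype) ?_
  intro x
  obtain ⟨a, rfl⟩ := QuotientGroup.mk'_surjective (Cfsg.Inn G) x
  obtain ⟨g, hg⟩ := MulAction.exists_smul_eq G (S.mapSurjective (f := a.toMonoidHom) a.surjective) S
  have hmem : MulAut.conj g * a ∈ F := by
    show (S : Subgroup G).map (MulAut.conj g * a).toMonoidHom = S
    have h := congrArg (fun T : Sylow 2 G => (T : Subgroup G)) hg
    simp only [Sylow.coe_subgroup_smul] at h
    conv_rhs => rw [← h]
    ext y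
    simp [mem_map, Subgroup.mem_pointwise_smul_iff_inv_smul_mem, MulAut.conj_apply]
    constructor
    · rintro ⟨s, hs, rfl⟩; exact ⟨s, hs, by simp [mul_assoc]⟩
    · rintro ⟨s, hs, e⟩; exact ⟨s, hs, by rw [e]; simp [mul_assoc]⟩
  refine ⟨⟨_, hmem⟩, ?_⟩
  show QuotientGroup.mk' (Cfsg.Inn G) (MulAut.conj g * a) = _
  rw [map_mul, show QuotientGroup.mk' (Cfsg.Inn G) (MulAut.conj g) = 1 from
    (QuotientGroup.eq_one_iff _).2 ⟨g, rfl⟩, one_mul]

theorem odd_normal_eq_bot [IsSimpleGroup G] (S : Sylow 2 G) (hS1 : (S : Subgroup G) ≠ ⊥)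
    (N : Subgroup G) (hN : N.Normal) (hodd : Odd (Nat.card N)) : N = ⊥ := by
  rcases hN.eq_bot_or_eq_top with h | h
  · exact h
  · exfalso
    subst h
    haveI : Nontrivial (S : Subgroup G) := (nontrivial_iff_ne_bot _).2 hS1
    obtain ⟨k, hk0, hk⟩ := ((S.2).nontrivial_iff_card (p := 2)).1 inferInstance
    rw [card_top] at hodd
    have h2 : 2 ∣ Nat.card G := (hk ▸ dvd_pow_self 2 hk0.ne').trans (card_subgroup_dvd_card _)
    exact (Nat.not_even_iff_odd.2 hodd) (even_iff_two_dvd.2 h2)

/-- The form used for simple groups. -/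
theorem out_solvable_simple (hFT : OddSolvable.{u}) [IsSimpleGroup G] (S : Sylow 2 G)
    (hS1 : (S : Subgroup G) ≠ ⊥) (hS : Group.IsSolvable (MulAut ↥(S : Subgroup G))) :
    Group.IsSolvable (Cfsg.Out G) := by
  haveI : Fact (Nat.Prime 2) := ⟨Nat.prime_two⟩
  exact out_solvable hFT (odd_normal_eq_bot S hS1) S hS

end Cfsg.Lib.FTCons
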