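import Cfsg.Agent.Lib.FTCons.AutSylow
import Cfsg.Agent.Lib.Char.PrimitiveClassSize

/-!
# Degrees of primitive characters of groups of odd order
-/

set_option autoImplicit false
set_option linter.style.haveILetI false

namespace Cfsg.Lib.FTCons

open Subgroup Cfsg.Lib.Char

universe u

theorem exists_class_bound (hFT : OddSolvable.{u}) {G : Type u} [Group G] [Fintype G]
    (hodd : Odd (Nat.card G)) (χ : Cfsg.IrrCharacter G)
    (hprim : ¬ ∃ (H : Subgroup G), H ≠ ⊤ ∧ ∃ θ : ↥H → ℂ, Cfsg.IsCharacter ↥H θ ∧ Cfsg.indFun H θ = (χ : G → ℂ))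
    (p : ℕ) [Fact p.Prime] : ∃ g : G, (Cfsg.charDegree (χ : G → ℂ)).factorization p ≤
      ((Subgroup.centralizer ({g} : Set G)).index).factorization p := by
  haveI := hFT G hodd
  obtain ⟨a, ha⟩ := PrimitiveClassSize.exists_le p χ.2 hprim (PrimitiveClassSize.controls_top p)
    (c := Cfsg.charDegree (χ : G → ℂ)) χ.2.apply_one_eq_charDegree
  exact ⟨(a : G) * 1, ha 1 (one_mem ⊥)⟩

end Cfsg.Lib.FTCons
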