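import Cfsg.Agent.Lib.FTCons.AutSylow
import Cfsg.Agent.Lib.Fusion.Alperin
import Cfsg.Agent.S3861
import Cfsg.Agent.S3863

/-!
# Real class sizes with equal two-parts and central real elements in a Sylow subgroup

If all involutions are central and no element of order four of the Sylow subgroup is inverted inside
it, an automorphism of odd order fixing the squares fixes everything, so there is a normal
two-complement. A non-central involution forces the real class sizes to be odd, so the Sylow
subgroup is normal. In both cases the group is soluble, given the odd order theorem.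
-/

set_option autoImplicit false
set_option linter.style.haveILetI false

namespace Cfsg.Lib.FTCons.RealTwoPart

open Subgroup Cfsg Cfsg.Lib.Fusion

universe u

variable {G : Type u} [Group G] [Finite G]

/-- A Sylow subgroup without real elements of order four, in a group with central involutions. -/
theorem complement_of_central (hinv : ∀ t : G, t ^ 2 = 1 → t ∈ center G) (P : Sylow 2 G)
    (hS : ∀ v ∈ (P : Subgroup G), ∀ w ∈ (P : Subgroup G), w * v * w⁻¹ = v⁻¹ → v ^ 2 = 1) :
    HasNormalPComplement 2 G := by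
  haveI : Fact (Nat.Prime 2) := ⟨Nat.prime_two⟩
  refine (frobenius P).2 fun Q hQP g hg hco => ?_
  suffices h : ∀ i : ℕ, ∀ w ∈ Q, w ^ 2 ^ i = 1 → g * w * g⁻¹ = w by
    refine mem_centralizer_iff.2 fun w hw => ?_
    obtain ⟨i, hi⟩ := IsPGroup.iff_orderOf.1 (P.2.to_le hQP) ⟨w, hw⟩
    have hwi : w ^ 2 ^ i = 1 := by
      rw [← hi, Subgroup.orderOf_mk]
      exact pow_orderOf_eq_one w
    exact (mul_inv_eq_iff_eq_mul.1 (h i w hw hwi)).symm
  intro i
  induction i with
  | zero =>
    intro w _ hw
    rw [pow_zero, pow_one] at hw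
    simp [hw]
  | succ i ih =>
    intro w hw hwi
    -- the square is fixed
    have hsq : g * w ^ 2 * g⁻¹ = w ^ 2 :=
      ih _ (pow_mem hw 2) (by rw [← pow_mul, ← pow_succ']; exact hwi)
    set c := g * w * g⁻¹ with hc
    have hcQ : c ∈ Q := (mem_normalizer_iff.1 hg w).1 hw
    have hcsq : c * c = w * w := by
      rw [← pow_two, ← pow_two, hc, conj_pow, hsq]
    set v := w⁻¹ * c with hv
    have hvQ : v ∈ Q := mul_mem (inv_mem hw) hcQ
    have hwv : w * v * w⁻¹ = v⁻¹ := by
      rw [hv, mul_inv_rev, inv_inv, mul_inv_cancel_left]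
      calc c * w⁻¹ = c⁻¹ * (c * c) * w⁻¹ := by group
        _ = c⁻¹ * (w * w) * w⁻¹ := by rw [hcsq]
        _ = c⁻¹ * w := by group
    have hv2 : v ^ 2 = 1 := hS v (hQP hvQ) w (hQP hw) hwv
    have hvc : ∀ x : G, x * v = v * x := mem_center_iff.1 (hinv v hv2)
    have hiter : ∀ m : ℕ, g ^ m * w * (g ^ m)⁻¹ = w * v ^ m := by
      intro m
      induction m with
      | zero => simp
      | succ m ihm =>
        have hgv : g * v ^ m * g⁻¹ = v ^ m := by
          rw [mul_inv_eq_iff_eq_mul]; exact (Commute.pow_right (hvc g) m).eq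
        calc g ^ (m + 1) * w * (g ^ (m + 1))⁻¹
            = g * (g ^ m * w * (g ^ m)⁻¹) * g⁻¹ := by rw [pow_succ']; group
          _ = (g * w * g⁻¹) * (g * v ^ m * g⁻¹) := by rw [ihm]; group
          _ = w * v ^ (m + 1) := by rw [hgv, ← hc, pow_succ', ← mul_assoc, hv, mul_inv_cancel_left]
    have hn : v ^ orderOf g = 1 := by
      simpa [pow_orderOf_eq_one] using (hiter (orderOf g)).symm
    have hv1 : v = 1 := orderOf_eq_one_iff.1 (Nat.dvd_one.1
      (hco.gcd_eq_one ▸ Nat.dvd_gcd (orderOf_dvd_of_pow_eq_one hn) (orderOf_dvd_of_pow_eq_one hv2)))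
    calc c = w * v := by rw [hv, mul_inv_cancel_left]
      _ = w := by rw [hv1, mul_one]

theorem main (hFT : OddSolvable.{u}) (a : ℕ)
    (h : ∀ x : G, IsConj x x⁻¹ → x ∉ center G →
      ((centralizer ({x} : Set G)).index).factorization 2 = a)
    (S : Sylow 2 G)
    (hS : ∀ s : ↥(S : Subgroup G), IsConj s s⁻¹ → s ∈ center ↥(S : Subgroup G)) :
    Group.IsSolvable G ∧
      HasNormalPComplement 2 ↥(closure {g : G | ∃ k : ℕ, orderOf g = 2 ^ k}) := by
  classical
  haveI : Fact (Nat.Prime 2) := ⟨Nat.prime_two⟩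
  have hsolv : ∀ (M : Subgroup G) [M.Normal], Group.IsSolvable M → Group.IsSolvable (G ⧸ M) →
      Group.IsSolvable G := fun M _ h1 h2 => by
    haveI := h1
    haveI := h2
    exact Group.isSolvable_of_ker_le_range M.subtype (QuotientGroup.mk' M)
      (by rw [QuotientGroup.ker_mk', range_subtype])
  by_cases hinv : ∀ t : G, t ^ 2 = 1 → t ∈ center G
  · have hcomp : HasNormalPComplement 2 G := by
      refine complement_of_central hinv S fun v hv w hw hwv => ?_
      have hreal : IsConj (⟨v, hv⟩ : ↥(S : Subgroup G)) (⟨v, hv⟩ : ↥(S : Subgroup G))⁻¹ :=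
        isConj_iff.2 ⟨⟨w, hw⟩, Subtype.ext hwv⟩
      have hvw : w * v = v * w :=
        congrArg Subtype.val (mem_center_iff.1 (hS _ hreal) ⟨w, hw⟩)
      rw [hvw, mul_inv_cancel_right] at hwv
      rw [pow_two]
      exact (mul_eq_one_iff_eq_inv).2 hwv
    refine ⟨?_, hasNormalPComplement_subgroup hcomp _⟩
    obtain ⟨N, hN, hNc⟩ := (hasNormalPComplement_iff_exists S).1 hcomp
    haveI := hN
    have hodd : Odd (Nat.card N) := by
      rw [← hNc.index_eq_card, ← Nat.not_even_iff_odd, even_iff_two_dvd]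
      exact S.not_dvd_index
    refine hsolv N (hFT N hodd) ?_
    have hpg : IsPGroup 2 (G ⧸ N) := S.2.of_equiv hNc.symm.QuotientMulEquiv.symm
    haveI := hpg.isNilpotent
    exact IsNilpotent.to_isSolvable
  · push Not at hinv
    obtain ⟨t, ht2, htc⟩ := hinv
    -- a conjugate of the involution lies in `S`
    obtain ⟨Q, hQ⟩ := (IsPGroup.of_card (n := 1) (G := zpowers t) (p := 2) (by
      rw [Nat.card_zpowers, pow_one]
      exact orderOf_eq_prime ht2 fun e => htc (e ▸ one_mem _))).exists_le_sylow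
    obtain ⟨g, hg⟩ := MulAction.exists_smul_eq G Q S
    set s := g * t * g⁻¹ with hs
    have hsS : s ∈ (S : Subgroup G) := by
      rw [← hg, Sylow.coe_subgroup_smul]
      exact smul_mem_pointwise_smul t (MulAut.conj g) _ (hQ (mem_zpowers t))
    have hs2 : s ^ 2 = 1 := by rw [hs, conj_pow, ht2, mul_one, mul_inv_cancel]
    have hsinv : s⁻¹ = s := inv_eq_of_mul_eq_one_right (by rw [← pow_two, hs2])
    have hsc : s ∉ center G := fun hm => htc (by
      have e := (inferInstance : (center G).Normal).conj_mem s hm g⁻¹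
      rwa [show g⁻¹ * s * g⁻¹⁻¹ = t by rw [hs]; group] at e)
    have hsS' : (⟨s, hsS⟩ : ↥(S : Subgroup G)) ∈ center ↥(S : Subgroup G) :=
      hS _ (by rw [show (⟨s, hsS⟩ : ↥(S : Subgroup G))⁻¹ = ⟨s, hsS⟩ from Subtype.ext hsinv])
    have hle : (S : Subgroup G) ≤ centralizer ({s} : Set G) := fun y hy =>
      mem_centralizer_singleton_iff.2 (congrArg Subtype.val (mem_center_iff.1 hsS' ⟨y, hy⟩))
    have ha : a = 0 := by
      rw [← h s (by rw [hsinv]) hsc]
      exact Nat.factorization_eq_zero_of_not_dvd fun hd =>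
        S.not_dvd_index (hd.trans (index_dvd_of_le hle))
    have hnorm : (S : Subgroup G).Normal := by
      refine (Cfsg.Agent.S3861.result S).1 fun x hx1 hxo hxr => hx1 ?_
      suffices hx2 : x ^ 2 = 1 from orderOf_eq_one_iff.1 (Nat.dvd_one.1
        ((Nat.coprime_two_right.2 hxo).gcd_eq_one ▸
          Nat.dvd_gcd dvd_rfl (orderOf_dvd_of_pow_eq_one hx2)))
      by_cases hxc : x ∈ center G
      · obtain ⟨y, hy⟩ := isConj_iff.1 hxr
        rw [mem_center_iff.1 hxc y, mul_inv_cancel_right] at hy
        rw [pow_two]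
        exact mul_eq_one_iff_eq_inv.2 hy
      · refine Cfsg.Agent.S3863.sq_eq_one_of_odd_class hxr ?_
        rw [← Nat.not_even_iff_odd, even_iff_two_dvd]
        intro hd
        have := (Nat.Prime.factorization_pos_of_dvd Nat.prime_two index_ne_zero_of_finite hd)
        have e := h x hxr hxc
        omega
    haveI := hnorm
    refine ⟨hsolv S (have := S.2.isNilpotent; IsNilpotent.to_isSolvable) (hFT _ ?_), ?_⟩
    · rw [← index_eq_card, ← Nat.not_even_iff_odd, even_iff_two_dvd]
      exact S.not_dvd_index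
    · refine hasNormalPComplement_of_normal (⊥ : Subgroup _) (by simp) ?_
      refine IsPGroup.of_surjective ?_ _ (QuotientGroup.mk'_surjective _)
      refine S.2.to_le ((closure_le _).2 fun x ⟨k, hk⟩ => ?_)
      obtain ⟨R, hR⟩ := (IsPGroup.of_card (n := k) (G := zpowers x) (p := 2)
        (by rw [Nat.card_zpowers, hk])).exists_le_sylow
      haveI := Sylow.unique_of_normal S hnorm
      rw [Subsingleton.elim R S] at hR
      exact hR (mem_zpowers x)

end Cfsg.Lib.FTCons.RealTwoPart
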