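import Cfsg.Agent.Lib.FTCons.DirectSylow

/-!
# A 2-group with a central commutator sharing its centraliser

If `Q` is a 2-group complementing a normal subgroup `N` and an element `t` of `Q' ∩ Z(Q)` has the
same centraliser in `N` as `Q`, then `[N, Q]` has odd order.
-/

set_option autoImplicit false
set_option linter.style.haveILetI false

namespace Cfsg.Lib.FTCons

open Subgroup

universe u

theorem odd_card_of_odd_orderOf {H : Type*} [Group H] [Finite H] (h : ∀ x : H, Odd (orderOf x)) :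
    Odd (Nat.card H) := by
  rw [← Nat.not_even_iff_odd, even_iff_two_dvd]
  intro h2
  haveI : Fact (Nat.Prime 2) := ⟨Nat.prime_two⟩
  obtain ⟨x, hx⟩ := exists_prime_orderOf_dvd_card' (G := H) 2 h2
  exact absurd (h x) (by rw [hx]; decide)

/-- The odd core lies in a normal subgroup with a complement inside a 2-subgroup. -/
theorem Direct.oddCore_le {X : Type u} [Group X] [Finite X] {G S T : Subgroup X} {P : Sylow 2 X}
    (D : Direct G S T P) : oddCore X ≤ G := by
  haveI := D.norm
  intro x hx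
  obtain ⟨t, ht, g, hg, rfl⟩ := D.split x
  obtain ⟨k, hk⟩ := P.2 ⟨t, D.T_le ht⟩
  replace hk : t ^ 2 ^ k = 1 := congrArg Subtype.val hk
  have hm : QuotientGroup.mk' G (t * g) = QuotientGroup.mk' G t := by
    rw [map_mul, show QuotientGroup.mk' G g = 1 from (QuotientGroup.eq_one_iff g).2 hg, mul_one]
  have h1 : orderOf (QuotientGroup.mk' G t) ∣ Nat.gcd (2 ^ k) (orderOf (t * g)) :=
    Nat.dvd_gcd (orderOf_dvd_of_pow_eq_one (by rw [← map_pow, hk, map_one])) (hm ▸ orderOf_map_dvd _ _)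
  rw [((Nat.coprime_two_left.2 (ZStar.odd_orderOf_oddCore hx)).pow_left k).gcd_eq_one,
    Nat.dvd_one, orderOf_eq_one_iff] at h1
  exact mul_mem ((QuotientGroup.eq_one_iff t).1 h1) hg

theorem commutator_le_self {X : Type*} [Group X] (T : Subgroup X) : ⁅T, T⁆ ≤ T :=
  commutator_le.2 fun a ha b hb => by
    rw [commutatorElement_def]
    exact mul_mem (mul_mem (mul_mem ha hb) (inv_mem ha)) (inv_mem hb)

/-- A central commutator of the complement is central modulo the odd core. -/
theorem central_mod_core : ∀ (n : ℕ) (X : Type u) [Group X] [Finite X], Nat.card X = n →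
    ∀ (G S T : Subgroup X) (P : Sylow 2 X), Direct G S T P → ∀ t : X, (∀ a ∈ T, Commute a t) →
      t ∈ ⁅T, T⁆ → ∀ g ∈ G, g * t * g⁻¹ * t⁻¹ ∈ oddCore X := by
  intro n
  induction n using Nat.strong_induction_on with
  | _ n ih =>
  intro X _ _ hn G S T P D t hct ht g hg
  haveI : Fact (Nat.Prime 2) := ⟨Nat.prime_two⟩
  by_cases ht1 : t = 1
  · rw [ht1, mul_one, mul_inv_cancel, inv_one, mul_one]; exact one_mem _
  have htT : t ∈ T := commutator_le_self T ht
  obtain ⟨k, hk⟩ := P.2 ⟨t, D.T_le htT⟩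
  replace hk : t ^ 2 ^ k = 1 := congrArg Subtype.val hk
  obtain ⟨j, -, hj⟩ := (Nat.dvd_prime_pow Nat.prime_two).1 (orderOf_dvd_of_pow_eq_one hk)
  obtain ⟨i, rfl⟩ : ∃ i, j = i + 1 :=
    Nat.exists_eq_succ_of_ne_zero fun h => ht1 (orderOf_eq_one_iff.1 (by rw [hj, h, pow_zero]))
  set w := t ^ 2 ^ i with hw
  have hw2 : orderOf w = 2 := by
    rw [hw, orderOf_pow_of_dvd (pow_ne_zero _ two_ne_zero) (by rw [hj]; exact pow_dvd_pow 2 (by omega)),
      hj, pow_succ, Nat.mul_div_cancel_left _ (Nat.two_pow_pos _)]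
  have hwT : w ∈ T := pow_mem htT _
  have hiso : IsIsolatedInvolution w := Invol.isolated_of_sylow P hw2 fun x hx =>
    D.conj_eq_of_derived (fun a ha => (hct a ha).pow_right _) (pow_mem ht _) x hx
  haveI hOn : (oddCore X).Normal := inferInstance
  set K := oddCore X ⊔ zpowers w with hK
  haveI hKn : K.Normal := ⟨fun x hx y => by
    have hle : K.map (MulAut.conj y).toMonoidHom ≤ K := by
      rw [hK, Subgroup.map_sup]
      refine sup_le ?_ ?_
      · rintro _ ⟨a, ha, rfl⟩
        exact mem_sup_left (hOn.conj_mem a ha y)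
      · rintro _ ⟨a, ha, rfl⟩
        obtain ⟨m, rfl⟩ := mem_zpowers_iff.1 ha
        rw [map_zpow]
        refine zpow_mem ?_ m
        show y * w * y⁻¹ ∈ _
        have h := ZStar.zStarHolds X w hiso y
        rw [show y * w * y⁻¹ = (w * y * w⁻¹ * y⁻¹)⁻¹ * w by group]
        exact mul_mem (mem_sup_left (inv_mem h)) (mem_sup_right (mem_zpowers w))
    exact hle ⟨x, hx, rfl⟩⟩
  have hwK : w ∈ K := mem_sup_right (mem_zpowers w)
  have hKmem : ∀ x ∈ K, ∃ o ∈ oddCore X, ∃ v ∈ zpowers w, x = o * v := fun x hx => by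
    obtain ⟨o, ho, v, hv, e⟩ := mem_sup_of_normal_left.1 hx
    exact ⟨o, ho, v, hv, e.symm⟩
  set π := QuotientGroup.mk' K with hπdef
  have hπ : Function.Surjective π := QuotientGroup.mk'_surjective K
  have hπ1 : ∀ x, π x = 1 ↔ x ∈ K := fun x => QuotientGroup.eq_one_iff x
  have D' : Direct (G.map π) (S.map π) (T.map π) (P.mapSurjective hπ) :=
    { norm := D.norm.map π hπ
      le := map_mono D.le
      disj := by
        refine eq_bot_iff.2 ?_
        rintro _ ⟨⟨a, ha, rfl⟩, ⟨b, hb, e⟩⟩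
        obtain ⟨o, ho, v, hv, hov⟩ := hKmem (a⁻¹ * b) ((hπ1 _).1 (by
          rw [map_mul, map_inv, e, inv_mul_cancel]))
        have hvT : v ∈ T := zpowers_le.2 hwT hv
        have hbv : b * v⁻¹ ∈ G ⊓ T := ⟨by
          have : b * v⁻¹ = a * o := by
            rw [mul_inv_eq_iff_eq_mul, mul_assoc, ← hov, mul_inv_cancel_left]
          rw [this]; exact mul_mem (show a ∈ G from ha) (D.oddCore_le ho),
          show b * v⁻¹ ∈ T from mul_mem (show b ∈ T from hb) (inv_mem hvT)⟩
        rw [D.disj, mem_bot, mul_inv_eq_one] at hbv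
        rw [mem_bot, ← e, hbv, hπ1]
        exact mem_sup_right hv
      top := by rw [← Subgroup.map_sup, D.top, map_top_of_surjective π hπ]
      sup := by rw [Sylow.coe_mapSurjective, D.sup, Subgroup.map_sup]
      comm := by
        rintro _ ⟨a, ha, rfl⟩ _ ⟨b, hb, rfl⟩
        exact (D.comm a ha b hb).map π }
  have hlt : Nat.card (X ⧸ K) < n := by
    have h1 := card_eq_card_quotient_mul_card_subgroup K
    have h2 : 1 < Nat.card K := (Subgroup.one_lt_card_iff_ne_bot _).2 fun h => by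
      rw [h, mem_bot] at hwK
      rw [hwK, orderOf_one] at hw2
      exact absurd hw2 (by norm_num)
    have h3 : 0 < Nat.card (X ⧸ K) := Nat.card_pos
    rw [← hn]; nlinarith
  have hrec := ih _ hlt (X ⧸ K) rfl _ _ _ _ D' (π t)
    (by rintro _ ⟨a, ha, rfl⟩; exact (hct a ha).map π)
    (by rw [← map_commutator]; exact mem_map_of_mem π ht) (π g) (mem_map_of_mem π hg)
  set L := (oddCore (X ⧸ K)).comap π
  haveI : (L ⊓ G).Normal := by
    haveI : L.Normal := Subgroup.Normal.comap inferInstance π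
    haveI := D.norm
    exact Subgroup.normal_inf_normal L G
  have hodd : Odd (Nat.card ↥(L ⊓ G)) := by
    refine odd_card_of_odd_orderOf fun x => ?_
    rw [← Subgroup.orderOf_coe]
    set m := orderOf (π (x : X))
    have hm : Odd m := ZStar.odd_orderOf_oddCore x.2.1
    have hmK : (x : X) ^ m ∈ K := (hπ1 _).1 (by rw [map_pow]; exact pow_orderOf_eq_one _)
    obtain ⟨o, ho, v, hv, hov⟩ := hKmem _ hmK
    have hvG : v ∈ G ⊓ T := ⟨by
      have h := mul_mem (inv_mem (D.oddCore_le ho)) (pow_mem x.2.2 m)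
      rw [hov, inv_mul_cancel_left] at h
      exact h, zpowers_le.2 hwT hv⟩
    rw [D.disj, mem_bot] at hvG
    rw [hvG, mul_one] at hov
    refine (hm.mul (ZStar.odd_orderOf_oddCore ho)).of_dvd_nat (orderOf_dvd_of_pow_eq_one ?_)
    rw [pow_mul, hov, pow_orderOf_eq_one]
  refine ZStar.le_oddCore inferInstance hodd ⟨?_, ?_⟩
  · show π (g * t * g⁻¹ * t⁻¹) ∈ oddCore (X ⧸ K)
    simpa only [map_mul, map_inv] using hrec
  · have h2 := mul_mem hg (D.norm.conj_mem _ (inv_mem hg) t)
    rwa [show g * (t * g⁻¹ * t⁻¹) = g * t * g⁻¹ * t⁻¹ by group] at h2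

variable {G : Type u} [Group G] [Finite G]

/-- The theorem, with solvability from the odd order theorem. -/
theorem commutator_odd_solvable (N Q : Subgroup G) [N.Normal] (hG : Q ⊔ N = ⊤) (hQ : IsPGroup 2 ↥Q)
    (hdisj : Q ⊓ N = ⊥) (t : G) (htZ : t ∈ Q ⊓ centralizer (Q : Set G)) (htQ : t ∈ ⁅Q, Q⁆)
    (hC : N ⊓ centralizer (Q : Set G) = N ⊓ centralizer ({t} : Set G)) :
    Odd (Nat.card ↥⁅N, Q⁆) := by
  haveI : Fact (Nat.Prime 2) := ⟨Nat.prime_two⟩
  obtain ⟨P, hP⟩ := hQ.exists_le_sylow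
  set R := (P : Subgroup G) ⊓ N with hR
  have hsplit : ∀ x : G, ∃ q ∈ Q, ∃ n ∈ N, x = q * n := fun x => by
    obtain ⟨q, hq, n, hn, e⟩ := mem_sup_of_normal_right.1 (hG ▸ mem_top x : x ∈ Q ⊔ N)
    exact ⟨q, hq, n, hn, e.symm⟩
  have hcent : R ≤ centralizer (Q : Set G) := by
    set C := R ⊓ centralizer (Q : Set G) with hCdef
    by_contra hnot
    have hMP : C ⊔ Q ≤ (P : Subgroup G) := sup_le (inf_le_left.trans inf_le_left) hP
    have hnorm : Q ≤ normalizer (C : Set G) := fun q hq => by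
      refine mem_normalizer_iff.2 fun x => ⟨fun hx => ?_, fun hx => ?_⟩
      · rw [mem_centralizer_iff.1 hx.2 q hq, mul_inv_cancel_right]; exact hx
      · have e := mem_centralizer_iff.1 hx.2 q hq
        rw [inv_mul_cancel_right] at e
        rwa [mul_left_cancel e] at hx
    have hMmem : ∀ x ∈ C ⊔ Q, ∃ c ∈ C, ∃ q ∈ Q, x = c * q := fun x hx => by
      rw [← SetLike.mem_coe, coe_mul_of_right_le_normalizer_left C Q hnorm] at hx
      obtain ⟨c, hc, q, hq, rfl⟩ := hx
      exact ⟨c, hc, q, hq, rfl⟩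
    have hMN : ∀ x ∈ C ⊔ Q, x ∈ N → x ∈ C := by
      intro x hx hxN
      obtain ⟨c, hc, q, hq, rfl⟩ := hMmem x hx
      have hq1 : q ∈ Q ⊓ N := ⟨hq, by simpa using mul_mem (inv_mem (show c ∈ N from hc.1.2)) hxN⟩
      rw [hdisj, mem_bot] at hq1
      rwa [hq1, mul_one]
    set M := (C ⊔ Q).subgroupOf (P : Subgroup G) with hM
    have hMlt : M < ⊤ := lt_of_le_of_ne le_top fun h => hnot fun x hx => by
      have : (⟨x, hx.1⟩ : (P : Subgroup G)) ∈ M := by rw [h]; trivial
      exact (hMN x (mem_subgroupOf.1 this) hx.2).2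
    haveI : Group.IsNilpotent (P : Subgroup G) := P.2.isNilpotent
    obtain ⟨y, hy, hyM⟩ := SetLike.exists_of_lt
      ((Group.normalizerCondition_of_isNilpotent : NormalizerCondition (P : Subgroup G)) M hMlt)
    obtain ⟨q, hq, r, hr, hqr⟩ := hsplit y
    have hrP : r ∈ (P : Subgroup G) := by
      have := mul_mem (inv_mem (hP hq)) y.2
      rwa [hqr, inv_mul_cancel_left] at this
    have hqM : q ∈ C ⊔ Q := mem_sup_right hq
    have hrM : ∀ x ∈ C ⊔ Q, r * x * r⁻¹ ∈ C ⊔ Q := by
      intro x hx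
      have h1 := (mem_normalizer_iff.1 hy ⟨x, hMP hx⟩).1 (mem_subgroupOf.2 hx)
      rw [hM, mem_subgroupOf] at h1
      have h2 := mul_mem (mul_mem (inv_mem hqM) h1) hqM
      convert h2 using 1
      rw [show r = q⁻¹ * (y : G) by rw [hqr, inv_mul_cancel_left]]
      simp only [Subgroup.coe_mul, Subgroup.coe_inv]
      group
    have hf : ∀ a ∈ Q, shift r a ∈ C := fun a ha => hMN _
      (mul_mem (hrM a (mem_sup_right ha)) (inv_mem (mem_sup_right ha))) (by
        have := mul_mem hr (‹N.Normal›.conj_mem _ (inv_mem hr) a)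
        rwa [show r * (a * r⁻¹ * a⁻¹) = shift r a by unfold shift; group] at this)
    have hcomm : ∀ a ∈ Q, ∀ x ∈ C, Commute (shift r a) (r * x * r⁻¹) := fun a ha x hx => by
      have hx' : r * x * r⁻¹ ∈ C :=
        hMN _ (hrM x (mem_sup_left hx)) (‹N.Normal›.conj_mem x hx.1.2 r)
      exact ((show Commute a x from mem_centralizer_iff.1 hx.2 a ha).map (MulAut.conj r).toMonoidHom).mul_left
        (show Commute a (r * x * r⁻¹) from mem_centralizer_iff.1 hx'.2 a ha).inv_left
    have hmap : C.map (MulAut.conj r).toMonoidHom = C := eq_of_le_of_card_ge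
      (by rintro _ ⟨x, hx, rfl⟩; exact hMN _ (hrM x (mem_sup_left hx)) (‹N.Normal›.conj_mem x hx.1.2 r))
      (by rw [card_map_of_injective (MulAut.conj r).injective])
    let f : Q →* G :=
      { toFun := fun a => shift r a
        map_one' := by show shift r (1 : G) = 1; unfold shift; group
        map_mul' := fun a b => by
          show shift r ((a : G) * b) = shift r a * shift r b
          calc shift r ((a : G) * b) = shift r a * ((a : G) * shift r b * (a : G)⁻¹) := by
                unfold shift; group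
            _ = _ := by rw [mem_centralizer_iff.1 (hf b b.2).2 a a.2, mul_inv_cancel_right] }
    have hab : ∀ a b : Q, Commute (f a) (f b) := fun a b => by
      have hb : shift r b ∈ C.map (MulAut.conj r).toMonoidHom := by rw [hmap]; exact hf b b.2
      obtain ⟨x, hx, e⟩ := hb
      show Commute (shift r a) (shift r b)
      exact e ▸ hcomm a a.2 x hx
    have hft : shift r t = 1 := by
      have hker : commutator Q ≤ f.ker := by
        rw [_root_.commutator_def, Subgroup.commutator_le]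
        intro a _ b _
        rw [MonoidHom.mem_ker, map_commutatorElement, commutatorElement_eq_one_iff_mul_comm]
        exact hab a b
      have ht' : (⟨t, htZ.1⟩ : Q) ∈ commutator Q := by
        rw [← mem_map_iff_mem Q.subtype_injective (K := commutator Q), map_subtype_commutator]
        exact htQ
      exact hker ht'
    have hrt : r ∈ N ⊓ centralizer ({t} : Set G) := ⟨hr, mem_centralizer_singleton_iff.2 (by
      rw [shift, mul_inv_eq_one, mul_inv_eq_iff_eq_mul] at hft
      exact hft)⟩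
    rw [← hC] at hrt
    have hy' : (y : G) ∈ C ⊔ Q := by
      rw [hqr]
      exact mul_mem hqM (mem_sup_left ⟨⟨hrP, hr⟩, hrt.2⟩)
    exact hyM (mem_subgroupOf.2 hy')
  have D : Direct N R Q P :=
    { norm := inferInstance
      le := inf_le_right
      disj := by rw [inf_comm]; exact hdisj
      top := by rw [sup_comm]; exact hG
      sup := by
        refine le_antisymm (fun x hx => ?_) (sup_le inf_le_left hP)
        obtain ⟨q, hq, n, hn, rfl⟩ := hsplit x
        have hnP : n ∈ (P : Subgroup G) := by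
          simpa using mul_mem (inv_mem (hP hq)) hx
        exact mul_mem (mem_sup_right hq) (mem_sup_left ⟨hnP, hn⟩)
      comm := fun s hs a ha => (mem_centralizer_iff.1 (hcent hs) a ha).symm }
  have hmain := central_mod_core _ G rfl N R Q P D t
    (fun a ha => mem_centralizer_iff.1 htZ.2 a ha) htQ
  refine ZStar.odd_card_oddCore.of_dvd_nat (card_dvd_of_le (commutator_le.2 fun n hn q hq => ?_))
  haveI hOn : (oddCore G).Normal := inferInstance
  -- `n` centralises `t` up to the odd core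
  set H := oddCore G ⊔ zpowers t with hH
  obtain ⟨k, hk⟩ := hQ ⟨t, htZ.1⟩
  replace hk : t ^ 2 ^ k = 1 := congrArg Subtype.val hk
  have h2t : IsPGroup 2 (zpowers t) := hQ.to_le (zpowers_le.2 htZ.1)
  set t' := n * t * n⁻¹ with ht'
  have ht'H : t' ∈ H := by
    rw [ht', show n * t * n⁻¹ = n * t * n⁻¹ * t⁻¹ * t by group]
    exact mul_mem (mem_sup_left (hmain n hn)) (mem_sup_right (mem_zpowers t))
  have hHcard : Nat.card H = Nat.card (oddCore G) * orderOf t := by
    rw [← Nat.card_zpowers, hH]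
    have hd : Disjoint (oddCore G) (zpowers t) := disjoint_iff.2 (le_bot_iff.1 (D.disj ▸
      le_inf (inf_le_left.trans D.oddCore_le) (inf_le_right.trans (zpowers_le.2 htZ.1))))
    have := Nat.card_congr (Equiv.ofBijective
      (fun x : oddCore G × zpowers t => (⟨(x.1 : G) * x.2, mul_mem (mem_sup_left x.1.2) (mem_sup_right x.2.2)⟩ : H))
      ⟨fun a b e => mul_injective_of_disjoint hd (congrArg Subtype.val e), fun x => by
        obtain ⟨a, ha, b, hb, e⟩ := mem_sup_of_normal_left.1 x.2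
        exact ⟨(⟨a, ha⟩, ⟨b, hb⟩), Subtype.ext e⟩⟩)
    rw [← this, Nat.card_prod]
  have hsyl : ∀ x : H, orderOf (x : G) = orderOf t → ¬ 2 ∣ (zpowers x).index := by
    intro x hx h2
    have e := (zpowers x).card_mul_index
    rw [Nat.card_zpowers, ← Subgroup.orderOf_coe, hx, hHcard, mul_comm (Nat.card _) (orderOf t)] at e
    rw [Nat.eq_of_mul_eq_mul_left (orderOf_pos t) e] at h2
    exact Nat.not_even_iff_odd.2 ZStar.odd_card_oddCore (even_iff_two_dvd.2 h2)
  let a : H := ⟨t, mem_sup_right (mem_zpowers t)⟩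
  let b : H := ⟨t', ht'H⟩
  have ho : orderOf t' = orderOf t := Invol.orderOf_conj_eq n t
  have hpg : ∀ x : H, orderOf (x : G) = orderOf t → IsPGroup 2 (zpowers x) := fun x hx => by
    obtain ⟨e, he⟩ := IsPGroup.iff_card.1 h2t
    exact IsPGroup.of_card (n := e) (by rw [Nat.card_zpowers, ← Subgroup.orderOf_coe, hx, ← Nat.card_zpowers, he])
  obtain ⟨c, hc⟩ := MulAction.exists_smul_eq H ((hpg a rfl).toSylow (hsyl a rfl))
    ((hpg b ho).toSylow (hsyl b ho))
  obtain ⟨o, hoO, v, hv, hov⟩ := mem_sup_of_normal_left.1 c.2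
  have hvt : Commute v t := by
    obtain ⟨m, rfl⟩ := mem_zpowers_iff.1 hv
    exact Commute.zpow_self t m
  have hconj : ∃ m : ℤ, o * t * o⁻¹ = t' ^ m := by
    have h1 : c * a * c⁻¹ ∈ ((c • (hpg a rfl).toSylow (hsyl a rfl) : Sylow 2 H) : Subgroup H) :=
      ⟨a, mem_zpowers a, rfl⟩
    rw [hc] at h1
    obtain ⟨m, hm⟩ := mem_zpowers_iff.1 h1
    refine ⟨m, ?_⟩
    have h2 : (c : G) * t * (c : G)⁻¹ = t' ^ m := by
      have := congrArg Subtype.val hm
      simpa [a, b] using this.symm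
    rw [← h2, ← hov]
    have e := hvt.eq
    calc o * t * o⁻¹ = o * (t * v * v⁻¹) * o⁻¹ := by group
      _ = o * (v * t * v⁻¹) * o⁻¹ := by rw [e]
      _ = o * v * t * (o * v)⁻¹ := by group
  obtain ⟨m, hm⟩ := hconj
  set c' := n⁻¹ * o with hc'
  have hcN : c' ∈ N := mul_mem (inv_mem hn) (D.oddCore_le hoO)
  have hct : c' * t * c'⁻¹ = t ^ m := by
    calc c' * t * c'⁻¹ = n⁻¹ * (o * t * o⁻¹) * n := by rw [hc']; group
      _ = n⁻¹ * (n * t ^ m * n⁻¹) * n := by rw [hm, ht', conj_zpow]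
      _ = t ^ m := by group
  have hct1 : c' * t * c'⁻¹ * t⁻¹ ∈ N ⊓ Q := ⟨by
    have := mul_mem hcN (‹N.Normal›.conj_mem _ (inv_mem hcN) t)
    simpa [mul_assoc] using this, by rw [hct]; exact (show t ^ m * t⁻¹ ∈ Q from mul_mem (zpow_mem (show t ∈ Q from htZ.1) m) (inv_mem (show t ∈ Q from htZ.1)))⟩
  rw [D.disj, mem_bot, mul_inv_eq_one, mul_inv_eq_iff_eq_mul] at hct1
  have hcQ : c' ∈ N ⊓ centralizer (Q : Set G) := by
    rw [hC]; exact ⟨hcN, mem_centralizer_singleton_iff.2 hct1⟩
  have hn' : n = o * c'⁻¹ := by rw [hc']; group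
  have hcq : Commute c'⁻¹ q := (show Commute c' q from (mem_centralizer_iff.1 hcQ.2 q hq).symm).inv_left
  rw [commutatorElement_def, hn']
  have : o * c'⁻¹ * q * (o * c'⁻¹)⁻¹ * q⁻¹ = o * (q * o⁻¹ * q⁻¹) := by
    rw [mul_assoc o c'⁻¹ q, hcq.eq]; group
  rw [this]
  exact mul_mem hoO (hOn.conj_mem _ (inv_mem hoO) q)

end Cfsg.Lib.FTCons
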