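import Cfsg.Agent.Lib.FTCons.AutSylow
import Cfsg.Agent.Lib.Recog.SolvTrans.Main
import Cfsg.Agent.Lib.Core.PSolvable
import Cfsg.Agent.S0735
import Cfsg.Prelude.Def_Perm
import Mathlib.FieldTheory.Finite.GaloisField

/-!
# Two-homogeneous groups that are not doubly transitive

Given the odd order theorem, such a group has odd order, is solvable, has a regular elementary
abelian normal subgroup and the stabiliser of a point is semilinear: together with `-1` it is
transitive on the non-zero vectors, so the classification of solvable transitive linear groups applies,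
and the exceptional degrees are `1 mod 4`.
-/

set_option autoImplicit false
set_option linter.style.haveILetI false

namespace Cfsg.Lib.FTCons

universe u

open scoped Pointwise

variable {α : Type u} [DecidableEq α]

/-- An action by additive maps as a linear action over `ZMod p`. -/
def zmodAutHom {p : ℕ} {V : Type*} [AddCommGroup V] [Module (ZMod p) V] {G : Type*} [Group G]
    (c : G → V →+ V) (h1 : ∀ v, c 1 v = v) (hm : ∀ g h v, c g (c h v) = c (g * h) v) :
    G →* (V ≃ₗ[ZMod p] V) where
  toFun g :=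
    { toFun := c g
      map_add' := map_add (c g)
      map_smul' := fun r x => ZMod.map_smul (c g) r x
      invFun := c g⁻¹
      left_inv := fun v => by rw [hm, inv_mul_cancel, h1]
      right_inv := fun v => by rw [hm, mul_inv_cancel, h1] }
  map_one' := LinearEquiv.ext h1
  map_mul' g h := LinearEquiv.ext fun v => (hm g h v).symm

/-- The signs as linear maps. -/
def signHom (p : ℕ) (V : Type*) [AddCommGroup V] [Module (ZMod p) V] : ℤˣ →* (V ≃ₗ[ZMod p] V) where
  toFun u := if u = 1 then 1 else LinearEquiv.neg (ZMod p)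
  map_one' := if_pos rfl
  map_mul' u v := by
    rcases Int.units_eq_one_or u with rfl | rfl <;> rcases Int.units_eq_one_or v with rfl | rfl <;>
      refine LinearEquiv.ext fun x => ?_ <;> simp

theorem signHom_commute {p : ℕ} {V : Type*} [AddCommGroup V] [Module (ZMod p) V] (u : ℤˣ)
    (e : V ≃ₗ[ZMod p] V) : signHom p V u * e = e * signHom p V u := by
  rcases Int.units_eq_one_or u with rfl | rfl <;> refine LinearEquiv.ext fun x => ?_ <;> simp [signHom]

/-- The product of a linear action with the signs. -/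
def withSigns {p : ℕ} {V : Type*} [AddCommGroup V] [Module (ZMod p) V] {A : Type*} [Group A]
    (c : A →* (V ≃ₗ[ZMod p] V)) : A × ℤˣ →* (V ≃ₗ[ZMod p] V) where
  toFun x := c x.1 * signHom p V x.2
  map_one' := by simp
  map_mul' x y := by
    show c (x.1 * y.1) * signHom p V (x.2 * y.2) = _
    rw [map_mul, map_mul]
    exact Commute.mul_mul_mul_comm (signHom_commute _ _).symm _ _

/-- Coordinates for a solvable group with a regular normal vector group and transitive on pairs. -/
theorem semilinear_coordinates {p f : ℕ} [Fact p.Prime] {V : Type*} [AddCommGroup V] [Module (ZMod p) V]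
    [Finite V] {G : Type*} [Group G] [Finite G] [Group.IsSolvable G] {Ω : Type*} [MulAction G Ω] (a : Ω)
    (τ : V → G) (hτadd : ∀ x y, τ (x + y) = τ x * τ y) (hτ0 : τ 0 = 1)
    (hbij : Function.Bijective fun v => τ v • a)
    (cj : G → V →+ V) (h1 : ∀ v, cj 1 v = v) (hm : ∀ g h v, cj g (cj h v) = cj (g * h) v)
    (hconj : ∀ g : G, g • a = a → ∀ v, τ (cj g v) • a = g • τ v • a)
    (hpair : ∀ b c : Ω, b ≠ a → c ≠ a →
      ∃ g : G, (g • a = a ∧ g • b = c) ∨ (g • a = c ∧ g • b = a))
    (hf0 : f ≠ 0) (hV : Nat.card V = p ^ f) (hmod : p ^ f % 4 = 3) :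
    ∃ e : Ω ≃ GaloisField p f,
      (∀ g : G, ∃ (c : (GaloisField p f)ˣ) (b : GaloisField p f) (s : GaloisField p f ≃+* GaloisField p f),
        ∀ x, e (g • e.symm x) = (c : GaloisField p f) * s x + b) ∧
      ∀ b : GaloisField p f, ∃ g : G, ∀ x : Ω, e (g • x) = e x + b := by
  classical
  haveI : Nontrivial V := Finite.one_lt_card_iff_nontrivial.1 (by rw [hV]; omega)
  let cl : G →* (V ≃ₗ[ZMod p] V) := zmodAutHom cj h1 hm
  let A := MulAction.stabilizer G a
  let σ : A × ℤˣ →* (V ≃ₗ[ZMod p] V) := withSigns (cl.comp A.subtype)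
  haveI : Group.IsSolvable σ.range := solvable_of_surjective σ.rangeRestrict_surjective
  haveI : Finite σ.range := Finite.of_surjective _ σ.rangeRestrict_surjective
  have hmov : ∀ v : V, v ≠ 0 → τ v • a ≠ a := fun v hv h => hv (hbij.1 (by
    show τ v • a = τ 0 • a
    rw [h, hτ0, one_smul]))
  have hneg : ∀ v, τ (-v) = (τ v)⁻¹ := fun v => (inv_eq_of_mul_eq_one_right (by
    rw [← hτadd, add_neg_cancel, hτ0])).symm
  have htrans : ∀ v w : V, v ≠ 0 → w ≠ 0 → ∃ h : σ.range, σ.range.subtype h v = w := by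
    intro v w hv hw
    obtain ⟨g, hg⟩ := hpair _ _ (hmov v hv) (hmov w hw)
    rcases hg with ⟨hga, hgb⟩ | ⟨hga, hgb⟩
    · refine ⟨⟨_, ⟨(⟨g, hga⟩, 1), rfl⟩⟩, ?_⟩
      show cl g (signHom p V 1 v) = w
      rw [map_one]
      refine hbij.1 ?_
      show τ (cj g v) • a = τ w • a
      rw [hconj g hga, hgb]
    · have h4 : ((τ w)⁻¹ * g) • a = a := by rw [mul_smul, hga, inv_smul_smul]
      refine ⟨⟨_, ⟨(⟨(τ w)⁻¹ * g, h4⟩, -1), rfl⟩⟩, ?_⟩
      show cl ((τ w)⁻¹ * g) (signHom p V (-1) v) = w
      have hs : signHom p V (-1) v = -v := by simp [signHom]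
      have h5 : cl ((τ w)⁻¹ * g) v = -w := by
        refine hbij.1 ?_
        show τ (cj ((τ w)⁻¹ * g) v) • a = τ (-w) • a
        rw [hconj _ h4, mul_smul, hgb, hneg]
      rw [hs, map_neg, h5, neg_neg]
  rcases Cfsg.Lib.Recog.SolvTrans.classification σ.range.subtype Subtype.coe_injective htrans with
    ⟨F, iF, iFt, e₀, he₀⟩ | hexc
  swap
  · exfalso
    rw [hV] at hexc
    simp only [Set.mem_insert_iff, Set.mem_singleton_iff] at hexc
    omega
  have hcF : Fintype.card F = p ^ f := by
    rw [← Nat.card_eq_fintype_card, ← Nat.card_congr e₀.toEquiv, hV]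
  haveI : Fintype (GaloisField p f) := Fintype.ofFinite _
  let φ : F ≃+* GaloisField p f := FiniteField.ringEquivOfCardEq (by
    rw [hcF, ← Nat.card_eq_fintype_card, GaloisField.card p f hf0])
  let ι : GaloisField p f ≃+ V := (e₀.trans φ.toAddEquiv).symm
  let E : GaloisField p f ≃ Ω := ι.toEquiv.trans (Equiv.ofBijective _ hbij)
  have hE : ∀ x, E x = τ (ι x) • a := fun x => rfl
  refine ⟨E.symm, fun g => ?_, fun b => ⟨τ (ι b), fun x => ?_⟩⟩
  · obtain ⟨b, hb⟩ := E.surjective (g • a)
    rw [hE] at hb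
    have hh : ((τ (ι b))⁻¹ * g) • a = a := by rw [mul_smul, ← hb, inv_smul_smul]
    obtain ⟨c, s, hcs⟩ := he₀ ⟨_, ⟨(⟨(τ (ι b))⁻¹ * g, hh⟩, 1), rfl⟩⟩
    have hcs' : ∀ v, e₀ (cl ((τ (ι b))⁻¹ * g) v) = c * s (e₀ v) := fun v => by
      rw [← hcs v]
      show _ = e₀ (cl ((τ (ι b))⁻¹ * g) (signHom p V 1 v))
      rw [map_one]
      rfl
    have hc0 : φ c ≠ 0 := by
      intro h0
      rw [map_eq_zero_iff φ φ.injective] at h0
      obtain ⟨v, hv⟩ := exists_ne (0 : V)
      have h2 := hcs' v
      rw [h0, zero_mul, ← map_zero e₀] at h2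
      exact hv ((cl _).map_eq_zero_iff.1 (e₀.injective h2))
    refine ⟨Units.mk0 (φ c) hc0, b, (φ.symm.trans s).trans φ, fun x => ?_⟩
    show E.symm (g • E x) = φ c * φ (s (φ.symm x)) + b
    refine E.injective ?_
    rw [Equiv.apply_symm_apply, hE, hE, add_comm, map_add, hτadd, mul_smul (τ (ι b))]
    have h2 : cj ((τ (ι b))⁻¹ * g) (ι x) = ι (φ c * φ (s (φ.symm x))) := by
      refine e₀.injective ((hcs' _).trans ?_)
      show c * s (e₀ (e₀.symm (φ.symm x))) = e₀ (e₀.symm (φ.symm (φ c * φ (s (φ.symm x)))))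
      rw [AddEquiv.apply_symm_apply, AddEquiv.apply_symm_apply, ← map_mul, RingEquiv.symm_apply_apply]
    rw [← h2, hconj _ hh, ← mul_smul (τ (ι b)), mul_inv_cancel_left]
  · refine E.injective ?_
    rw [Equiv.apply_symm_apply, hE, add_comm, map_add, hτadd, mul_smul, ← hE (E.symm x),
      Equiv.apply_symm_apply]

/-- A two-homogeneous group moves pairs to pairs. -/
theorem exists_pair (G : Subgroup (Equiv.Perm α))
    (h2 : MulAction.IsPretransitive G (Set.powersetCard α 2)) {a b c d : α} (hab : a ≠ b) (hcd : c ≠ d) :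
    ∃ g : G, (g • a = c ∧ g • b = d) ∨ (g • a = d ∧ g • b = c) := by
  obtain ⟨g, hg⟩ := h2.exists_smul_eq (⟨{a, b}, Finset.card_pair hab⟩ : Set.powersetCard α 2)
    ⟨{c, d}, Finset.card_pair hcd⟩
  refine ⟨g, ?_⟩
  have hg' : g • ({a, b} : Finset α) = {c, d} := congrArg Subtype.val hg
  have ha : g • a ∈ ({c, d} : Finset α) := hg' ▸ Finset.smul_mem_smul_finset (by simp)
  have hb : g • b ∈ ({c, d} : Finset α) := hg' ▸ Finset.smul_mem_smul_finset (by simp)
  have hne : g • a ≠ g • b := fun h => hab (MulAction.injective g h)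
  simp only [Finset.mem_insert, Finset.mem_singleton] at ha hb
  rcases ha with ha | ha <;> rcases hb with hb | hb
  · exact absurd (ha.trans hb.symm) hne
  · exact Or.inl ⟨ha, hb⟩
  · exact Or.inr ⟨ha, hb⟩
  · exact absurd (ha.trans hb.symm) hne

/-- A nontrivial permutation group of degree two is doubly transitive. -/
theorem three_le_card [Fintype α] (G : Subgroup (Equiv.Perm α)) (hne : G ≠ ⊥)
    (hn2 : ¬ MulAction.IsMultiplyPretransitive G α 2) : 3 ≤ Fintype.card α := by
  classical
  by_contra hlt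
  push Not at hlt
  rcases Nat.lt_or_ge (Fintype.card α) 2 with h1 | h1
  · haveI : Subsingleton α := Fintype.card_le_one_iff_subsingleton.1 (by omega)
    exact hne ((Subgroup.eq_bot_iff_forall G).2 fun x _ => Equiv.ext fun y => Subsingleton.elim _ _)
  · have hP : Nat.card (Equiv.Perm α) = 2 := by
      rw [Nat.card_perm, Nat.card_eq_fintype_card, show Fintype.card α = 2 by omega]
      rfl
    have hG : G = ⊤ := by
      refine Subgroup.eq_top_of_le_card G ?_
      rw [hP]
      exact (Subgroup.one_lt_card_iff_ne_bot G).2 hne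
    apply hn2
    rw [MulAction.is_two_pretransitive_iff]
    intro a b c d hab hcd
    have hall : ∀ x : α, x = a ∨ x = b := by
      intro x
      by_contra hx
      push Not at hx
      have : ({x, a, b} : Finset α).card ≤ 2 := le_trans (Finset.card_le_univ _) (by omega)
      rw [Finset.card_insert_of_notMem (by simp [hx.1, hx.2]), Finset.card_pair hab] at this
      omega
    rcases hall c with rfl | rfl <;> rcases hall d with rfl | rfl
    · exact absurd rfl hcd
    · exact ⟨1, one_smul _ _, one_smul _ _⟩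
    · exact ⟨⟨Equiv.swap d c, hG ▸ Subgroup.mem_top _⟩, Equiv.swap_apply_left d c,
        Equiv.swap_apply_right d c⟩
    · exact absurd rfl hcd

/-- Kantor's theorem, given that groups of odd order are solvable. -/
theorem two_homogeneous_not_two_transitive (hFT : OddSolvable.{u}) [Fintype α]
    (G : Subgroup (Equiv.Perm α)) (hne : G ≠ ⊥)
    (h2 : MulAction.IsPretransitive G (Set.powersetCard α 2))
    (hn2 : ¬ MulAction.IsMultiplyPretransitive G α 2) :
    Odd (Nat.card G) ∧ ∃ (p f : ℕ) (_ : Fact p.Prime), p ≠ 2 ∧ Fintype.card α = p ^ f ∧ p ^ f % 4 = 3 ∧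
      ∃ e : α ≃ GaloisField p f,
        (∀ g : G, e.symm.trans (((g : Equiv.Perm α)).trans e) ∈ Cfsg.semiaffineGroup (GaloisField p f)) ∧
        ∀ b : GaloisField p f, ∃ g : G, ∀ x : α, e ((g : Equiv.Perm α) x) = e x + b := by
  classical
  have hα := three_le_card G hne hn2
  obtain ⟨heven, hprim⟩ := Cfsg.Agent.S0735.result G h2 hα
  haveI := hprim hne
  have hodd : Odd (Nat.card G) := Nat.not_even_iff_odd.1 fun h => hn2 (heven h)
  refine ⟨hodd, ?_⟩
  haveI : Group.IsSolvable G := hFT G hodd
  haveI : Nontrivial G := (Subgroup.nontrivial_iff_ne_bot G).2 hne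
  haveI : Nontrivial α := Fintype.one_lt_card_iff_nontrivial.1 (by omega)
  -- a regular normal elementary abelian subgroup
  obtain ⟨M, hM⟩ := Cfsg.Lib.Core.exists_isMinNormal_univ (G := G)
  haveI := hM.1
  obtain ⟨hMab, p, hp, hMpow, hMp⟩ := Cfsg.Lib.Core.minimal_solvable_elementary hM inferInstance
  haveI := Fact.mk hp
  haveI hMt : MulAction.IsPretransitive M α := by
    refine MulAction.IsQuasiPreprimitive.isPretransitive_of_normal fun h => hM.2.1 ?_
    refine (Subgroup.eq_bot_iff_forall M).2 fun x hx => Subtype.ext (Equiv.ext fun y => ?_)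
    have hy : y ∈ MulAction.fixedPoints M α := h.symm ▸ Set.mem_univ y
    exact hy ⟨x, hx⟩
  have hMc : ∀ x ∈ M, ∀ y ∈ M, x * y = y * x := fun x hx y hy =>
    congrArg Subtype.val (hMab.is_comm.comm ⟨x, hx⟩ ⟨y, hy⟩)
  have hreg : ∀ c : α, ∀ r ∈ M, r • c = c → r = 1 := by
    intro c r hr hrc
    refine Subtype.ext (Equiv.ext fun y => ?_)
    obtain ⟨⟨s, hs⟩, rfl⟩ := hMt.exists_smul_eq c y
    show r • s • c = s • c
    rw [smul_smul, hMc r hr s hs, mul_smul, hrc]
  obtain ⟨a⟩ : Nonempty α := inferInstance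
  have hbijM : Function.Bijective fun r : M => (r : G) • a := by
    refine ⟨fun r s h => Subtype.ext (inv_mul_eq_one.mp (hreg a _ (M.mul_mem (M.inv_mem s.2) r.2)
        (by rw [mul_smul, show (r : G) • a = (s : G) • a from h, inv_smul_smul]))).symm, fun y => ?_⟩
    exact hMt.exists_smul_eq a y
  obtain ⟨f, hf⟩ := IsPGroup.iff_card.1 hMp
  have hαf : Fintype.card α = p ^ f := by
    rw [← hf, ← Nat.card_eq_fintype_card]
    exact (Nat.card_congr (Equiv.ofBijective _ hbijM)).symm
  have hpG : p ^ f ∣ Nat.card G := hf ▸ Subgroup.card_subgroup_dvd_card M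
  have hf0 : f ≠ 0 := fun h => by rw [h, pow_zero] at hαf; omega
  have hp2 : p ≠ 2 := fun h => Nat.not_even_iff_odd.2 hodd
    (even_iff_two_dvd.2 (h ▸ (dvd_pow_self p hf0).trans hpG))
  have hmod : p ^ f % 4 = 3 := by
    have hdvd : (p ^ f).choose 2 ∣ Nat.card G := by
      haveI := h2
      obtain ⟨x, y, hxy⟩ := exists_pair_ne α
      rw [← hαf, ← Nat.card_eq_fintype_card, ← Set.powersetCard.card,
        ← MulAction.index_stabilizer_of_transitive G
          (⟨{x, y}, Finset.card_pair hxy⟩ : Set.powersetCard α 2)]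
      exact Subgroup.index_dvd_card _
    have hch : Odd ((p ^ f).choose 2) := Odd.of_dvd_nat hodd hdvd
    rw [Nat.choose_two_right] at hch
    have hpf : p ^ f % 2 = 1 := Nat.odd_iff.1 (Odd.of_dvd_nat hodd hpG)
    rcases (show p ^ f % 4 = 1 ∨ p ^ f % 4 = 3 by omega) with h | h
    · exfalso
      obtain ⟨k, hk⟩ : ∃ k, p ^ f = 4 * k + 1 := ⟨p ^ f / 4, by omega⟩
      rw [hk, Nat.add_sub_cancel, show (4 * k + 1) * (4 * k) = 2 * (2 * ((4 * k + 1) * k)) by ring,
        Nat.mul_div_cancel_left _ two_pos] at hch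
      exact Nat.not_even_iff_odd.2 hch (even_two_mul _)
    · exact h
  refine ⟨p, f, inferInstance, hp2, hαf, hmod, ?_⟩
  -- the vector space and the stabiliser
  letI : CommGroup M := { (inferInstance : Group M) with
    mul_comm := fun x y => Subtype.ext (hMc _ x.2 _ y.2) }
  letI : Module (ZMod p) (Additive M) := AddCommGroup.zmodModule fun v =>
    congrArg Additive.ofMul (Subtype.ext (hMpow _ (Additive.toMul v).2) :
      (Additive.toMul v) ^ p = 1)
  let cj : G → Additive M →+ Additive M := fun g =>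
    { toFun := fun v => Additive.ofMul
        ⟨g * ((Additive.toMul v : M) : G) * g⁻¹, hM.1.conj_mem _ (Additive.toMul v).2 g⟩
      map_zero' := Additive.toMul.injective (Subtype.ext (show g * 1 * g⁻¹ = 1 by group))
      map_add' := fun v w => Additive.toMul.injective (Subtype.ext (by
        show g * (((Additive.toMul v : M) : G) * ((Additive.toMul w : M) : G)) * g⁻¹ =
          g * ((Additive.toMul v : M) : G) * g⁻¹ * (g * ((Additive.toMul w : M) : G) * g⁻¹)
        group)) }
  have hcj : ∀ g h v, cj g (cj h v) = cj (g * h) v := fun g h v => Additive.toMul.injective (Subtype.ext (by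
    show g * (h * ((Additive.toMul v : M) : G) * h⁻¹) * g⁻¹ =
      g * h * ((Additive.toMul v : M) : G) * (g * h)⁻¹
    group))
  have hcj1 : ∀ v, cj 1 v = v := fun v => Additive.toMul.injective (Subtype.ext (by
    show 1 * ((Additive.toMul v : M) : G) * 1⁻¹ = ((Additive.toMul v : M) : G)
    group))
  have hconj : ∀ g : G, g • a = a → ∀ v : Additive M,
      ((Additive.toMul (cj g v) : M) : G) • a = g • ((Additive.toMul v : M) : G) • a := by
    intro g hg v
    show (g * ((Additive.toMul v : M) : G) * g⁻¹) • a = _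
    rw [mul_smul, mul_smul, show g⁻¹ • a = a by rw [inv_smul_eq_iff, hg]]
  obtain ⟨e, he1, he2⟩ := semilinear_coordinates (p := p) (f := f) a
    (fun v : Additive M => ((Additive.toMul v : M) : G)) (fun x y => rfl) rfl
    (hbijM.comp Additive.toMul.bijective) cj hcj1 hcj hconj
    (fun b c hb hc => exists_pair G h2 hb.symm hc.symm) hf0 hf hmod
  refine ⟨e, fun g => ?_, he2⟩
  obtain ⟨c, b, s, hcbs⟩ := he1 g
  exact ⟨c, b, s, hcbs⟩

end Cfsg.Lib.FTCons
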